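import Cfsg.Agent.Known.L34Tab
import Cfsg.Agent.Known.MatRep2
import Cfsg.Agent.S0243

/-! PSL(3,4) is isomorphic to its model (helper25): `equiv`. -/

set_option maxRecDepth 100000
set_option exponentiation.threshold 100000

namespace Cfsg.Agent.Known.L34T

open Cfsg.Agent.Comp Matrix

def As : List (List ℕ) := [[4616,33353,36872,4105,37441,4168],[37385,4673,4161,33288,36872,4105],[8,9,512,576,32768,36864]]

def Ls : List (List (List ℕ)) := [[[2,2,1],[2,0,3],[1,3,3]],[[3,1,2],[2,1,0],[3,1,3]]]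

noncomputable def vt : ℕ := (nat_lit 0x1249049201241049001209048201201048001049041201041041001009040201001040000049001200041001000001)

theorem pts : chkPts 3 7 2 6 As 2 2 21 (get2 18 vt) = true := by decide +kernel

def us : List (List ℕ) := [[2,9,7,6,4,1],[9,2,8,4,2,1,0]]

theorem mdl2 : Mdl L34P.φ 21 2 20160 (fun j => W y (nthL [] us j)) (fun j => actW act (nthL [] us j)) [5,2,1,0] :=
  mdl.words us [[1,0,1,0,1,1,1,0,1,0,1,1,1,1,1,1,0,1,0,1,1,1,0,1,0,1],[0,1,0,1,1,1,0,1,1,1,0,1,0,1,1,1,0,1,0,1,0,1,1,1,0,1,1,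
  1,0,1,1,1,1,1,1,0,1,1,1,0,1,0,1,1,0,1],[0,1,0,1,1,1,0,1,1,1,0,1,0,1,1,1,0,1,0,1,0,1,1,1,0],[1,0,1,0,1,1,1,0,1,
  0,1,1,1,0,1,1,1,0,1,0,1,1,1,0,1,0,1],[0,1,1,1,0,1,0,1,1,1,0,1,1,0,1,1,0,1,0,1,1,1,0,1,0,1,1,1,1,1,1,0,1,0,1,1,
  1,0,1,0,1],[1,1,1,0,1,1,1,0,1,0,1,1,1,0,1,1,0,1,1,1,0,1,0,1,1,1,0,1,1,1,1,1,1,0,1,1,1,1,1,1,0,1,0,1,1,1,0,1,
  0],[1,0,1,1,1,1,1,1,0,1,1,1,0,1,0,1,1,1,1,1,1,0,1,0,1,1,1,0,1,1,0,1,0,1,1,1,0,1,1,1,0,1,1,1,1,1,1,0,1,0,1,0,1,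
  1,0,1,1,1,1,1,1],[1,1,1,0,1,0,1,1,1,0,1,0,1,1,1,0,1,0,1,1,1,0,1,1,0,1,1,0,1,0,1,1,1,0,1,0,1,1,1,1,1,1,0,1,0,1,
  1,1,0,1,0,1],[1,1,1,0,1,1,1,0,1,0,1,1,1,0,1,1,0,1,1,1,0,1,0,1,1,1,0,1,1,1,1,1,1,0,1,1,1,1,1,1,0,1,0,1,1,1,0,1,
  0,1,1,1,0,1,0,1,1,1,0,1],[0,1,1,1,0,1,0,1,0,1,1,1,0,1,1,1,0,1,1,1,0,1,1,1,1,1,1,0,1,0,1,0,1,1,0,1,1,1,1,1,1]] (by decide +kernel)

theorem acts0 : ∀ j < 1, chkAct 3 7 2 6 As 2 2 21 (get2 18 vt) j (actW act (nthL [] us j)) = true :=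
  forall_lt_add (a := 0) (b := 1) (fun _ h => absurd h (Nat.not_lt_zero _)) (by decide +kernel)

theorem acts : ∀ j < 2, chkAct 3 7 2 6 As 2 2 21 (get2 18 vt) j (actW act (nthL [] us j)) = true :=
  forall_lt_add (a := 1) (b := 1) acts0 (by decide +kernel)

theorem cen : Subgroup.center L34P.G = ⊥ :=
  mdl.center_eq_bot 0 [[7,0,1]]
    [[],[8,2,9,8,8,2],[8,8,9,7,7,5,2],[4,8,9,2,7,2,3]] (by decide +kernel)

theorem mr : Spor.MatRep (matOf dec4 (Equiv.refl (Fin 3)) Ls) 3 7 2 (3 * 2) As 2 (phiR Spor.F4.reg (Equiv.refl (Fin 3))) :=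
  matRep_phiR' Spor.F4.reg_inj (Equiv.refl (Fin 3)) (by decide +kernel) (by decide +kernel)

theorem equiv {F : Type*} [Field F] [Fintype F] (hF : Fintype.card F = 4) : Nonempty (ProjectiveSpecialLinearGroup (Fin 3) F ≃* L34P.G) := by
  obtain ⟨e⟩ := exists_ringEquiv Spor.F4 F (Spor.F4.card.trans hF.symm)
  have h := S0243.result hF 3 (by decide)
  simp only [Fin.prod_univ_succ, Fin.prod_univ_zero] at h
  exact mdl2.equiv_quot' (mrep_SL e mr (det_of_chk mr 4 (by decide +kernel) (by decide +kernel))) pts acts cen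
    (by simp [ProjectiveSpecialLinearGroup] at h; omega)

end Cfsg.Agent.Known.L34T
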