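import Cfsg.Agent.Known.Fi23OutB
import Cfsg.Agent.Known.Fi23OutC

/-! The outer automorphism group of `Cfsg.Spor.Fi23` (generated certificate, helper25). -/

set_option maxRecDepth 100000
set_option exponentiation.threshold 100000
set_option Elab.async false

namespace Cfsg.Agent.Known.Fi23O

open Cfsg.Agent.Comp

theorem rel : relOk act 31671 [16,1,0,4,19093,28721,31173,31489,31488,31648] cw vw hw 10 11 17 2 1 31648 rels = true := by decide +kernel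

theorem top : Subgroup.closure {W y cw, y 11, W y vw} = ⊤ :=
  mdl.top_of (us := [[9,7,5,8,6,5,4,3,2,0,1,2,3,5,8,4,3,9,8,2,3,4,5,6,7,3,9,8,5,6,4,5,3,4,3,8,2,1,3,4,2,3,5,8,4,0,9,3,1,8,2,3,4,5,
  6,8,9,3,1,8,2,3,4,5,8,2,9,3,8,1,2,3,4,9,8,3,2,3,9,8,3,9],[11],[3,1,4,5,6,4,2,0,3,9,8,9,4,3,5,4,2,3,1,8,2,3,4,
  5,6,7,6,8,3,4,9,0,8,1,3,2,5,6,8,3,4,5,3,8,4,2,1,2,3,8,4,2,0,9,3,1,8,2,3,4,5,6,9,8,3,4,2,9,3,1,8,2,3,4,5,8,3,2,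
  4,9,3,8,1,2,3,4,8,3,9,2,8,1,3,2,1,0,3],[9,3,8,9,3,2,3,8,9,4,3,2,1,8,3,9,2,8,5,4,3,2,8,1,3,9,8,6,5,4,3,2,8,1,3,
  9,0,4,8,5,3,2,4,3,1,2,8,3,4,3,5,4,6,5,8,9,3,7,6,5,4,3,2,8,9,3,4,8,5,3,2,1,0,2,3,4,5,6,8,5,7,9],[11,11,11,11,
  11,11,11,11,11,11,11,11,11,11,11],[3,0,1,2,3,1,8,2,9,3,8,4,3,2,1,8,3,9,4,2,3,8,5,4,3,2,8,1,3,9,2,4,3,8,9,6,5,
  4,3,2,8,1,3,9,0,2,4,8,3,2,1,2,4,8,3,5,4,3,8,6,5,2,3,1,8,0,9,4,3,8,6,7,6,5,4,3,2,8,1,3,2,4,5,3,4,9,8,9,3,0,2,4,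
  6,5,4,1,3]])
    (defs := [[5,0,4,2,3,5,4,0,2,0,5,0,2,3,4,0,1,5,1,1,3,1,0,5,3,2,3,5,3,1,2,0,5,1,3,2],[0,0,2,3,2,0,0,2,0,1,1,3,1,0,2,0,5,
  0,5,5,5,0,5,3,3],[4,2,4,0,2,3,1,2,0,5,3,5,0,5,0,1,3,2,4,4,4,0,4,3,2,3,2,0,2,3,5,4,0,5,3,1,5,1],[0,0,2,0,5,3,5,
  4,3,4,0,2,0,4,0,2,0,2,3,5,3,3],[4,3,2,4,0,0,5,0,5,0,5,0,4,5,3,3,3,5,1,0,1,1,0,2,1,3,2,3,2,3,2,3,3,1,5,0,1],[2,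
  0,0,2,0,0,5,0,5,0,5,4,0,2,0,2,0,1,0,2,0,5,0,5,5,3,5,3,1,5,3,2,3,1,1,0,5,0,4,5,3,5,5,5,0,2,0,5,0,2,4,3,4,3,3,2,
  3,4,0,1,3,5,1,0,4,3,5,0,1,5,1,1,3,2,4,0,5,0,5,0,4,0,5,3,5,3,2,3,1,3,2,0,1,0,2,0,2,1,0,2,0,0,4,0,2,4,3,4,2,4,3,
  4,3,2,1,3,4,5,0,5,5,3,4,2,0,2,3,5,3,2,0,0,4,0,2,0,2,3,2,3,5,0,1,5,3,5,4,3,5,5,0,5,0,5,5,5,3,5,3,4,3,5,3,2,3,2,
  0,0,2,3,2,0,0,2,0,1,1,3,1,0,2,0,5,0,5,5,5,0,5,3,2,0,2,3,3,2,0,5,4,3,5,5,5,5,0,1,0,5,0,5,0,0,4,2,0,0,5,3,5,3],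
  [0,2,0,2,4,3,1,0,2,0,5,0,5,0,2,0,5,0,0,2,0,2,4,3,5,3,2,3,5,1,0,5,0,2,1,0,2,3,5,1,3,3,5,0,2,0,1,0,2,3,2,2,0,4,
  2,0,2,0,5,0,4,0,2,3,3,5,4,3,3,5,3,5,3,1,0,5,0,5,5,5,3,5,3,4,3,5,3,2,3,4,0,2,0,2,4,0,5,0,5,0,4,0,5,3,5,1,0,5,4,
  3,4,2,0,2,3,5,3,2,0,0,4,0,2,0,2,3,2,3,5,0,1,5,3,5,4,3,5,0,0,2,0,5,3,5,4,3,4,0,2,0,4,0,2,0,2,3,3,2,0,0,2,0,1,1,
  3,1,0,2,0,5,0,5,5,5,0,5,3,2,0,2,3,3,2,0,5,4,3,5,5,5,5,0,1,0,5,0,5,0,0,4,2,0,0,5,3,5,3],[4,2,3,1,0,2,3,5,4,3,3,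
  4,2,3,5,0,2,3,5,0,2,0,0,4,0,2,0,5,3,2,0,2,4,0,0,2,0,5,4,4,4,3,2,0,5,4,0,5,3,1,5,1,1,0,2,3,1,3,2,0,2,0,4,5,0,5,
  0,5,5,5,3,5,3,4,3,5,3,2,3,2,1,3,5,3,5,0,4,2,0,5,3,3,5,5,0,0,2,0,5,3,5,4,3,4,0,2,0,4,0,2,0,2,3,5,3,3,2,2,0,0,2,
  3,3,4,2,3,4,5,0,0,5,0,1,0,2,0,5,3,1,2,1,1,0,5,1,0,5,5,0,4,2,3,5,4,0,2,0,5,0,2,3,4,0,1,5,1,1,3,1,0,5,3,2,3,5,3,
  1,2,0,5,1,3,2,0,0,2,1,3,1,5,0,2,3,5,0,5,3,1,5,1,1,0,2,3,2,0,5,3,2,4,0,4,3,2,0,0,2,0,1,1,3,1,0,2,0,5,0,5,5,5,0,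
  5,3,3],[4,2,3,5,3,5,3,3,2,3,1,3,2,0,1,0,2,0,2,1,0,2,0,0,4,4,0,2,0,2,0,5,1],[0,2,0,2,3,3,2,0,5,4,3,5,5,5,5,0,1,
  0,5,0,5,0,0,4,2,0,0,5,3,5,3]])
    (by decide +kernel) (by decide +kernel) ⟨rfl, rfl, rfl⟩

theorem data : OutData (W y cw) (y 11) (W y vw) (W y v0w) 1 :=
  mdl.outData (by norm_num) rel (by decide +kernel) top (mdl.cent tpc) tpt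

theorem out : Nat.card (Cfsg.Out Cfsg.Spor.Fi23) = 1 := data.one

end Cfsg.Agent.Known.Fi23O
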