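import Cfsg.Agent.Known.J1Up

/-! The Schur multiplier of the model of J1 (generated certificate, helper25): `mult`. -/

set_option maxRecDepth 100000
set_option exponentiation.threshold 100000

namespace Cfsg.Agent.Known.J1T

open Cfsg.Agent.Spor

theorem lifts : Lifts Spor.MdJ1.g 4 Spor.JJ1m2.rels :=
  lifts_of_cardLe Spor.MdJ1.rep.top Spor.MdJ1.hg (by decide +kernel) (by decide) Spor.MdJ1.card fun H _ h h0 hr =>
    genW_sing h _ ▸ Spor.MdJ1.up H h h0 hr

theorem mult : HasCyclicSchurMultiplier Spor.MdJ1.G 1 :=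
  cyc_one_of_bnd sb

end Cfsg.Agent.Known.J1T
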