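import Cfsg.Agent.Known.J1Tab
import Cfsg.Agent.Known.Out
import Cfsg.Agent.Known.J1Mul

/-! The outer automorphism group of `Spor.MdJ1.G` (generated certificate, helper25). -/

set_option maxRecDepth 100000
set_option exponentiation.threshold 100000
set_option Elab.async false

namespace Cfsg.Agent.Known.J1O

open Cfsg.Agent.Comp

noncomputable def t4 : ℕ := (nat_lit 0x202b8603ac64806a3e16ebf49a6d8843843e612546aa8d44e826a746a5e6c2c4d4ee1e1ce0a241cab9fcf745c1d103e68b98e4a04c41150e14f8c4a65013a1584a67484990d956b69ba712b8b066f20d92da60f678d16ce5473d559027db9dbeb331834dc7927bf026663a2d1fea75d1312c5250ac8900c32a1d0c612d1edc630222bc923638229fa0a08bb0b0ea0e2108cbe7b2697b001ba55282b469f0bed20431998d6819d4fa07129e1a08f0f05ddaf3349e9c02d780593cb9253bc44c336b8982551d0413856491880afa522d59a4e2032442ce722a54af12e981782a3226482813b1a0407e6f0e20c6701a09ae7f65b1cee420f9ac303f36370b6262c91c0497488a0deab28b29e81a460058a14418edb6901e8bd545c14aed600b0e8b912060c88c0845070242a00)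

theorem h4 : TabOf 266 9 t4 (Spor.ev (Spor.PP Spor.JJ1m2.nets) [2,0,0])⁻¹ :=
  tabOf_of_chk (L := 9) Spor.JJ1m2.ok _ (by decide +kernel)

noncomputable def t5 : ℕ := (nat_lit 0xec8717bed14a87e2d1e4d929c09ec507a2c5a0848285e02885f964846c7c06c5adf1a9d0862860a18e6ef76b9446b647101d833370f0d2582d15028a36a0549ae265201543d4cab610c613be9a70084b2e0c183da79fa9f4841de65c20b39ba6859114567a109a9847233335c0306412574ae2f01058ea618b94c2048aec482a823149eb7318e026ac14ad542d63e20c6c6268a3134851d3604c8d55ba406895c155720652864ca9d81b903e4a0eaa538c77a945987859b9c14a75f1fc1a0c6f09540b01933cc009040dcf2777181dfcaf29120fceb3aba180112b868c2c42b26c386b25bc530bd5e3dc029264b49fe706a96cba3e731f5c2db27039e03f02878241026289f2934a8ed2c390125102316e11904da4b9bcc8d7339108e5f770d1160f05a90448f369c40016)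

theorem h5 : TabOf 266 9 t5 (Spor.ev (Spor.PP Spor.JJ1m2.nets) [1,2,0,3])⁻¹ :=
  tabOf_of_chk (L := 9) Spor.JJ1m2.ok _ (by decide +kernel)

noncomputable def tabs : List ℕ := [J1T.t0, J1T.t1, J1T.t2, J1T.t3, t4, t5]

def wds : List (List ℕ) := [[0],[1],[2],[3],[2,0,0],[1,2,0,3]]

noncomputable def y (i : ℕ) : Spor.MdJ1.G := (Spor.ev Spor.MdJ1.g (nthL [0] wds i))⁻¹

noncomputable def act (i : ℕ) : ℕ → ℕ := get2 9 (nthL J1T.t0 tabs i)

theorem mdl : Mdl Spor.MdJ1.φ 266 4 175560 y act [1,131,0] :=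
  mdl_of_tabs Spor.MdJ1.rep (actBy_tabs Spor.MdJ1.rep (.cons J1T.h0 (.cons J1T.h0 (.cons J1T.h1 (.cons J1T.h2 (.cons J1T.h3 (.cons h4 (.cons h5 (.nil)))))))) (by decide +kernel))
    J1T.base (by decide) Spor.MdJ1.card (by decide)

def cw : List ℕ := [2,0,3,2,3,2,0,0,2,1,2]

def vw : List ℕ := [3]

def hw : List ℕ := [0,0,2,3,0,3,1,1,2,0,2,1]

def v0w : List ℕ := [3]

def rels : List (List ℕ) := [[2,1,1,1,0,1,1,1,2,1,1,1,0,2,1,1,1,0,1,1,1,2,1,1,1,0,2,1,1,1,0,1,1,1,2,1,1,1,0]]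

noncomputable def pa0 : ℕ := (nat_lit 0x200a000000000000000000000000600000000000000000000000000000000000005000000004000000000000000000000000000000000000307000900000000000000000000000000000000000000000000000080b00000000000000000000000000000000100000000000000000000000000000000000000000000000000000000000)

noncomputable def ea0 : ℕ := (nat_lit 0x2e0302011e11782498ce905862ae834a8905007610e00)

def wa0 : List (List ℕ) := [[2,0,3,0,2],[1,2,3,2,0,3,1],[2,1,3,1,2],[0,3,1,2,3,2,0],[0,0,2,3,0,3,0],[1,3,1,3,2,1,1],[3,1,3,1,1,2,3,0]]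

noncomputable def La0 (e : ℕ) : Lv := ⟨56, 12, wa0, (get2 4 pa0), (get2 15 ea0), 4, e⟩

theorem ka0_0 : ∀ x < 12, (La0 0).chk act 266 x = true :=
  forall_lt_add (a := 0) (b := 12) (fun _ h => absurd h (Nat.not_lt_zero _)) (by decide +kernel)

theorem oka0 (e : ℕ) : LvOk act 266 [15] (La0 e) :=
  show LvOk act 266 [15] (La0 0) from ⟨by decide +kernel, ka0_0⟩

noncomputable def pa1 : ℕ := (nat_lit 0x8007000000000000000000000000a00000000000000000000000000000000000002000000006000000000000000000000000000000000000501000900000000000000000000000000000000000000000000000000400000000000000000000000000000000300000000000000000000000000000000000000000000000000000000000)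

noncomputable def ea1 : ℕ := (nat_lit 0xe9091e341418100ba0d2a117051d88c3052601780)

def wa1 : List (List ℕ) := [[1,3,1,3,0,2,1,2,0],[1,2,0,2,1,3,0,3,0],[0,0,3,2,0,3,2,0,0,2],[1,3,1,2,0,3,2,3,0,2],[2,0,3,2,3,2,0,2,1,2],[2,
  0,2,1,1,3,0,2,1,2],[2,0,2,1,2,3,2,3,1,2]]

noncomputable def La1 (e : ℕ) : Lv := ⟨94, 11, wa1, (get2 4 pa1), (get2 15 ea1), 7, e⟩

theorem ka1_0 : ∀ x < 11, (La1 0).chk act 266 x = true :=
  forall_lt_add (a := 0) (b := 11) (fun _ h => absurd h (Nat.not_lt_zero _)) (by decide +kernel)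

theorem oka1 (e : ℕ) : LvOk act 266 [56,15] (La1 e) :=
  show LvOk act 266 [56,15] (La1 0) from ⟨by decide +kernel, ka1_0⟩

noncomputable def pa2 : ℕ := (nat_lit 0x800000000600000000000000000000000000000000000000000000000000000080000000000000000000000000000000000000000008000000000000000000000000000000000000000000000000000000000000000000000000000000)

noncomputable def ea2 : ℕ := (nat_lit 0x3dc3eb0a8816900a40)

def wa2 : List (List ℕ) := [[0,3,0,2,1,3,0,2,3,1],[0,3,2,1,3,0,2,1,3,1],[1,2,3,2,3,1,2,1,1,2,3,1],[0,3,2,0,0,2,0,3,2,3,2,0]]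

noncomputable def La2 (e : ℕ) : Lv := ⟨41, 5, wa2, (get2 3 pa2), (get2 14 ea2), 1, e⟩

theorem ka2_0 : ∀ x < 5, (La2 0).chk act 266 x = true :=
  forall_lt_add (a := 0) (b := 5) (fun _ h => absurd h (Nat.not_lt_zero _)) (by decide +kernel)

theorem oka2 (e : ℕ) : LvOk act 266 [94,56,15] (La2 e) :=
  show LvOk act 266 [94,56,15] (La2 0) from ⟨by decide +kernel, ka2_0⟩

noncomputable def tra : ℕ := (nat_lit 0x1c92175c05345c5042845681150ea0adae021b52889da0a02aaa941460094d0aa8c1b52848753ac5214b2d56048586da854db46c2218154109026cd2156c3688742529a2014395bb6d92c2004d062c84831d6510d0685525ad9b2d5115590ad6d564a08b)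

noncomputable def nxa (z : ℕ) : List ℕ := force ((get2 3 tra) z) fun j => [j]

noncomputable def Cc : List Lv := [La0 4, La1 7, La2 1]

theorem sc_0 : ∀ x < 266, sieve act 4 6 15 nxa (testZ act [1,131,0] 4 11) Cc x = true :=
  forall_lt_add (a := 0) (b := 266) (fun _ h => absurd h (Nat.not_lt_zero _)) (by decide +kernel)

theorem tpc (h : Spor.MdJ1.G) (hh : h * y 4 = y 4 ^ 1 * h) : ∃ acc, h = WW y acc ∧ (testZ act [1,131,0] 4 11) acc = true :=
  mdl.transp (o := 11) (Ls := Cc) (.cons (oka0 _) (.cons (oka1 _) (.cons (oka2 _) (.nil)))) (by decide +kernel) sc_0 hh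

noncomputable def pb0 : ℕ := (nat_lit 0x80000000000000000000a000000000000700300000001000060000000000000000000000000000050040000000000000000000000000000200000000000000000000000000000000900000000000000000000000000000000000000000000000000000000000000000000000000000000000000000000000000000000000000000000)

noncomputable def eb0 : ℕ := (nat_lit 0xf00ce804108718cd3116a2ac8770069509b009f00)

def wb0 : List (List ℕ) := [[3,2,0,3,1,3,1,2],[3],[2,1,3,0,0,2],[2,1,1,3,0,2],[2,0,3,1,3,1,2],[2,0,3,0,3,1,2],[2,1,1,3,0,2,3],[0,0,3,2,3,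
  1,1],[1,2,0,2,1,3,1]]

noncomputable def Lb0 (e : ℕ) : Lv := ⟨124, 11, wb0, (get2 4 pb0), (get2 15 eb0), 2, e⟩

theorem kb0_0 : ∀ x < 11, (Lb0 0).chk act 266 x = true :=
  forall_lt_add (a := 0) (b := 11) (fun _ h => absurd h (Nat.not_lt_zero _)) (by decide +kernel)

theorem okb0 (e : ℕ) : LvOk act 266 [9] (Lb0 e) :=
  show LvOk act 266 [9] (Lb0 0) from ⟨by decide +kernel, kb0_0⟩

noncomputable def pb1 : ℕ := (nat_lit 0x500000000000000000000000000000600000040000000000000000000000000000000020080000000000000000000000000000000000000000000000000000000000000000010000000000000030000000000000000000000000000000009007000000000000000000000000000000000000000000000)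

noncomputable def eb1 : ℕ := (nat_lit 0x30128c32d07387ec131c5521a9826100d80)

def wb1 : List (List ℕ) := [[3,0,0,2,0,2,1,1],[0,0,2,3,2,1,1],[0,0,2,1,2,1,1,3],[3,2,0,3,2,3,1,2],[1,3,2,0,3,2,1,2,0],[1,2,3,2,0,2,0,3,
  1],[1,2,0,2,3,1,2,3,0],[3,0,0,2,1,3,1,2,1,1]]

noncomputable def Lb1 (e : ℕ) : Lv := ⟨54, 10, wb1, (get2 4 pb1), (get2 14 eb1), 4, e⟩

theorem kb1_0 : ∀ x < 10, (Lb1 0).chk act 266 x = true :=
  forall_lt_add (a := 0) (b := 10) (fun _ h => absurd h (Nat.not_lt_zero _)) (by decide +kernel)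

theorem okb1 (e : ℕ) : LvOk act 266 [124,9] (Lb1 e) :=
  show LvOk act 266 [124,9] (Lb1 0) from ⟨by decide +kernel, kb1_0⟩

noncomputable def pb2 : ℕ := (nat_lit 0x40000000000000000000000000000000000000000000000000000000000000000000800)

noncomputable def eb2 : ℕ := (nat_lit 0x1408d04540)

def wb2 : List (List ℕ) := [[2,1,3,0,0,3,2,0,2,3,0,0],[0,0,2,3,2,1,1]]

noncomputable def Lb2 (e : ℕ) : Lv := ⟨21, 3, wb2, (get2 2 pb2), (get2 14 eb2), 6, e⟩

theorem kb2_0 : ∀ x < 3, (Lb2 0).chk act 266 x = true :=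
  forall_lt_add (a := 0) (b := 3) (fun _ h => absurd h (Nat.not_lt_zero _)) (by decide +kernel)

theorem okb2 (e : ℕ) : LvOk act 266 [54,124,9] (Lb2 e) :=
  show LvOk act 266 [54,124,9] (Lb2 0) from ⟨by decide +kernel, kb2_0⟩

noncomputable def pb3 : ℕ := (nat_lit 0x400000000000000)

noncomputable def eb3 : ℕ := (nat_lit 0x3a022c0)

def wb3 : List (List ℕ) := [[3,2,0,3,2,3,1,2]]

noncomputable def Lb3 (e : ℕ) : Lv := ⟨139, 2, wb3, (get2 1 pb3), (get2 14 eb3), 1, e⟩

theorem kb3_0 : ∀ x < 2, (Lb3 0).chk act 266 x = true :=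
  forall_lt_add (a := 0) (b := 2) (fun _ h => absurd h (Nat.not_lt_zero _)) (by decide +kernel)

theorem okb3 (e : ℕ) : LvOk act 266 [21,54,124,9] (Lb3 e) :=
  show LvOk act 266 [21,54,124,9] (Lb3 0) from ⟨by decide +kernel, kb3_0⟩

noncomputable def trb : ℕ := (nat_lit 0x2d124a9caaab4d148b2c9698999438d109ab4d06810351431991191515a403220560664a690adb4d8831551493548a06d220356d8ab95d46491a91a22450b2cb95a92db4d740ada2edaca22b09345a0cb2db55b020b6204c365b112120190986c1682505)

noncomputable def nxb (z : ℕ) : List ℕ := force ((get2 3 trb) z) fun j => [j]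

noncomputable def Ct : List Lv := [Lb0 8, Lb1 6, Lb2 4, Lb3 9]

theorem st_0 : ∀ x < 266, sieve act 5 6 9 nxb (testO act [1,131,0] cw vw v0w 5 1 0 [1] rels) Ct x = true :=
  forall_lt_add (a := 0) (b := 266) (fun _ h => absurd h (Nat.not_lt_zero _)) (by decide +kernel)

theorem tpt (h : Spor.MdJ1.G) (hh : h * y 5 = y 5 ^ 9 * h) : ∃ acc, h = WW y acc ∧ (testO act [1,131,0] cw vw v0w 5 1 0 [1] rels) acc = true :=
  mdl.transp (o := 10) (Ls := Ct) (.cons (okb0 _) (.cons (okb1 _) (.cons (okb2 _) (.cons (okb3 _) (.nil))))) (by decide +kernel) st_0 hh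

theorem rel : relOk act 266 [1,131,0] cw vw hw 4 5 11 7 9 0 rels = true := by decide +kernel

theorem top : Subgroup.closure {W y cw, y 5, W y vw} = ⊤ :=
  mdl.top_of (us := [[2,0,3,2,3,2,0,0,2,1,2],[5],[3],[2,0,2,1,1,2,3,2,3,1,2],[3,1,2,0],[3]])
    (defs := [[0,0,2,3,1,2,0,2,1,1,0,1],[4,3,4,4,2,3,2,4,0,2,3,3],[0,0,2,0,4,3,2,0,4,0,0,2,3,1,2,0,2,1,1,0,1],[2]])
    (by decide +kernel) (by decide +kernel) ⟨rfl, rfl, rfl⟩

theorem data : OutData (W y cw) (y 5) (W y vw) (W y v0w) 1 :=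
  mdl.outData (by norm_num) rel (by decide +kernel) top (mdl.cent tpc) tpt

theorem out : Nat.card (Cfsg.Out Spor.MdJ1.G) = 1 := data.one

end Cfsg.Agent.Known.J1O
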