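import Cfsg.Agent.Known.J2Up

/-! The Schur multiplier of the model of J2 (generated certificate, helper25): `mult`. -/

set_option maxRecDepth 100000
set_option exponentiation.threshold 100000

namespace Cfsg.Agent.Known.J2T

open Cfsg.Agent.Spor

theorem lifts : Lifts Spor.MdJ2.g 8 Spor.JJ2m2.rels :=
  lifts_of_cardLe Spor.MdJ2.rep.top Spor.MdJ2.hg (by decide +kernel) (by decide) Spor.MdJ2.card fun H _ h h0 hr =>
    genW_sing h _ ▸ Spor.MdJ2.up H h h0 hr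

noncomputable def cs2 : List (ℕ × ℕ) := [
  ((nat_lit 0x3ab00cdbb8f60978423800344),
  (nat_lit 0x0)),
  ((nat_lit 0x3ad4599bb8f32098503803048),
  (nat_lit 0x0)),
  ((nat_lit 0xd3580c86b425070eec2360000),
  (nat_lit 0x0)),
  ((nat_lit 0x9213498e966296362c2360000),
  (nat_lit 0x0)),
  ((nat_lit 0x8cd26332385243aa24381800c),
  (nat_lit 0x0)),
  ((nat_lit 0x8696209cf0c2054aea1c1800c),
  (nat_lit 0x0)),
  ((nat_lit 0x8301c429a6419307c01840000),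
  (nat_lit 0x0)),
  ((nat_lit 0x67d13909130f12719800004c0),
  (nat_lit 0x0))]

def es2 : List ℕ := [0,0,0,0,0,0,0,0,0,0,0,0,0,0,0,0,0,0,0,1,0,0,1]

theorem v2_0 : ∀ r ∈ (List.drop 0 (Spor.JJ2m2.rels.zip es2)), ev (PP Spor.JJ2m2.nets) r.1 = 1 → ev (mM 2 Spor.JJ2m2.nets cs2) r.1 = zM 2 100 ^ r.2 :=
  ev_of_chkVolt isAdd2 Spor.JJ2m2.ok (by decide +kernel)

theorem cov2 : Cov 8 Spor.JJ2m2.rels 2 es2 (mM 2 Spor.JJ2m2.nets cs2) (zM 2 100) :=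
  cov_of_volt Spor.JJ2m2.ok (by decide) Spor.JJ2m2.hP (by decide +kernel) v2_0 8

theorem mult : HasCyclicSchurMultiplier Spor.MdJ2.G 2 :=
  cyc_of_bnd sb (mdvd_cov1 lifts Spor.MdJ2.hg (by decide +kernel) cov2 [0, 0, 0, 3, 0, 2, 0, 3, -1, 0, -2, 0, 0, 2, 0, 0, -4, 0, 0, 1, 0, 0, 0] (by decide +kernel))

end Cfsg.Agent.Known.J2T
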