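import Cfsg.Agent.Known.J2Tab
import Cfsg.Agent.Known.Out
import Cfsg.Agent.Known.J2Mul

/-! The outer automorphism group of `Spor.MdJ2.G` (generated certificate, helper25). -/

set_option maxRecDepth 100000
set_option exponentiation.threshold 100000
set_option Elab.async false

namespace Cfsg.Agent.Known.J2O

open Cfsg.Agent.Comp

noncomputable def t8 : ℕ := (nat_lit 0xad34cb6284eeb4a668f3c7a5ee0d48cecc79f81589529a5e13b8d54e24c265a937a83e2c55790418a92807006326ec4fa7886075b2344155b0baa4876e9c35be1dca2426e52d14fe0d7110e345388c205842d2ac0c00781)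

theorem h8 : TabOf 100 7 t8 (Spor.ev (Spor.PP Spor.JJ2m2.nets) [7,0])⁻¹ :=
  tabOf_of_chk (L := 7) Spor.JJ2m2.ok _ (by decide +kernel)

noncomputable def t9 : ℕ := (nat_lit 0x558599002d01cb7772263363cb910a0ae9d5c7a9bcaf04550bf3472429225605b314af30e4b0d7d6a73a930b1552b463437080d0b9e315ac6484c8851151d86d0031f8e25bd9441e93dac10954b6c6f1c4a01fb54e99813)

theorem h9 : TabOf 100 7 t9 (Spor.ev (Spor.PP Spor.JJ2m2.nets) [6,3,7,5])⁻¹ :=
  tabOf_of_chk (L := 7) Spor.JJ2m2.ok _ (by decide +kernel)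

noncomputable def tabs : List ℕ := [J2T.t0, J2T.t1, J2T.t2, J2T.t3, J2T.t4, J2T.t5, J2T.t6, J2T.t7, t8, t9]

def wds : List (List ℕ) := [[0],[1],[2],[3],[4],[5],[6],[7],[7,0],[6,3,7,5]]

noncomputable def y (i : ℕ) : Spor.MdJ2.G := (Spor.ev Spor.MdJ2.g (nthL [0] wds i))⁻¹

noncomputable def act (i : ℕ) : ℕ → ℕ := get2 7 (nthL J2T.t0 tabs i)

theorem mdl : Mdl Spor.MdJ2.φ 100 8 604800 y act [1,18,56,99,0] :=
  mdl_of_tabs Spor.MdJ2.rep (actBy_tabs Spor.MdJ2.rep (.cons J2T.h0 (.cons J2T.h0 (.cons J2T.h1 (.cons J2T.h2 (.cons J2T.h3 (.cons J2T.h4 (.cons J2T.h5 (.cons J2T.h6 (.cons J2T.h7 (.cons h8 (.cons h9 (.nil)))))))))))) (by decide +kernel))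
    J2T.base (by decide) Spor.MdJ2.card (by decide)

def cw : List ℕ := [6,4,7,4,6,4,6,4,0]

def vw : List ℕ := [3,7,6,2,4,2]

def hw : List ℕ := [4,6,0,0,7,4,6]

def v0w : List ℕ := [2,0,4,3,6,4,6,3,7,1,6]

def rels : List (List ℕ) := [[2,2,1,0,1,1,1,1,2,2,1,0,1,1,1,1],[2,0,2,0,2,0,2,0,2,0,2,0,2,0],[2,0,1,1,2,0,1,1,2,0,1,1,2,0,1,1,2,0,1,1,2,0,
  1,1,2,0,1,1]]

noncomputable def pa0 : ℕ := (nat_lit 0x7c00004908cd00000000c01800002100080000000b0117000002800000171000003c00002408805800006c300000000000000000001e00800000200064100700675a0000003801555004c0)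

noncomputable def ea0 : ℕ := (nat_lit 0xbaab14e80f348c631c0868314b5648c4098b500781af102080c0021df223057836e2075ae2358990a412999c68f2060e342a4ec65409608900b40)

def wa0 : List (List ℕ) := [[6],[5,7,5,1],[0,4,7,4],[2],[3],[3,3],[7,1,1,7],[7,3,3,7],[1,7,0,6],[5,7,5,6,0],[7,5,5,0,7],[0,7,4,0,7],[5,6,
  5,7,5],[7,4,6,7,1],[7,4,6,5,7],[6,5,7,5,1],[4,7,4,6,4],[0,7,6,5,7],[0,4,7,4,6],[0,7,1,4,7],[0,7,6,7,1],[7,3,7,
  6,7],[4,6,5,6,0,5]]

noncomputable def La0 (e : ℕ) : Lv := ⟨45, 36, wa0, (get2 6 pa0), (get2 13 ea0), 1, e⟩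

theorem ka0_0 : ∀ x < 36, (La0 0).chk act 100 x = true :=
  forall_lt_add (a := 0) (b := 36) (fun _ h => absurd h (Nat.not_lt_zero _)) (by decide +kernel)

theorem oka0 (e : ℕ) : LvOk act 100 [20] (La0 e) :=
  show LvOk act 100 [20] (La0 0) from ⟨by decide +kernel, ka0_0⟩

noncomputable def pa1 : ℕ := (nat_lit 0xc00000000000000000000160000000000400000000000000000000000000600000000200000)

noncomputable def ea1 : ℕ := (nat_lit 0x630e3031452623700384580)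

def wa1 : List (List ℕ) := [[3],[0,7,4,0,4,7,1],[2],[0,7,5,1,5,7,1],[3,3],[6,7,1,1,7,6]]

noncomputable def La1 (e : ℕ) : Lv := ⟨22, 7, wa1, (get2 3 pa1), (get2 13 ea1), 4, e⟩

theorem ka1_0 : ∀ x < 7, (La1 0).chk act 100 x = true :=
  forall_lt_add (a := 0) (b := 7) (fun _ h => absurd h (Nat.not_lt_zero _)) (by decide +kernel)

theorem oka1 (e : ℕ) : LvOk act 100 [45,20] (La1 e) :=
  show LvOk act 100 [45,20] (La1 0) from ⟨by decide +kernel, ka1_0⟩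

noncomputable def pa2 : ℕ := (nat_lit 0x20002000000028200000000000000000000000000000000018)

noncomputable def ea2 : ℕ := (nat_lit 0x1883044021bc01784ec0)

def wa2 : List (List ℕ) := [[2,1,7,0],[7,1,6,0,7],[1,7,0,3],[7,4,3,7,2,5,7],[0,7,4,6,5,7,1]]

noncomputable def La2 (e : ℕ) : Lv := ⟨59, 6, wa2, (get2 3 pa2), (get2 13 ea2), 3, e⟩

theorem ka2_0 : ∀ x < 6, (La2 0).chk act 100 x = true :=
  forall_lt_add (a := 0) (b := 6) (fun _ h => absurd h (Nat.not_lt_zero _)) (by decide +kernel)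

theorem oka2 (e : ℕ) : LvOk act 100 [22,45,20] (La2 e) :=
  show LvOk act 100 [22,45,20] (La2 0) from ⟨by decide +kernel, ka2_0⟩

noncomputable def pa3 : ℕ := (nat_lit 0x8000000000000000)

noncomputable def ea3 : ℕ := (nat_lit 0xfc07c0)

def wa3 : List (List ℕ) := [[7,1,6,0,7]]

noncomputable def La3 (e : ℕ) : Lv := ⟨31, 2, wa3, (get2 1 pa3), (get2 12 ea3), 2, e⟩

theorem ka3_0 : ∀ x < 2, (La3 0).chk act 100 x = true :=
  forall_lt_add (a := 0) (b := 2) (fun _ h => absurd h (Nat.not_lt_zero _)) (by decide +kernel)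

theorem oka3 (e : ℕ) : LvOk act 100 [59,22,45,20] (La3 e) :=
  show LvOk act 100 [59,22,45,20] (La3 0) from ⟨by decide +kernel, ka3_0⟩

noncomputable def pa4 : ℕ := (nat_lit 0x400)

noncomputable def ea4 : ℕ := (nat_lit 0x1406c0)

def wa4 : List (List ℕ) := [[7,3,3,7]]

noncomputable def La4 (e : ℕ) : Lv := ⟨27, 2, wa4, (get2 1 pa4), (get2 11 ea4), 5, e⟩

theorem ka4_0 : ∀ x < 2, (La4 0).chk act 100 x = true :=
  forall_lt_add (a := 0) (b := 2) (fun _ h => absurd h (Nat.not_lt_zero _)) (by decide +kernel)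

theorem oka4 (e : ℕ) : LvOk act 100 [31,59,22,45,20] (La4 e) :=
  show LvOk act 100 [31,59,22,45,20] (La4 0) from ⟨by decide +kernel, ka4_0⟩

noncomputable def tra : ℕ := (nat_lit 0x7429829398067898917390887472957291767256789963768486651728988979277607328675464060437894095813543227)

noncomputable def nxa (z : ℕ) : List ℕ := force ((get2 4 tra) z) fun j => [j]

noncomputable def Cc : List Lv := [La0 1, La1 4, La2 3, La3 2, La4 5]

theorem sc_0 : ∀ x < 100, sieve act 8 5 20 nxa (testZ act [1,18,56,99,0] 8 7) Cc x = true :=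
  forall_lt_add (a := 0) (b := 100) (fun _ h => absurd h (Nat.not_lt_zero _)) (by decide +kernel)

theorem tpc (h : Spor.MdJ2.G) (hh : h * y 8 = y 8 ^ 1 * h) : ∃ acc, h = WW y acc ∧ (testZ act [1,18,56,99,0] 8 7) acc = true :=
  mdl.transp (o := 7) (Ls := Cc) (.cons (oka0 _) (.cons (oka1 _) (.cons (oka2 _) (.cons (oka3 _) (.cons (oka4 _) (.nil)))))) (by decide +kernel) sc_0 hh

noncomputable def pb0 : ℕ := (nat_lit 0x8c000000000e08002101f6c018048000d00014000000001400000000000011100068000030065379d0185c000000000b2805800000100000000003c10090002158000008801dc000003000)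

noncomputable def eb0 : ℕ := (nat_lit 0xc688932c0e349ac52f1970a188aa03709888b00562210c7031006025155d2c7172aa5c32716cd3486a34091e3ce0e95322592ec60455b00a02fc0)

def wb0 : List (List ℕ) := [[4,2,5],[2,2,7],[4,3,5],[7,3,3],[4,6,5],[4,3,3,5],[0,6,5,6],[4,0,4,7],[5,2,5,7],[6,4,6,1],[7,4,3,4],[4,7,5,7,
  6],[6,7,4,7,5],[6,1,7,5,6],[6,4,7,0,6],[3,6,4,6,7],[2,7,0,7,3],[7,5,3,4,7],[7,6,5,6,2],[5,6,4,6,4],[7,4,6,4,7,
  2],[3,7,5,6,5,7],[7,4,7,1,7,4],[5,7,0,7,5,7]]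

noncomputable def Lb0 (e : ℕ) : Lv := ⟨63, 36, wb0, (get2 6 pb0), (get2 13 eb0), 1, e⟩

theorem kb0_0 : ∀ x < 36, (Lb0 0).chk act 100 x = true :=
  forall_lt_add (a := 0) (b := 36) (fun _ h => absurd h (Nat.not_lt_zero _)) (by decide +kernel)

theorem okb0 (e : ℕ) : LvOk act 100 [5] (Lb0 e) :=
  show LvOk act 100 [5] (Lb0 0) from ⟨by decide +kernel, kb0_0⟩

noncomputable def pb1 : ℕ := (nat_lit 0x5000018a00002068000000000000000180000005800004c00001f10000003800000000280004240000000080000064480000000000000000000000800007)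

noncomputable def eb1 : ℕ := (nat_lit 0x188b7c62529c00985727b242b912478662a2cb9a1090075e1ae846013221e02c86b40)

def wb1 : List (List ℕ) := [[4,3,3,5],[1,4,7,6,4,7],[7,5,6,7,5,0],[4,6,5],[4,3,3,6,5],[7,3,3,7,3,3],[7,6,7,2,7,6],[3,7,6,5,6,3,4],[1,5,6,
  7,1,6,7],[2,6,4,6,5,6,3],[7,3,3,7,5,1,5],[4,7,1,7,0,6,1],[0,6,1,7,0,7,5],[7,6,0,7,6,4,0],[5,2,6,4,6,7,2],[4,3,
  3,1,7,6,4,7],[2,7,5,5,6,2,7,3]]

noncomputable def Lb1 (e : ℕ) : Lv := ⟨45, 21, wb1, (get2 5 pb1), (get2 13 eb1), 2, e⟩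

theorem kb1_0 : ∀ x < 21, (Lb1 0).chk act 100 x = true :=
  forall_lt_add (a := 0) (b := 21) (fun _ h => absurd h (Nat.not_lt_zero _)) (by decide +kernel)

theorem okb1 (e : ℕ) : LvOk act 100 [63,5] (Lb1 e) :=
  show LvOk act 100 [63,5] (Lb1 0) from ⟨by decide +kernel, kb1_0⟩

noncomputable def pb2 : ℕ := (nat_lit 0x20000000000000000)

noncomputable def eb2 : ℕ := (nat_lit 0x2081340)

def wb2 : List (List ℕ) := [[7,3,3,7,3,3]]

noncomputable def Lb2 (e : ℕ) : Lv := ⟨77, 2, wb2, (get2 1 pb2), (get2 13 eb2), 4, e⟩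

theorem kb2_0 : ∀ x < 2, (Lb2 0).chk act 100 x = true :=
  forall_lt_add (a := 0) (b := 2) (fun _ h => absurd h (Nat.not_lt_zero _)) (by decide +kernel)

theorem okb2 (e : ℕ) : LvOk act 100 [45,63,5] (Lb2 e) :=
  show LvOk act 100 [45,63,5] (Lb2 0) from ⟨by decide +kernel, kb2_0⟩

noncomputable def pb3 : ℕ := (nat_lit 0x300000000000000000000020000004000000000)

noncomputable def eb3 : ℕ := (nat_lit 0x9802004985180)

def wb3 : List (List ℕ) := [[4,0,4,0,7,1,1,3,7,4],[5,7,2,0,0,7,1,5,1,5],[6,7,1,1,7,6]]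

noncomputable def Lb3 (e : ℕ) : Lv := ⟨70, 4, wb3, (get2 2 pb3), (get2 13 eb3), 3, e⟩

theorem kb3_0 : ∀ x < 4, (Lb3 0).chk act 100 x = true :=
  forall_lt_add (a := 0) (b := 4) (fun _ h => absurd h (Nat.not_lt_zero _)) (by decide +kernel)

theorem okb3 (e : ℕ) : LvOk act 100 [77,45,63,5] (Lb3 e) :=
  show LvOk act 100 [77,45,63,5] (Lb3 0) from ⟨by decide +kernel, kb3_0⟩

noncomputable def trb : ℕ := (nat_lit 0x9329929384269528997190984112875391767956889966738880654538828073677654306000065464538014760864072227)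

noncomputable def nxb (z : ℕ) : List ℕ := force ((get2 4 trb) z) fun j => [j]

noncomputable def Ct : List Lv := [Lb0 1, Lb1 2, Lb2 4, Lb3 3]

theorem st_0 : ∀ x < 100, sieve act 9 5 5 nxb (testO act [1,18,56,99,0] cw vw v0w 9 1 0 [1] rels) Ct x = true :=
  forall_lt_add (a := 0) (b := 100) (fun _ h => absurd h (Nat.not_lt_zero _)) (by decide +kernel)

theorem tpt (h : Spor.MdJ2.G) (hh : h * y 9 = y 9 ^ 1 * h) : ∃ acc, h = WW y acc ∧ (testO act [1,18,56,99,0] cw vw v0w 9 1 0 [1] rels) acc = true :=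
  mdl.transp (o := 6) (Ls := Ct) (.cons (okb0 _) (.cons (okb1 _) (.cons (okb2 _) (.cons (okb3 _) (.nil))))) (by decide +kernel) st_0 hh

theorem rel : relOk act 100 [1,18,56,99,0] cw vw hw 8 9 7 2 1 0 rels = true := by decide +kernel

theorem top : Subgroup.closure {W y cw, y 9, W y vw} = ⊤ :=
  mdl.top_of (us := [[6,4,7,4,6,4,6,4,0],[9],[3,7,6,2,4,2],[1,5,6,5,6,5,7,5,6],[4,7,6,2],[3,5,3,6,7,2]])
    (defs := [[3,5,3,5,3,3,5,3,5,3,4,5,0,2,3,2,3,5,4,3,5,0,2,3,2,3,4,2],[5,1,0,5,0,5,3,2,0,1,2,0,5,0,5,3,2,1,0,2,0,2,0,0,2,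
  0,2,0],[5,3,3,2,0,5,0,4,5,3,4,0,5,0,2,3,1],[4,0,5,3,2,3,1,0,2,1,3,2,3,5,0,0,2],[5,3,3,2,0,5,0,4,5,3,4,0,5,0,2,
  3,1,0,2,0,5,0,5,3,3],[0,0,2,3,2,3,5,3,4,0,5,3,2,3,1,0,2,1,3,2,3,5,0,0,2],[1,0,2,3,5,3,1,2,0,2,0,5,0,5,3,3,3,5,
  3,5,3,3,5,3,5,3,4,5,0,2,3,2,3,5,4,3,5,0,2,3,2,3,4,2],[0,4,5,3,4,3,5,0,5,0,2,3,3,2,3,5,3,4,5,0,5,3,2,2,3,2,0,2,
  0,2,3,5,1,0,2,3]])
    (by decide +kernel) (by decide +kernel) ⟨rfl, rfl, rfl⟩

theorem data : OutData (W y cw) (y 9) (W y vw) (W y v0w) 1 :=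
  mdl.outData (by norm_num) rel (by decide +kernel) top (mdl.cent tpc) tpt

theorem top0 : Subgroup.closure {W y cw, y 9, W y v0w} = ⊤ :=
  mdl.top_of (us := [[6,4,7,4,6,4,6,4,0],[9],[2,0,4,3,6,4,6,3,7,1,6],[1,5,6,5,6,5,7,5,6],[4,7,6,2],[6,0,7,2,6,5,6,2,5,1,3]])
    (defs := [[3,5,0,4,5,0,2,3,5,0,5,4,3,4,3,5,3,3,5,0,5,5,5,0,5,0,2,0,2,3,5],[0,1,2,3,2,0,5,3,2,1,3,2,0,4,3,5,3,3,5,0,5,5,
  5,0,5,0,2,0,2,3,5],[5,0,0,2,0,5,3,4,5,3,4,0,5,3,2,3,1],[4,0,5,0,2,3,1,0,2,1,0,2,3,5,3,3,2],[5,0,0,2,0,5,3,4,5,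
  3,4,0,5,3,2,3,1,0,2,3,2,0,0,2,0,1],[4,3,5,3,3,5,0,5,3,4,0,5,0,2,3,1,0,2,1,0,2,3,5,3,3,2],[1,0,2,0,2,3,3,2,0,2,
  3,2,0,0,2,0,1,3,5,0,4,5,0,2,3,5,0,5,4,3,4,3,5,3,3,5,0,5,5,5,0,5,0,2,0,2,3,5],[5,3,3,5,3,5,0,2,0,5,0,2,4,0,1,2,
  3,2,0,5,3,2,1,3,2,0,5,0,0,2,0,5,3,4,5,3,4,0,5,3,2,3,1]])
    (by decide +kernel) (by decide +kernel) ⟨rfl, rfl, rfl⟩

def sw : List (List ℕ) := [[5,6,5,6,5,6,4,4,1],[0,5,5,6,4,6,4,6,4],[0,7,1,1,4,7,6],[6,7,5,0,0,7,1],[5,5,6,4,6,5,6],[6,4,6,5,6,4,4],[6,0,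
  4,6,5,6,0,3],[6,5,3,1,7,2,4,6,4,4,3]]

theorem sr_0 : ∀ x < 23, allL [1,18,56,99,0] (fun b => Nat.beq (actW (fun i => actW act (nthL [] sw i)) (nthL [] Spor.JJ2m2.rels x) b) b) = true :=
  forall_lt_add (a := 0) (b := 23) (fun _ h => absurd h (Nat.not_lt_zero _)) (by decide +kernel)

theorem aut : ∃ σ : MulAut Spor.MdJ2.G, σ (W y cw) = W y cw ^ 1 ∧ σ (y 9) = y 9 ∧ σ (W y vw) = W y v0w :=
  mdl.exists_aut (J2T.lifts) (fun _ => rfl) sw sr_0 (mdl.rel_spec (by norm_num) rel).2.1 (by decide) top0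
    (by decide +kernel)

theorem out : Nat.card (Cfsg.Out Spor.MdJ2.G) = 2 := data.two aut <|
  noninner_one (by norm_num) (by decide) (mdl.rel_spec (by norm_num) rel).2.1
    (mdl.rel_spec (by norm_num) rel).2.2.1 (cent_conj (mdl.rel_spec (by norm_num) rel).2.2.2.1 (mdl.cent tpc))
    (mdl.ne (b := 0) (by decide +kernel))

end Cfsg.Agent.Known.J2O
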