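import Cfsg.Agent.Known.M22Tab
import Cfsg.Agent.Golay.Mathieu

/-! `Cfsg.Spor.M22` is isomorphic to its model (helper25): `equiv`. -/

namespace Cfsg.Agent.Known.M22T

open Cfsg.Agent.Comp Cfsg.Agent.Golay

def xs : List ℕ := [976531636853126291160407323722221600,972606645568131968584696805283956768,
  970499966350631336865513127433832480,968708902336673183175954409307867168,
  974393957471495370344329307904968736,958733841458863784745638835431790624,
  984818104342369251485136392171194944]

theorem equiv : Nonempty (Cfsg.Spor.M22 ≃* M22P.G) := by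
  obtain ⟨x, -, hx⟩ := exists_actBy (isAct_point EG 5 31) (codes22 (L := 976531636853126291160407323722221600 :: xs) (by decide +kernel))
  exact mdl.equiv_of_actBy (isCanon_PtC EG) hx (nthL 0 [1,2,3,4,5,6,7,8,9,10,11,12,13,14,15,16,17,18,19,20,21,22])
    (fun i _ => exists_PtC EG (B := [nthL 0 [1,2,3,4,5,6,7,8,9,10,11,12,13,14,15,16,17,18,19,20,21,22] i]) (by revert i; decide +kernel) _ List.mem_cons_self)
    (by decide +kernel) (by decide +kernel) (by decide) card_M22

end Cfsg.Agent.Known.M22T
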