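import Cfsg.Agent.Known.A6Up

/-! The Schur multiplier of the model of A6 (generated certificate, helper25): `mult`. -/

set_option maxRecDepth 100000
set_option exponentiation.threshold 100000

namespace Cfsg.Agent.Known.A6T

open Cfsg.Agent.Spor

noncomputable def n2_0 : Net :=
  Net.cons 1 (nat_lit 0x4504400444) <|
  Net.cons 2 (nat_lit 0x3300312000) <|
  Net.cons 4 (nat_lit 0xd030000) <|
  Net.cons 8 (nat_lit 0x720000) <|
  Net.cons 16 (nat_lit 0x69) <|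
  Net.cons 32 (nat_lit 0x69) <|
  Net.cons 16 (nat_lit 0x9269) <|
  Net.cons 8 (nat_lit 0x770024) <|
  Net.cons 4 (nat_lit 0xd070100) <|
  Net.cons 2 (nat_lit 0x3303132012) <|
  Net.cons 1 (nat_lit 0x504404005) <|
  Net.nil

noncomputable def n2_1 : Net :=
  Net.cons 1 (nat_lit 0x500404400) <|
  Net.cons 2 (nat_lit 0x2102012000) <|
  Net.cons 4 (nat_lit 0x30a020000) <|
  Net.cons 8 (nat_lit 0x130000) <|
  Net.cons 16 (nat_lit 0x33) <|
  Net.cons 32 (nat_lit 0x33) <|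
  Net.cons 16 (nat_lit 0x8333) <|
  Net.cons 8 (nat_lit 0x430028) <|
  Net.cons 4 (nat_lit 0x30a060100) <|
  Net.cons 2 (nat_lit 0x2111332011) <|
  Net.cons 1 (nat_lit 0x4505400041) <|
  Net.nil

noncomputable def n2_2 : Net :=
  Net.cons 1 (nat_lit 0x5045400500) <|
  Net.cons 2 (nat_lit 0x130213100) <|
  Net.cons 4 (nat_lit 0x8020700) <|
  Net.cons 8 (nat_lit 0x70000) <|
  Net.cons 16 (nat_lit 0xb7) <|
  Net.cons 32 (nat_lit 0xb7) <|
  Net.cons 16 (nat_lit 0x4bb7) <|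
  Net.cons 8 (nat_lit 0xf800b4) <|
  Net.cons 4 (nat_lit 0xf0f030806) <|
  Net.cons 2 (nat_lit 0x1002010133) <|
  Net.cons 1 (nat_lit 0x500150045) <|
  Net.nil

noncomputable def n2_3 : Net :=
  Net.cons 1 (nat_lit 0x5040051150) <|
  Net.cons 2 (nat_lit 0x102123000) <|
  Net.cons 4 (nat_lit 0x700000100) <|
  Net.cons 8 (nat_lit 0x7d0010) <|
  Net.cons 16 (nat_lit 0x56) <|
  Net.cons 32 (nat_lit 0x56) <|
  Net.cons 16 (nat_lit 0xff56) <|
  Net.cons 8 (nat_lit 0x9f0008) <|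
  Net.cons 4 (nat_lit 0xc040d030f) <|
  Net.cons 2 (nat_lit 0x1032220321) <|
  Net.cons 1 (nat_lit 0x4145000005) <|
  Net.nil

noncomputable def n2_4 : Net :=
  Net.cons 1 (nat_lit 0x454154000) <|
  Net.cons 2 (nat_lit 0x202112020) <|
  Net.cons 4 (nat_lit 0xe00000a00) <|
  Net.cons 8 (nat_lit 0xe40020) <|
  Net.cons 16 (nat_lit 0xb4) <|
  Net.cons 32 (nat_lit 0xb4) <|
  Net.cons 16 (nat_lit 0xe7b4) <|
  Net.cons 8 (nat_lit 0x3f001c) <|
  Net.cons 4 (nat_lit 0x10e070a0f) <|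
  Net.cons 2 (nat_lit 0x22012123) <|
  Net.cons 1 (nat_lit 0x5101401555) <|
  Net.nil

noncomputable def nets2 : List Net := [n2_0, n2_1, n2_2, n2_3, n2_4]

theorem ok2 : netsOk 40 nets2 = true := by decide +kernel

theorem pl2_6 : ∀ p < 6, chkPl nets2 40 6 A6P.rels p = true :=
  forall_lt_add (a := 0) (b := 6) (fun _ h => absurd h (Nat.not_lt_zero _)) (by decide +kernel)

theorem hP2 : ∀ r ∈ A6P.rels, ev (PP nets2) r = 1 := ev_eq_one_of_planes ok2 (by decide) pl2_6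

noncomputable def cs2 : List (ℕ × ℕ) := [
  ((nat_lit 0x9001150),
  (nat_lit 0x0)),
  ((nat_lit 0x10080410c0),
  (nat_lit 0x0)),
  ((nat_lit 0x6efc0623d8),
  (nat_lit 0x0)),
  ((nat_lit 0xe56e791294),
  (nat_lit 0x0)),
  ((nat_lit 0xc3b9bab222),
  (nat_lit 0x0))]

def es2 : List ℕ := [0,0,0,1,1,1,0,1,0,0]

theorem v2_0 : ∀ r ∈ (List.drop 0 (A6P.rels.zip es2)), ev (PP nets2) r.1 = 1 → ev (mM 2 nets2 cs2) r.1 = zM 2 40 ^ r.2 :=
  ev_of_chkVolt isAdd2 ok2 (by decide +kernel)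

theorem cov2 : Cov 5 A6P.rels 2 es2 (mM 2 nets2 cs2) (zM 2 40) :=
  cov_of_volt ok2 (by decide) hP2 (by decide +kernel) v2_0 5

noncomputable def n3_0 : Net :=
  Net.cons 2 (nat_lit 0x2) <|
  Net.cons 1 (nat_lit 0x4) <|
  Net.nil

noncomputable def n3_1 : Net :=
  Net.cons 1 (nat_lit 0x4) <|
  Net.cons 2 (nat_lit 0x2) <|
  Net.nil

noncomputable def n3_2 : Net :=
  Net.cons 2 (nat_lit 0x1) <|
  Net.cons 4 (nat_lit 0x1) <|
  Net.cons 2 (nat_lit 0x3) <|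
  Net.nil

noncomputable def n3_3 : Net :=
  Net.cons 1 (nat_lit 0x14) <|
  Net.nil

noncomputable def n3_4 : Net :=
  Net.cons 1 (nat_lit 0x10) <|
  Net.cons 2 (nat_lit 0x1) <|
  Net.cons 4 (nat_lit 0x1) <|
  Net.cons 2 (nat_lit 0x1) <|
  Net.cons 1 (nat_lit 0x11) <|
  Net.nil

noncomputable def nets3 : List Net := [n3_0, n3_1, n3_2, n3_3, n3_4]

theorem ok3 : netsOk 6 nets3 = true := by decide +kernel

theorem pl3_3 : ∀ p < 3, chkPl nets3 6 3 A6P.rels p = true :=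
  forall_lt_add (a := 0) (b := 3) (fun _ h => absurd h (Nat.not_lt_zero _)) (by decide +kernel)

theorem hP3 : ∀ r ∈ A6P.rels, ev (PP nets3) r = 1 := ev_eq_one_of_planes ok3 (by decide) pl3_3

noncomputable def cs3 : List (ℕ × ℕ) := [
  ((nat_lit 0x20),
  (nat_lit 0x10)),
  ((nat_lit 0x10),
  (nat_lit 0x20)),
  ((nat_lit 0x8),
  (nat_lit 0x2)),
  ((nat_lit 0xf),
  (nat_lit 0x20)),
  ((nat_lit 0x0),
  (nat_lit 0x0))]

def es3 : List ℕ := [0,0,0,0,0,2,0,0,0,0]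

theorem v3_0 : ∀ r ∈ (List.drop 0 (A6P.rels.zip es3)), ev (PP nets3) r.1 = 1 → ev (mM 3 nets3 cs3) r.1 = zM 3 6 ^ r.2 :=
  ev_of_chkVolt isAdd3 ok3 (by decide +kernel)

theorem cov3 : Cov 5 A6P.rels 3 es3 (mM 3 nets3 cs3) (zM 3 6) :=
  cov_of_volt ok3 (by decide) hP3 (by decide +kernel) v3_0 5

theorem mult : HasCyclicSchurMultiplier A6P.G 6 :=
  cyc_of_bnd2 (a := 2) (b := 3) (by decide) sb (mdvd_cov1 A6P.lifts A6P.hg A6P.hl cov2 [-1, 0, 0, -1, -1, -2, 1, -1, 0, 1] (by decide +kernel))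
    (mdvd_cov1 A6P.lifts A6P.hg A6P.hl cov3 [-2, 0, 0, -2, -2, -4, 2, -2, 0, 2] (by decide +kernel))

end Cfsg.Agent.Known.A6T
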