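import Cfsg.Agent.Known.Bridge
import Cfsg.Agent.Known.P.A6

/-! Pointwise tables and a base for `A6P.G` in degree 6 (generated certificate, helper25): letters `y`,
action `act`, `hy`, `base`, `mdl`. -/

set_option maxRecDepth 100000
set_option exponentiation.threshold 100000

namespace Cfsg.Agent.Known.A6T

open Cfsg.Agent.Comp

noncomputable def t0 : ℕ := (nat_lit 0x23a88)

theorem h0 : TabOf 6 3 t0 (Spor.ev (Spor.PP A6P.nets) [0])⁻¹ :=
  tabOf_of_chk (L := 3) A6P.ok _ (by decide +kernel)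

noncomputable def t1 : ℕ := (nat_lit 0x1d888)

theorem h1 : TabOf 6 3 t1 (Spor.ev (Spor.PP A6P.nets) [1])⁻¹ :=
  tabOf_of_chk (L := 3) A6P.ok _ (by decide +kernel)

noncomputable def t2 : ℕ := (nat_lit 0x13948)

theorem h2 : TabOf 6 3 t2 (Spor.ev (Spor.PP A6P.nets) [2])⁻¹ :=
  tabOf_of_chk (L := 3) A6P.ok _ (by decide +kernel)

noncomputable def t3 : ℕ := (nat_lit 0x1ca50)

theorem h3 : TabOf 6 3 t3 (Spor.ev (Spor.PP A6P.nets) [3])⁻¹ :=
  tabOf_of_chk (L := 3) A6P.ok _ (by decide +kernel)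

noncomputable def t4 : ℕ := (nat_lit 0x86ac)

theorem h4 : TabOf 6 3 t4 (Spor.ev (Spor.PP A6P.nets) [4])⁻¹ :=
  tabOf_of_chk (L := 3) A6P.ok _ (by decide +kernel)

noncomputable def tabs : List ℕ := [t0, t1, t2, t3, t4]

def wds : List (List ℕ) := [[0],[1],[2],[3],[4]]

noncomputable scoped instance inst : MulAction A6P.G ℕ := actOf A6P.φ

scoped instance fin : Finite A6P.G := Nat.finite_of_card_ne_zero (by rw [A6P.card]; decide)

noncomputable def y (i : ℕ) : A6P.G := (Spor.ev A6P.g (nthL [0] wds i))⁻¹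

noncomputable def act (i : ℕ) : ℕ → ℕ := get2 3 (nthL t0 tabs i)

theorem hy : ActBy y (PtN 6) act :=
  actBy_tabs A6P.rep (.cons h0 (.cons h0 (.cons h1 (.cons h2 (.cons h3 (.cons h4 (.nil))))))) (by decide +kernel)

theorem f0 : FixLe A6P.G (PtN 6) [0] 6 :=
  FixLe.nil.stepW (isCanon_PtN _) hy 0 6 [[0,4],[2]] 6 ⟨_, rfl, by decide⟩ (by decide +kernel)

theorem f1 : FixLe A6P.G (PtN 6) [1,0] 30 :=
  f0.stepW (isCanon_PtN _) hy 1 5 [[2,3]] 6 ⟨_, rfl, by decide⟩ (by decide +kernel)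

theorem f2 : FixLe A6P.G (PtN 6) [2,1,0] 120 :=
  f1.stepW (isCanon_PtN _) hy 2 4 [[2],[1]] 6 ⟨_, rfl, by decide⟩ (by decide +kernel)

theorem f3 : FixLe A6P.G (PtN 6) [3,2,1,0] 360 :=
  f2.stepW (isCanon_PtN _) hy 3 3 [[1]] 6 ⟨_, rfl, by decide⟩ (by decide +kernel)

theorem base : IsBase A6P.G (PtN 6) [3,2,1,0] := f3.isBase A6P.card le_rfl

theorem mdl : Mdl A6P.φ 6 5 360 y act [3,2,1,0] :=
  mdl_of_tabs A6P.rep hy base (by decide) A6P.card (by decide)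

end Cfsg.Agent.Known.A6T
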