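import Cfsg.Agent.Known.A6Tab
import Cfsg.Agent.Known.Pack

/-! Upper bound for the Schur multiplier of `A6P.G` (generated certificate, helper25): `sb`. -/

set_option maxRecDepth 100000

namespace Cfsg.Agent.Known.A6T

open Cfsg.Agent.Comp

def D2 : PcData := ⟨1, 3,
  [[2],[],[]],
  [[],[[1,2]],[[2],[2]]],
  []⟩

noncomputable def T2_0 : List ((ℕ × ℕ × List ℕ × List ℕ) × List (ℕ × ℕ)) := decTests
  [nat_lit 0xd6020004,nat_lit 0x2e0ba02c07030003,nat_lit 0xa010004,nat_lit 0x380e100b08020003,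
  nat_lit 0x85020004,nat_lit 0x650cb00a40e01d08030005]

theorem hT2_0 : relOK D2 12 11 T2_0 = true := by decide +kernel

noncomputable def L2 : LinCert := LinCert.dec []
  [nat_lit 0x763b40508010003,nat_lit 0x428a03020003,nat_lit 0x84860407010003]
  [(nat_lit 0xf0f81405030003, 2, nat_lit 0x602010001)]
  [nat_lit 0xa02020001,nat_lit 0x402010001,nat_lit 0x502010001,nat_lit 0x1502030001,nat_lit 0xb02020001,
  nat_lit 0x51ce03020003]

theorem hL2 : linOK D2 12 ([T2_0].flatMap fun c => c.map fun s => s.2) L2 = true := by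
  decide +kernel

def xw2 : List (List ℕ) := [[4,1,2,1],[2,1,4,3,0,2,1],[2,1,4,2,3,2,0]]

noncomputable def a2 (i : ℕ) : ℕ → ℕ := actW act (nthL [] xw2 i)

theorem r2_0 : ∀ j < 3, D2.relJ (eqB a2 [3,2,1,0]) j = true :=
  forall_lt_add (a := 0) (b := 3) (fun _ h => absurd h (Nat.not_lt_zero _)) (by decide +kernel)

theorem f2' : D2.relF (eqB a2 [3,2,1,0]) = true := by decide +kernel

theorem o2 : D2.ordOK a2 [[0],[2],[0,1]] [1,0] 6 6 = true := by decide +kernel

theorem sb2 : SBnd A6P.G 45 [2] :=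
  sbnd_of_act (isCanon_PtN 6) (hy.words xw2) base D2 (by decide +kernel) r2_0 f2' A6P.card
    (by decide +kernel) (exists_PtN (by decide +kernel)) o2 (List.forall_mem_cons.2 ⟨hT2_0, List.forall_mem_nil _⟩) hL2 (by decide +kernel)

def D3 : PcData := ⟨2, 2,
  [[],[]],
  [[],[[1]]],
  []⟩

noncomputable def T3_0 : List ((ℕ × ℕ × List ℕ × List ℕ) × List (ℕ × ℕ)) := decTests
  [nat_lit 0xb010004,nat_lit 0x73cd04010003]

theorem hT3_0 : relOK D3 12 12 T3_0 = true := by decide +kernel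

noncomputable def L3 : LinCert := LinCert.dec []
  [nat_lit 0x1b370406010003,nat_lit 0x2e0b900a08020003]
  [(nat_lit 0x703840508010003, 3, nat_lit 0x402010001)]
  [nat_lit 0x402010001,nat_lit 0xa02020001,nat_lit 0x502010001]

theorem hL3 : linOK D3 12 ([T3_0].flatMap fun c => c.map fun s => s.2) L3 = true := by
  decide +kernel

def xw3 : List (List ℕ) := [[0,2,3,2,4,1],[0,2,3,1,2]]

noncomputable def a3 (i : ℕ) : ℕ → ℕ := actW act (nthL [] xw3 i)

theorem r3_0 : ∀ j < 2, D3.relJ (eqB a3 [3,2,1,0]) j = true :=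
  forall_lt_add (a := 0) (b := 2) (fun _ h => absurd h (Nat.not_lt_zero _)) (by decide +kernel)

theorem f3' : D3.relF (eqB a3 [3,2,1,0]) = true := by decide +kernel

theorem o3 : D3.ordOK a3 [[0],[1]] [0,1] 6 5 = true := by decide +kernel

theorem sb3 : SBnd A6P.G 40 [3] :=
  sbnd_of_act (isCanon_PtN 6) (hy.words xw3) base D3 (by decide +kernel) r3_0 f3' A6P.card
    (by decide +kernel) (exists_PtN (by decide +kernel)) o3 (List.forall_mem_cons.2 ⟨hT3_0, List.forall_mem_nil _⟩) hL3 (by decide +kernel)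

def xwc : List (List ℕ) := [[4,1]]

theorem sb : SBnd A6P.G 1 [2,3] :=
  ((sb2.append sb3).append
    (sbnd_of_cyclic (isCanon_PtN 6) (hy.words xwc) base 0 5 0 (by norm_num) (b := 0) ⟨_, rfl, by decide⟩
      (by decide +kernel) A6P.card (m := 72) (by decide +kernel))).of_eq (by decide +kernel) rfl

end Cfsg.Agent.Known.A6T
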