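import Cfsg.Agent.Known.A7Tab

/-! The alternating group of degree 7 is isomorphic to its model (helper25): `equiv`. -/

namespace Cfsg.Agent.Known.A7T

open Cfsg.Agent.Comp Equiv

def us : List (List ℕ) := [[3,2,4,5,3,1],[3,2,4,5,0,4,0,2,3,2,0]]

theorem mdl2 : Mdl A7P.φ 7 2 2520 (fun j => W y (nthL [] us j)) (fun j => actW act (nthL [] us j)) [3,4,1,2,0] :=
  mdl.words us [[1,1,0,1,0,1,1,1,1,1,1,1,1,1,1,1,1,1,1,1,1,1,1,0,0,1],[1,1,1,1,1,1,0,1,1,1,0,0,1,1,1,1,1,1,0,0,1,1,1,1,1,1,1,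
  1,1,1,1,1],[1,1,0,0,1,1,1,1,1,1,1,1,1,1,1,1,0,0,1,1,1,0,1,0,1,1,1,1,1,1,1,1,1,1,1,1,1,1,1,1,1,1,0,0,1],[0,1,0,
  0,1,0,1,1,0,0,1,1,1,1,1,1,1,1,1,1,1,1,0,0,1],[1,1,1,1,1,1,0,1,1,1,1,1,1,0,1,1,1,1,1,1,1,1,1,1,1,1,0,1,1,0,1,1,
  1,1,1,1],[0,0,1,0,0,1,1,1,1,1,1,0,1,0,1,1,1,1,1,1,0,1,1,1,0,0,1,1,1,1,1,1,0,0,1,1,1,1,1,1,1,1,1,1,1,1]] (by decide +kernel)

def x (j : ℕ) : alternatingGroup (Fin 7) :=
  if j = 0 then ⟨swap 0 1 * swap 1 2, by rw [Perm.mem_alternatingGroup]; decide +kernel⟩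
  else ⟨swap 0 1 * swap 1 2 * swap 2 3 * swap 3 4 * swap 4 5 * swap 5 6, by rw [Perm.mem_alternatingGroup]; decide +kernel⟩

theorem equiv : Nonempty (alternatingGroup (Fin 7) ≃* A7P.G) :=
  let ⟨e, _⟩ := mdl2.equiv_of_card (alternatingGroup (Fin 7)).subtype (Fin.ofNat 7) x (by decide +kernel)
    (by decide +kernel) (by rw [nat_card_alternatingGroup]; simp [Nat.factorial])
  ⟨e⟩

end Cfsg.Agent.Known.A7T
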