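import Cfsg.Agent.Known.A7Up

/-! The Schur multiplier of the model of A7 (generated certificate, helper25): `mult`. -/

set_option maxRecDepth 100000
set_option exponentiation.threshold 100000

namespace Cfsg.Agent.Known.A7T

open Cfsg.Agent.Spor

noncomputable def n2_0 : Net :=
  Net.cons 1 (nat_lit 0x4044404505104050154455044014) <|
  Net.cons 2 (nat_lit 0x132013301233300030320331210000) <|
  Net.cons 4 (nat_lit 0xa08010103000d03000a0c02010500) <|
  Net.cons 8 (nat_lit 0xd600ec009a0021001000c20006) <|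
  Net.cons 16 (nat_lit 0x4a000057080000b84b0000e000) <|
  Net.cons 32 (nat_lit 0x145100000000050000000) <|
  Net.cons 64 (nat_lit 0x2cb5515c4bc000) <|
  Net.cons 32 (nat_lit 0x220b00000000a2514802) <|
  Net.cons 16 (nat_lit 0xc00002389000078c8000080d4) <|
  Net.cons 8 (nat_lit 0x4500ae0024006b003500e20032) <|
  Net.cons 4 (nat_lit 0xe080500010b070a04090f07080c00) <|
  Net.cons 2 (nat_lit 0x101020312220302002332000310202) <|
  Net.cons 1 (nat_lit 0x405555010001550401400005545045) <|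
  Net.nil

noncomputable def n2_1 : Net :=
  Net.cons 1 (nat_lit 0x450010515554005055055450010010) <|
  Net.cons 2 (nat_lit 0x323212033112220013111002120000) <|
  Net.cons 4 (nat_lit 0xb08020a00040a010d000802060800) <|
  Net.cons 8 (nat_lit 0xa8003e0088009200ca00000000) <|
  Net.cons 16 (nat_lit 0x5f0000256e0000a25300008600) <|
  Net.cons 32 (nat_lit 0xc0e08a0000000080000000) <|
  Net.cons 64 (nat_lit 0x8c6eba98468400) <|
  Net.cons 32 (nat_lit 0x10928000000001671e080) <|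
  Net.cons 16 (nat_lit 0x3700002d7700006676000066d8) <|
  Net.cons 8 (nat_lit 0x6e003e001f00b3005000510078) <|
  Net.cons 4 (nat_lit 0x1040600000a07070c0d0e01030f00) <|
  Net.cons 2 (nat_lit 0x332203220103122033112212120021) <|
  Net.cons 1 (nat_lit 0x111011111050451504511140510141) <|
  Net.nil

noncomputable def n2_2 : Net :=
  Net.cons 1 (nat_lit 0x500050444044050000055155154040) <|
  Net.cons 2 (nat_lit 0x210030321021021121021122300320) <|
  Net.cons 4 (nat_lit 0x10f0c0c070c070f0a0c0e03000700) <|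
  Net.cons 8 (nat_lit 0x3000cb0038000e000200a40000) <|
  Net.cons 16 (nat_lit 0x70000020810000138000006b00) <|
  Net.cons 32 (nat_lit 0x27a75a0000000000000000) <|
  Net.cons 64 (nat_lit 0x47cfdb00382000) <|
  Net.cons 32 (nat_lit 0x43c8e5000000004bbdb400) <|
  Net.cons 16 (nat_lit 0xe40000945f0000ec7e0000ffb0) <|
  Net.cons 8 (nat_lit 0x8000db009500c5007400c600b4) <|
  Net.cons 4 (nat_lit 0xe090505080508090305010a060806) <|
  Net.cons 2 (nat_lit 0x213303021321321121321122033023) <|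
  Net.cons 1 (nat_lit 0x55505111501505551500400401515) <|
  Net.nil

noncomputable def n2_3 : Net :=
  Net.cons 1 (nat_lit 0x11104041450504004011505540140) <|
  Net.cons 2 (nat_lit 0x3111100232220020300300000210) <|
  Net.cons 4 (nat_lit 0x9020108020c020806070a020a0e00) <|
  Net.cons 8 (nat_lit 0x10008000700072001400a10008) <|
  Net.cons 16 (nat_lit 0xec0000d2380000350200006000) <|
  Net.cons 32 (nat_lit 0x90c5590000000080000000) <|
  Net.cons 64 (nat_lit 0xc5bf5b94774000) <|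
  Net.cons 32 (nat_lit 0x8027b00000000653a4518) <|
  Net.cons 16 (nat_lit 0x9100002b160000dea800000fb8) <|
  Net.cons 8 (nat_lit 0x960094009b002b008a00fc00be) <|
  Net.cons 4 (nat_lit 0x9070b0d060c070d0602050305040f) <|
  Net.cons 2 (nat_lit 0x330222233101113313033033333123) <|
  Net.cons 1 (nat_lit 0x11104441450544004011505540140) <|
  Net.nil

noncomputable def n2_4 : Net :=
  Net.cons 1 (nat_lit 0x44014110050054441415410041010) <|
  Net.cons 2 (nat_lit 0x303101330133101211121102011100) <|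
  Net.cons 4 (nat_lit 0x50102020b0c0d05060a0a0a000400) <|
  Net.cons 8 (nat_lit 0x2600820041002f006e00410008) <|
  Net.cons 16 (nat_lit 0x49000029ea0000650100004400) <|
  Net.cons 32 (nat_lit 0x41002a0000000004000000) <|
  Net.cons 64 (nat_lit 0x4b642a1f820400) <|
  Net.cons 32 (nat_lit 0x2d78b500000000dc059188) <|
  Net.cons 16 (nat_lit 0xe50000a1ee0000d4380000ec68) <|
  Net.cons 8 (nat_lit 0xf500fb00190057005e00490006) <|
  Net.cons 4 (nat_lit 0xd0300090a0e0d04070d0b0b000501) <|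
  Net.cons 2 (nat_lit 0x111321312133301231123122111100) <|
  Net.cons 1 (nat_lit 0x44014110050054441415410041010) <|
  Net.nil

noncomputable def n2_5 : Net :=
  Net.cons 1 (nat_lit 0x101004011045510545401151044150) <|
  Net.cons 2 (nat_lit 0x11323033021221033011102033210) <|
  Net.cons 4 (nat_lit 0x60c0d06060f050801020402030300) <|
  Net.cons 8 (nat_lit 0xae00d600200010001100e00060) <|
  Net.cons 16 (nat_lit 0xc100000980000046f800000100) <|
  Net.cons 32 (nat_lit 0x28c1910000000068000000) <|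
  Net.cons 64 (nat_lit 0xe1e09178890100) <|
  Net.cons 32 (nat_lit 0x403ae500000000f70e9970) <|
  Net.cons 16 (nat_lit 0xb90000941b0000a0670000e118) <|
  Net.cons 8 (nat_lit 0x5900790047000e00ae00e70066) <|
  Net.cons 4 (nat_lit 0xf0a020f0f060308010d0b0d050509) <|
  Net.cons 2 (nat_lit 0x311020300321221300311132300213) <|
  Net.cons 1 (nat_lit 0x454551544510045010154404511405) <|
  Net.nil

noncomputable def nets2 : List Net := [n2_0, n2_1, n2_2, n2_3, n2_4, n2_5]

theorem ok2 : netsOk 120 nets2 = true := by decide +kernel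

theorem pl2_7 : ∀ p < 7, chkPl nets2 120 7 A7P.rels p = true :=
  forall_lt_add (a := 0) (b := 7) (fun _ h => absurd h (Nat.not_lt_zero _)) (by decide +kernel)

theorem hP2 : ∀ r ∈ A7P.rels, ev (PP nets2) r = 1 := ev_eq_one_of_planes ok2 (by decide) pl2_7

noncomputable def cs2 : List (ℕ × ℕ) := [
  ((nat_lit 0x42313d47c2e8c7c51190a08882b002),
  (nat_lit 0x0)),
  ((nat_lit 0x89d740b629932a180e6d0b13010104),
  (nat_lit 0x0)),
  ((nat_lit 0xc8f7de265fe294af648251ea50ccc8),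
  (nat_lit 0x0)),
  ((nat_lit 0xf7b9821c7fb6bd76955482e4471110),
  (nat_lit 0x0)),
  ((nat_lit 0xcad6757e990975d3adac36ce342220),
  (nat_lit 0x0)),
  ((nat_lit 0x15edb10f9584afc2d8be6db66cc440),
  (nat_lit 0x0))]

def es2 : List ℕ := [0,0,1,1,0,1,0,1,0,0,1,0,0]

theorem v2_0 : ∀ r ∈ (List.drop 0 (A7P.rels.zip es2)), ev (PP nets2) r.1 = 1 → ev (mM 2 nets2 cs2) r.1 = zM 2 120 ^ r.2 :=
  ev_of_chkVolt isAdd2 ok2 (by decide +kernel)

theorem cov2 : Cov 6 A7P.rels 2 es2 (mM 2 nets2 cs2) (zM 2 120) :=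
  cov_of_volt ok2 (by decide) hP2 (by decide +kernel) v2_0 6

noncomputable def n3_0 : Net :=
  Net.cons 1 (nat_lit 0x1541) <|
  Net.cons 2 (nat_lit 0x1120) <|
  Net.cons 4 (nat_lit 0x600) <|
  Net.cons 8 (nat_lit 0x68) <|
  Net.cons 4 (nat_lit 0x508) <|
  Net.cons 2 (nat_lit 0x131) <|
  Net.cons 1 (nat_lit 0x1540) <|
  Net.nil

noncomputable def n3_1 : Net :=
  Net.cons 1 (nat_lit 0x1540) <|
  Net.cons 2 (nat_lit 0x1000) <|
  Net.cons 4 (nat_lit 0x108) <|
  Net.cons 8 (nat_lit 0x38) <|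
  Net.cons 4 (nat_lit 0x700) <|
  Net.cons 2 (nat_lit 0x231) <|
  Net.cons 1 (nat_lit 0x1541) <|
  Net.nil

noncomputable def n3_2 : Net :=
  Net.cons 1 (nat_lit 0x1000) <|
  Net.cons 2 (nat_lit 0x102) <|
  Net.cons 4 (nat_lit 0x100) <|
  Net.cons 8 (nat_lit 0x30) <|
  Net.cons 4 (nat_lit 0x10c) <|
  Net.cons 2 (nat_lit 0x101) <|
  Net.cons 1 (nat_lit 0x1145) <|
  Net.nil

noncomputable def n3_3 : Net :=
  Net.cons 1 (nat_lit 0x40) <|
  Net.cons 8 (nat_lit 0x28) <|
  Net.cons 4 (nat_lit 0x500) <|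
  Net.cons 2 (nat_lit 0x10) <|
  Net.cons 1 (nat_lit 0x41) <|
  Net.nil

noncomputable def n3_4 : Net :=
  Net.cons 2 (nat_lit 0x322) <|
  Net.cons 8 (nat_lit 0x66) <|
  Net.cons 4 (nat_lit 0x9) <|
  Net.cons 2 (nat_lit 0x322) <|
  Net.nil

noncomputable def n3_5 : Net :=
  Net.cons 1 (nat_lit 0x1510) <|
  Net.cons 2 (nat_lit 0x1102) <|
  Net.cons 4 (nat_lit 0x8) <|
  Net.cons 8 (nat_lit 0x2e) <|
  Net.cons 4 (nat_lit 0x30b) <|
  Net.cons 2 (nat_lit 0x1322) <|
  Net.cons 1 (nat_lit 0x1510) <|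
  Net.nil

noncomputable def nets3 : List Net := [n3_0, n3_1, n3_2, n3_3, n3_4, n3_5]

theorem ok3 : netsOk 15 nets3 = true := by decide +kernel

theorem pl3_4 : ∀ p < 4, chkPl nets3 15 4 A7P.rels p = true :=
  forall_lt_add (a := 0) (b := 4) (fun _ h => absurd h (Nat.not_lt_zero _)) (by decide +kernel)

theorem hP3 : ∀ r ∈ A7P.rels, ev (PP nets3) r = 1 := ev_eq_one_of_planes ok3 (by decide) pl3_4

noncomputable def cs3 : List (ℕ × ℕ) := [
  ((nat_lit 0x110),
  (nat_lit 0x1200)),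
  ((nat_lit 0x110),
  (nat_lit 0xc0)),
  ((nat_lit 0x110),
  (nat_lit 0x600)),
  ((nat_lit 0x110),
  (nat_lit 0x1080)),
  ((nat_lit 0x411a),
  (nat_lit 0x3680)),
  ((nat_lit 0x110),
  (nat_lit 0x480))]

def es3 : List ℕ := [0,0,0,0,0,0,0,1,0,0,0,0,0]

theorem v3_0 : ∀ r ∈ (List.drop 0 (A7P.rels.zip es3)), ev (PP nets3) r.1 = 1 → ev (mM 3 nets3 cs3) r.1 = zM 3 15 ^ r.2 :=
  ev_of_chkVolt isAdd3 ok3 (by decide +kernel)

theorem cov3 : Cov 6 A7P.rels 3 es3 (mM 3 nets3 cs3) (zM 3 15) :=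
  cov_of_volt ok3 (by decide) hP3 (by decide +kernel) v3_0 6

theorem mult : HasCyclicSchurMultiplier A7P.G 6 :=
  cyc_of_bnd2 (a := 2) (b := 3) (by decide) sb (mdvd_cov1 A7P.lifts A7P.hg A7P.hl cov2 [0, 0, 0, 0, 1, 0, -3, -3, 0, 3, 0, 0, 0] (by decide +kernel))
    (mdvd_cov1 A7P.lifts A7P.hg A7P.hl cov3 [-4, 0, 0, 0, 0, 2, 8, 4, 0, -4, 8, -8, 0] (by decide +kernel))

end Cfsg.Agent.Known.A7T
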