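import Cfsg.Agent.Known.Bridge
import Cfsg.Agent.Known.P.A7

/-! Pointwise tables and a base for `A7P.G` in degree 7 (generated certificate, helper25): letters `y`,
action `act`, `hy`, `base`, `mdl`. -/

set_option maxRecDepth 100000
set_option exponentiation.threshold 100000

namespace Cfsg.Agent.Known.A7T

open Cfsg.Agent.Comp

noncomputable def t0 : ℕ := (nat_lit 0xf4a88)

theorem h0 : TabOf 7 3 t0 (Spor.ev (Spor.PP A7P.nets) [0])⁻¹ :=
  tabOf_of_chk (L := 3) A7P.ok _ (by decide +kernel)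

noncomputable def t1 : ℕ := (nat_lit 0x15cc88)

theorem h1 : TabOf 7 3 t1 (Spor.ev (Spor.PP A7P.nets) [1])⁻¹ :=
  tabOf_of_chk (L := 3) A7P.ok _ (by decide +kernel)

noncomputable def t2 : ℕ := (nat_lit 0xe5c88)

theorem h2 : TabOf 7 3 t2 (Spor.ev (Spor.PP A7P.nets) [2])⁻¹ :=
  tabOf_of_chk (L := 3) A7P.ok _ (by decide +kernel)

noncomputable def t3 : ℕ := (nat_lit 0x199aa0)

theorem h3 : TabOf 7 3 t3 (Spor.ev (Spor.PP A7P.nets) [3])⁻¹ :=
  tabOf_of_chk (L := 3) A7P.ok _ (by decide +kernel)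

noncomputable def t4 : ℕ := (nat_lit 0x116748)

theorem h4 : TabOf 7 3 t4 (Spor.ev (Spor.PP A7P.nets) [4])⁻¹ :=
  tabOf_of_chk (L := 3) A7P.ok _ (by decide +kernel)

noncomputable def t5 : ℕ := (nat_lit 0x1a560a)

theorem h5 : TabOf 7 3 t5 (Spor.ev (Spor.PP A7P.nets) [5])⁻¹ :=
  tabOf_of_chk (L := 3) A7P.ok _ (by decide +kernel)

noncomputable def tabs : List ℕ := [t0, t1, t2, t3, t4, t5]

def wds : List (List ℕ) := [[0],[1],[2],[3],[4],[5]]

noncomputable scoped instance inst : MulAction A7P.G ℕ := actOf A7P.φ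

scoped instance fin : Finite A7P.G := Nat.finite_of_card_ne_zero (by rw [A7P.card]; decide)

noncomputable def y (i : ℕ) : A7P.G := (Spor.ev A7P.g (nthL [0] wds i))⁻¹

noncomputable def act (i : ℕ) : ℕ → ℕ := get2 3 (nthL t0 tabs i)

theorem hy : ActBy y (PtN 7) act :=
  actBy_tabs A7P.rep (.cons h0 (.cons h0 (.cons h1 (.cons h2 (.cons h3 (.cons h4 (.cons h5 (.nil)))))))) (by decide +kernel)

theorem f0 : FixLe A7P.G (PtN 7) [0] 7 :=
  FixLe.nil.stepW (isCanon_PtN _) hy 0 7 [[4,5],[3]] 7 ⟨_, rfl, by decide⟩ (by decide +kernel)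

theorem f1 : FixLe A7P.G (PtN 7) [2,0] 42 :=
  f0.stepW (isCanon_PtN _) hy 2 6 [[4],[2,3]] 7 ⟨_, rfl, by decide⟩ (by decide +kernel)

theorem f2 : FixLe A7P.G (PtN 7) [1,2,0] 210 :=
  f1.stepW (isCanon_PtN _) hy 1 5 [[2,3]] 7 ⟨_, rfl, by decide⟩ (by decide +kernel)

theorem f3 : FixLe A7P.G (PtN 7) [4,1,2,0] 840 :=
  f2.stepW (isCanon_PtN _) hy 4 4 [[2],[1]] 7 ⟨_, rfl, by decide⟩ (by decide +kernel)

theorem f4 : FixLe A7P.G (PtN 7) [3,4,1,2,0] 2520 :=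
  f3.stepW (isCanon_PtN _) hy 3 3 [[1]] 7 ⟨_, rfl, by decide⟩ (by decide +kernel)

theorem base : IsBase A7P.G (PtN 7) [3,4,1,2,0] := f4.isBase A7P.card le_rfl

theorem mdl : Mdl A7P.φ 7 6 2520 y act [3,4,1,2,0] :=
  mdl_of_tabs A7P.rep hy base (by decide) A7P.card (by decide)

end Cfsg.Agent.Known.A7T
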