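import Cfsg.Agent.Known.CovM
import Cfsg.Agent.Leech.Simple

/-! `Co0` as a coded group (helper25): `canV`, `baseB`, `exV`, `perf0`, `stem0`; `cyc_of_cover`. -/

set_option autoImplicit false

namespace Cfsg.Agent.Known

open Cfsg.Agent.Comp Cfsg.Agent.Leech Cfsg.Agent.Golay Subgroup

theorem cyc_of_cover {C G : Type} [Group C] [Group G] [Finite C] (hC : Group.IsPerfect C) {σ : C →* G}
    (hσ : IsStemExtension σ) (h : SBnd C 1 []) {w : C} (hw : ∀ z, z ∈ σ.ker ↔ z = 1 ∨ z = w) (h1 : w ≠ 1) :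
    HasCyclicSchurMultiplier G 2 := by
  haveI := Finite.of_surjective σ hσ.1
  have k : w ∈ σ.ker := (hw w).2 (.inr rfl)
  have k2 : w ^ 2 = 1 := ((hw _).1 (pow_mem k 2)).resolve_right fun e => h1 (by
    rw [pow_two] at e; exact mul_left_cancel (e.trans (mul_one w).symm))
  refine cyc_of_bnd (fun Γ _ τ hτ => ?_) (MDvd.of_elt (Schur.isCentralExt_of_stem hσ) ⟨k, hσ.2.2 k⟩
    (orderOf_eq_prime k2 h1).symm.dvd)
  have hP := Schur.isCentralExt_pullSnd (Schur.isCentralExt_of_stem hτ) σ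
  obtain ⟨s, hs⟩ := Schur.exists_section_of_perfect hC hP (Schur.mul_eq_bot_of_trivial (cyc_one_of_bnd h) hP)
  have e : τ.comp ((Schur.pullFst τ σ).comp s) = σ := by
    rw [← MonoidHom.comp_assoc, Schur.pull_comm, MonoidHom.comp_assoc, hs, MonoidHom.comp_id]
  have e' := DFunLike.congr_fun e
  refine ⟨[_], .cons ⟨(e' w).trans k, by rw [← map_pow, k2, map_one]⟩ .nil, fun z hz => ?_⟩
  obtain ⟨u, rfl⟩ := Schur.surjective_of_over_stem hσ.1 hτ e z
  rcases (hw u).1 ((e' u).symm.trans hz) with rfl | rfl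
  · simp
  · exact pow_mem (subset_closure (by simp)) _

theorem canV : IsCanon PV := ⟨fun _ _ _ => PV.func, fun _ _ _ h h' => h.pb.canon h'.pb⟩

def BB : List ℕ := (List.range 24).map e8C

theorem baseB : IsBase CG PV BB := fun _ h => eq_one_of_fix fun i =>
  h _ (List.mem_map_of_mem (List.mem_range.2 (EG.enc_lt i))) _ (PV_e8 i)

theorem exV {B : List ℕ} (h : allL B inL = true) : ∀ b ∈ B, ∃ y, PV b y := fun b hb => ⟨_, PV_vec b (allL_iff.1 h b hb)⟩

theorem perf0 : Group.IsPerfect CG := Group.isPerfect_def.2 ((normal_Co0 _).resolve_left fun h => by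
  obtain ⟨p, -, hp⟩ := codes_PQ gP (by simp)
  obtain ⟨q, -, hq⟩ := codes_PQ gQ (by simp)
  have e := mem_center_iff.1 (mem_center_Co0.2 (h _ (commutator_mem_commutator (mem_top p) (mem_top q)))) p
  have k := grpC.mul (grpC.mul (grpC.mul hp hq) (grpC.inv hp)) (grpC.inv hq)
  exact absurd ((canC.eq_iff (grpC.mul hp k) (grpC.mul k hp)).1 e) (by set_option maxRecDepth 100000 in decide +kernel))

theorem stem0 : IsStemExtension (QuotientGroup.mk' (center CG)) :=
  ⟨QuotientGroup.mk'_surjective _, (QuotientGroup.ker_mk' _).le, Group.isPerfect_def.1 perf0 ▸ le_top⟩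

end Cfsg.Agent.Known
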