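import Cfsg.Agent.Known.Co0Up2
import Cfsg.Agent.Known.Co0Up3
import Cfsg.Agent.Known.Co0Up5
import Cfsg.Agent.Known.Co0Up7

/-! The Schur multipliers of `Co0` and `Co1` (generated certificate, helper25). -/

set_option maxRecDepth 100000
set_option Elab.async false

namespace Cfsg.Agent.Known.Co0Mul

open Cfsg.Agent.Comp
open Cfsg.Agent.Leech

theorem sb : SBnd CG 1 [] :=
  ((((((Co0Up2.sb.append Co0Up3.sb).append Co0Up5.sb).append Co0Up7.sb).append
    (SBnd.of_prime (p := 11) (m := 755959419371520000) (by norm_num) (card_Co0.trans (by norm_num)))).append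
    (SBnd.of_prime (p := 13) (m := 639657970237440000) (by norm_num) (card_Co0.trans (by norm_num)))).append
    (SBnd.of_prime (p := 23) (m := 361545809264640000) (by norm_num) (card_Co0.trans (by norm_num)))).of_eq
    (by decide +kernel) rfl

theorem mult : HasCyclicSchurMultiplier Cfsg.Spor.Co1 2 :=
  cyc_of_cover perf0 stem0 sb (w := negC) (by rw [QuotientGroup.ker_mk']; exact fun _ => mem_center_Co0) negC_ne_one

end Cfsg.Agent.Known.Co0Mul
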