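import Cfsg.Agent.Known.PTail
import Cfsg.Agent.Schur.Alt
import Cfsg.Agent.Schur.Lift

/-! Multipliers of covering groups and of centralisers (helper25): `SBnd.cover`, `sbnd_alt`, `SBnd.cent`. -/

set_option autoImplicit false

namespace Cfsg.Agent.Known

open Subgroup
open scoped commutatorElement

theorem isStem_comp {Γ C G : Type*} [Group Γ] [Group C] [Group G] (hG : Group.IsPerfect G) {σ : C →* G} {τ : Γ →* C}
    (hσ : IsStemExtension σ) (hτ : IsStemExtension τ) : IsStemExtension (σ.comp τ) := by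
  have hΓ := Group.isPerfect_def.1 (Schur.isPerfect_of_stem (Schur.isPerfect_of_stem hG hσ) hτ)
  refine ⟨hσ.1.comp hτ.1, ?_, hΓ ▸ le_top⟩
  have h1 : ⁅(σ.comp τ).ker, (⊤ : Subgroup Γ)⁆ ≤ center Γ := commutator_le.2 fun z hz x _ => hτ.2.1 (by
    rw [MonoidHom.mem_ker, map_commutatorElement, commutatorElement_eq_one_iff_mul_comm]
    exact (mem_center_iff.1 (hσ.2.1 (show τ z ∈ σ.ker from hz)) _).symm)
  have h2 : ⁅⁅(σ.comp τ).ker, (⊤ : Subgroup Γ)⁆, (⊤ : Subgroup Γ)⁆ = ⊥ :=
    commutator_eq_bot_iff_le_centralizer.2 (h1.trans (center_le_centralizer _))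
  have h3 := commutator_commutator_eq_bot_of_rotate (H₁ := ⊤) (H₂ := ⊤) (H₃ := (σ.comp τ).ker)
    (by rw [commutator_comm ⊤ (σ.comp τ).ker, h2]) h2
  rw [← commutator_def, hΓ, commutator_comm, commutator_eq_bot_iff_le_centralizer] at h3
  exact fun z hz => mem_center_iff.2 fun x => h3 hz x trivial

theorem SBnd.cover {C G : Type} [Group C] [Group G] (hG : Group.IsPerfect G) {σ : C →* G} (hσ : IsStemExtension σ)
    {p m : ℕ} (hp : p.Prime) (h : SBnd G m [p]) {w : C} (hw : σ w = 1) (hw' : w ^ m ≠ 1) : SBnd C m [] :=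
  sbnd_nil fun Γ _ τ hτ z hz => by
    obtain ⟨_, h1, h2⟩ := h Γ _ (isStem_comp hG hσ hτ)
    obtain _ | ⟨⟨-, hc⟩, ⟨⟩⟩ := h1
    rename_i c
    simp only [List.mem_singleton, Set.ofPred_eq_eq_singleton, ← zpowers_eq_closure] at h2
    obtain ⟨u, rfl⟩ := hτ.1 w
    obtain ⟨i, hi⟩ := h2 u hw
    obtain ⟨j, hj⟩ := h2 z (show σ (τ z) = 1 by rw [show τ z = 1 from hz, map_one])
    haveI := Fact.mk hp
    have h3 : orderOf (τ c) = p := orderOf_eq_prime (by rw [← map_pow, hc, map_one]) fun e =>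
      hw' (by rw [← map_pow, ← hi, map_zpow, e, one_zpow])
    have h4 : τ c ^ j = 1 := by rw [← map_zpow, show c ^ j = _ from hj, map_pow, show τ z = 1 from hz, one_pow]
    obtain ⟨k, rfl⟩ := h3 ▸ orderOf_dvd_iff_zpow_eq_one.2 h4
    rw [← hj]
    show c ^ (_ * k) = 1
    rw [zpow_mul, zpow_natCast, hc, one_zpow]

theorem sbnd_alt {n : ℕ} (hn : 8 ≤ n) : SBnd (alternatingGroup (Fin n)) 1 [2] := fun Γ _ σ hσ => by
  haveI : Finite σ.ker := Schur.mul_eq_ker_of_stem hσ ▸ Schur.finite_mul hσ.2.1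
  haveI : Finite Γ := Schur.finite_of_finite_ker σ
  have e : ((alternatingGroup (Fin n)).subtype.comp σ).ker = σ.ker := by ext; simp
  have h := Schur.alt_ker_le_two (π := (alternatingGroup (Fin n)).subtype.comp σ) (e ▸ hσ.2.1)
    (by rw [MonoidHom.range_comp, MonoidHom.range_eq_top.2 hσ.1, ← MonoidHom.range_eq_map, range_subtype]) (e ▸ hσ.2.2)
    (by simp [hn])
  rw [e] at h
  haveI : IsCyclic σ.ker := by
    rcases Nat.lt_or_ge (Nat.card σ.ker) 2 with h1 | h1
    · haveI := Finite.card_le_one_iff_subsingleton.1 (Nat.le_of_lt_succ h1)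
      infer_instance
    · exact isCyclic_of_prime_card (le_antisymm h h1)
  obtain ⟨c, hc⟩ := IsCyclic.exists_generator (α := σ.ker)
  refine ⟨[c], .cons ⟨c.2, ?_⟩ .nil, fun z hz => ?_⟩
  · have h1 : Nat.card σ.ker ∣ 2 := by
      have := Nat.card_pos (α := σ.ker)
      interval_cases Nat.card σ.ker <;> decide
    exact congrArg Subtype.val (orderOf_dvd_iff_pow_eq_one.1 ((_root_.orderOf_dvd_natCard c).trans h1) : c ^ 2 = 1)
  · obtain ⟨k, hk⟩ := hc ⟨z, hz⟩
    rw [pow_one, show z = _ from (congrArg Subtype.val hk).symm]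
    exact zpow_mem (subset_closure (by simp)) _

theorem SBnd.cent {G U : Type} [Group G] [Group U] [Finite G] {z p q : G} (hz : z ≠ 1) (hp : z * p = p * z)
    (hq : z * q = q * z) (hc : p * q = z * (q * p)) {r N n : ℕ} (hr : r.Prime)
    (hZ : Nat.card (center (centralizer ({z} : Set G))) = r)
    (e : Nonempty (centralizer ({z} : Set G) ⧸ center (centralizer ({z} : Set G)) ≃* U)) (hU : Group.IsPerfect U)
    (h : SBnd U 1 [r]) (hN : Nat.card U = N) (hG : Nat.card G = n * (r * N)) : SBnd G n [] := by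
  obtain ⟨e⟩ := e
  let w : centralizer ({z} : Set G) := ⟨z, by simp [mem_centralizer_iff]⟩
  have h1 : w ∈ center _ := mem_center_iff.2 fun x => Subtype.ext (x.2 z rfl).symm
  have h2 : w ∈ commutator (centralizer ({z} : Set G)) := by
    have := commutator_mem_commutator (mem_top (⟨p, by simpa [mem_centralizer_iff]⟩ : centralizer ({z} : Set G)))
      (mem_top (⟨q, by simpa [mem_centralizer_iff]⟩ : centralizer ({z} : Set G)))
    refine Eq.mp (congrArg (· ∈ _) (Subtype.ext ?_)) this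
    show p * q * p⁻¹ * q⁻¹ = z
    rw [hc]; group
  have h3 : w ≠ 1 := fun h => hz (congrArg Subtype.val h)
  haveI := Fact.mk hr
  have h4 : center (centralizer ({z} : Set G)) = zpowers w :=
    (eq_of_le_of_card_ge (zpowers_le.2 h1) (by
      rw [hZ, Nat.card_zpowers, orderOf_eq_prime (p := r) (by
        rw [← hZ]; exact congrArg Subtype.val (pow_card_eq_one' (x := (⟨w, h1⟩ : center _)))) h3])).symm
  have h5 : IsStemExtension (QuotientGroup.mk' (center (centralizer ({z} : Set G)))) :=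
    ⟨QuotientGroup.mk'_surjective _, (QuotientGroup.ker_mk' _).le, (QuotientGroup.ker_mk' _).le.trans (h4 ▸ zpowers_le.2 h2)⟩
  have h6 := (h.cover hU (Schur.isStem_equiv_comp h5 e) hr (w := w) (by
    simp [(QuotientGroup.eq_one_iff w).2 h1]) (by rwa [pow_one])).of_sub (subtype_injective _) (n := n) (by
    have h7 := (center (centralizer ({z} : Set G))).card_eq_card_quotient_mul_card_subgroup
    have h8 := (centralizer ({z} : Set G)).index_mul_card
    rw [Nat.card_congr e.toEquiv, hN, hZ, mul_comm] at h7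
    rw [h7, hG] at h8
    rw [range_subtype]
    exact Nat.eq_of_mul_eq_mul_right (h7 ▸ Nat.card_pos) h8)
  rwa [mul_one] at h6

end Cfsg.Agent.Known
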