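import Cfsg.Agent.Known.G23Tab
import Cfsg.Agent.Known.Pack

/-! Upper bound for the Schur multiplier of `G23P.G` (generated certificate, helper25): `sb`. -/

set_option maxRecDepth 100000

namespace Cfsg.Agent.Known.G23T

open Cfsg.Agent.Comp

def D2 : PcData := ⟨1, 6,
  [[],[],[],[5],[5],[]],
  [[],[[1,2]],[[2],[2]],[[3,4,5],[3],[3,5]],[[4,5],[4,5],[4],[4,5]],[[5],[5],[5],[5],[5]]],
  [(6,[2],[1]),(6,[4],[3,5]),(7,[1],[1,2,4,5]),(7,[3],[3]),(8,[0],[0,5]),(8,[2],[5])]⟩

noncomputable def T2_0 : List ((ℕ × ℕ × List ℕ × List ℕ) × List (ℕ × ℕ)) := decTests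
  [nat_lit 0x825445040007,nat_lit 0xb817401183f07040004,nat_lit 0x44c030004,nat_lit 0x1440a30022c0a005408050005,
  nat_lit 0x84b030004,nat_lit 0xe00e200a705007050004,nat_lit 0x20c030004,nat_lit 0x90092008a04f05407050005,
  nat_lit 0x87020004,nat_lit 0xf03e01a06b1b0701cc7405050008,nat_lit 0x40c030004,nat_lit 0x300c806c13c7005050005,
  nat_lit 0xb0c030004,nat_lit 0x45022c005308050003,nat_lit 0x3a693030007,nat_lit 0x3581ae003401340a407308050006,
  nat_lit 0x8cb030004,nat_lit 0x5502ac005208050003,nat_lit 0x80b030004,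
  nat_lit 0x1740bb002980da06e02781c81660b408050009,nat_lit 0x47020004,nat_lit 0xd01a804304a09c13c2989406050008,
  nat_lit 0x32201030007,nat_lit 0x680d4019c2607006050005,nat_lit 0x97020004,nat_lit 0x1dc3bc02708030003,
  nat_lit 0xacc030004,nat_lit 0x3f81fe005681480e607408050006,nat_lit 0xa8c030004,
  nat_lit 0xae0578015805108050004,nat_lit 0xe7020004,nat_lit 0x1540ab002200a205408050005,nat_lit 0x68c030004,
  nat_lit 0x9a09b004c08040003,nat_lit 0xc8d030004,nat_lit 0x4f027c00b108050003,nat_lit 0xc0d030004,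
  nat_lit 0xda0db005f08040003,nat_lit 0xb010004,nat_lit 0x909821131505030005,nat_lit 0x85020004,
  nat_lit 0x620c500a40e01d08030005]

theorem hT2_0 : relOK D2 18 24 T2_0 = true := by decide +kernel

noncomputable def L2 : LinCert := LinCert.dec []
  [nat_lit 0x888a0407010003,nat_lit 0x2cb8505010003,nat_lit 0x80840a06020003,nat_lit 0xe0e81605030003,
  nat_lit 0x8e08f002808040003,nat_lit 0xc20c3002908040003]
  []
  [nat_lit 0x402010001,nat_lit 0x502010001,nat_lit 0xa02020001,
  nat_lit 0x5870d8081a09048101a050283442040a814320d04806030013,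
  nat_lit 0x161c3602068241204068140a0d108102a050c834120301806030015,
  nat_lit 0x290e0c1a018301008028300804060800a1402060180801006030015,nat_lit 0xb02020001,
  nat_lit 0x17606101060c50202100c50218182004030011,nat_lit 0x1402030001,nat_lit 0x1502030001,
  nat_lit 0x142aa8204848481068383848c820a828c8684805030013,
  nat_lit 0x50954818260f09810320d06844620814824621908806030013,
  nat_lit 0xbf48182a0f0a810320d06844620814824621908806030012,
  nat_lit 0x1422a4810108320d81413822088422c8181e81a2484a0c807030013,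
  nat_lit 0xb8609d5c14251088c14310b8544a690814422611888407020014,
  nat_lit 0x7ed8081a09048101a050283442040a814320d04806030012,
  nat_lit 0x277028402060614040208028a020c0604005030011,
  nat_lit 0x1fe18100e8320c810128220883a288181e8162484a0c807030012,nat_lit 0x2e02040001,nat_lit 0x2c02040001,
  nat_lit 0x2c1ca10120e0300c01212020080382801a1e018240480c007030013]

theorem hL2 : linOK D2 18 ([T2_0].flatMap fun c => c.map fun s => s.2) L2 = true := by
  decide +kernel

def xw2 : List (List ℕ) := [[2,8,2,9,6,8,7,3,5,7,2,4,3,0],[2,6,9,7,9,7,2,7,2,4,5,3,1],[6,0,4,9,5,6,8,2,6,3,5,4,2,0],[0,2,5,8,2,6,9,5,9],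
  [2,6,9,7,9,6,2,8,2,4,5,2],[2,7,9,6,8,5,6,5,2,4],[8,5,9,5,7,5,6,3,5,0],[8,5,6,9,5,6,8,2,6,4,1],[4,9,5,7,9,4,8,
  2,6,5,2,4,2,1]]

noncomputable def a2 (i : ℕ) : ℕ → ℕ := actW act (nthL [] xw2 i)

theorem r2_0 : ∀ j < 6, D2.relJ (eqB a2 [40,5,2,13,4,0,1]) j = true :=
  forall_lt_add (a := 0) (b := 6) (fun _ h => absurd h (Nat.not_lt_zero _)) (by decide +kernel)

theorem f2' : D2.relF (eqB a2 [40,5,2,13,4,0,1]) = true := by decide +kernel

theorem o2 : D2.ordOK a2 [[1],[2],[0],[1,3],[2,4],[5]] [28,52,30,0] 364 6 = true := by decide +kernel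

theorem sb2 : SBnd G23P.G 66339 [] :=
  sbnd_of_act (isCanon_PtN 364) (hy.words xw2) base D2 (by decide +kernel) r2_0 f2' G23P.card
    (by decide +kernel) (exists_PtN (by decide +kernel)) o2 (List.forall_mem_cons.2 ⟨hT2_0, List.forall_mem_nil _⟩) hL2 (by decide +kernel)

def D3 : PcData := ⟨2, 6,
  [[],[],[],[],[],[]],
  [[],[[1,5]],[[2,3,3,4,5],[2,4,4,5,5]],[[3,5,5],[3],[3,4,5]],[[4],[4],[4],[4]],[[5],[5],[5],[5],[5]]],
  [(6,[0],[0,1,1,4,5]),(6,[1],[1,1,4,4,5]),(6,[2],[2,2,3]),(6,[3],[3,3,4,5,5]),(6,[4],[4,5,5]),(6,[5],[5,5]),(7,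
  [1],[1,4]),(7,[2],[2,2,3,3,5,5]),(7,[3],[3,4,4,5]),(7,[4],[4,4]),(7,[5],[5,5])]⟩

noncomputable def T3_0 : List ((ℕ × ℕ × List ℕ × List ℕ) × List (ℕ × ℕ)) := decTests
  [nat_lit 0x86020004,nat_lit 0x280a80a72286b4b48f1c0512c8d30505000b,nat_lit 0xc7020004,
  nat_lit 0x5602b4004a036813c16205208050007,nat_lit 0x87020004,nat_lit 0xe60738016005208050004,
  nat_lit 0x60d030004,nat_lit 0xd40d600b207307050004,nat_lit 0x40c030004,nat_lit 0x7a03d4005308050003,
  nat_lit 0x44d030004,nat_lit 0x68034400d008050003,nat_lit 0x68d030004,nat_lit 0x7803c400d108050003,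
  nat_lit 0xd7020004,nat_lit 0xec0ee004b08d05009207050006,nat_lit 0x97020004,nat_lit 0x542b03706030003,
  nat_lit 0x32894030007,nat_lit 0x3e01f2003601b42620b208050006,nat_lit 0x32a020005,
  nat_lit 0xec0ee00e30e80a90ac16d0ae0b11721b30b40705000c,nat_lit 0x60c030004,nat_lit 0xa05815a5304050004,
  nat_lit 0x8cc030004,nat_lit 0x2008406d06040003,nat_lit 0xe7020004,
  nat_lit 0x86043801900cc02703441a605408050008,nat_lit 0x68c030004,nat_lit 0x380e406c06040003,
  nat_lit 0x72766799aa04000b,nat_lit 0x33819e0032029c1600b1059044c13c09f0805000a,nat_lit 0x7287789a040009,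
  nat_lit 0x2a05600d02b0568f112424c2f05f0605000a,nat_lit 0xc980ed030009,nat_lit 0x403019a4e6a55a355e9a04050009,
  nat_lit 0x46020004,nat_lit 0x8e047801860c6044832819a04e02782481260d40805000c,nat_lit 0x20c030004,
  nat_lit 0xc60c7006a08040003,nat_lit 0x47020004,nat_lit 0x4008403186789406050005,nat_lit 0x20d030004,
  nat_lit 0x582e06f05040003,nat_lit 0x19100d030008,nat_lit 0x1700b9001841540ab037814016605a08050009,
  nat_lit 0xb010004,nat_lit 0xc80ca00c10cf05407050005]

theorem hT3_0 : relOK D3 18 74 T3_0 = true := by decide +kernel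

noncomputable def L3 : LinCert := LinCert.dec []
  [nat_lit 0x502880a07020003,nat_lit 0x4c09a008c2c02907040005,nat_lit 0x340d201507030003,
  nat_lit 0x703840508010003,nat_lit 0xb40b5002808040003,nat_lit 0x11230406010003]
  [(nat_lit 0x10420c01708030003, 3, nat_lit 0xc3529956645860c06010009)]
  [nat_lit 0x1502030001,nat_lit 0xb02020001,nat_lit 0x402010001,nat_lit 0x1486aa8e0a03803618341a050100603000c,
  nat_lit 0x9029b89e0781e01204a074200703000a,nat_lit 0xa02020001,
  nat_lit 0x133e18ac10919528181c1cd4d41c0f1c4818181006020014,nat_lit 0x1602030001,nat_lit 0x1402030001,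
  nat_lit 0x188cab8e8a43a026103018040180603000c,nat_lit 0x1e107868484968101018188888181c30101005030012,
  nat_lit 0x42540e050084a65005040007,nat_lit 0x790a2ae504186580303000a,nat_lit 0x3b9a002040003,
  nat_lit 0xcc3824498902d0781b0782102609818030781e010034260380e01907030016,
  nat_lit 0xd870c0a8381e0e0500e070100824120100a0e0301806030013,nat_lit 0xb2c183003040004,
  nat_lit 0xb1841820708080c180403000a,nat_lit 0xf34285003040004,nat_lit 0x2b02040001,
  nat_lit 0x3b26890923f8aa2d8aa1e8240900e0386e1b80e03c240300c01107030015]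

theorem hL3 : linOK D3 18 ([T3_0].flatMap fun c => c.map fun s => s.2) L3 = true := by
  decide +kernel

def xw3 : List (List ℕ) := [[6,4,5],[8,2,8,3,5,4],[3,4,9,3,8,7,9],[8,2,8,5,2,4,3,2],[3,5,0],[1],[7,2,7,3,5,4,2,0],[0,2,4,6,2]]

noncomputable def a3 (i : ℕ) : ℕ → ℕ := actW act (nthL [] xw3 i)

theorem r3_0 : ∀ j < 6, D3.relJ (eqB a3 [40,5,2,13,4,0,1]) j = true :=
  forall_lt_add (a := 0) (b := 6) (fun _ h => absurd h (Nat.not_lt_zero _)) (by decide +kernel)

theorem f3' : D3.relF (eqB a3 [40,5,2,13,4,0,1]) = true := by decide +kernel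

theorem o3 : D3.ordOK a3 [[2],[0],[1],[4],[1,3,3],[5]] [1,4,13,40] 364 11 = true := by decide +kernel

theorem sb3 : SBnd G23P.G 5824 [3] :=
  sbnd_of_act (isCanon_PtN 364) (hy.words xw3) base D3 (by decide +kernel) r3_0 f3' G23P.card
    (by decide +kernel) (exists_PtN (by decide +kernel)) o3 (List.forall_mem_cons.2 ⟨hT3_0, List.forall_mem_nil _⟩) hL3 (by decide +kernel)

def xwc : List (List ℕ) := [[3,6,2,8,9,8,9],[4,2,8,9,8,7]]

theorem sb : SBnd G23P.G 1 [3] :=
  (((sb2.append sb3).append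
    (sbnd_of_cyclic (isCanon_PtN 364) (hy.words xwc) base 0 7 0 (by norm_num) (b := 0) ⟨_, rfl, by decide⟩
      (by decide +kernel) G23P.card (m := 606528) (by decide +kernel))).append
    (sbnd_of_cyclic (isCanon_PtN 364) (hy.words xwc) base 1 13 0 (by norm_num) (b := 0) ⟨_, rfl, by decide⟩
      (by decide +kernel) G23P.card (m := 326592) (by decide +kernel))).of_eq (by decide +kernel) rfl

end Cfsg.Agent.Known.G23T
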