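import Cfsg.Agent.Known.HSTab
import Cfsg.Agent.Known.Out

/-! The outer automorphism group of `HSP.G` (generated certificate, helper25). -/

set_option maxRecDepth 100000
set_option exponentiation.threshold 100000
set_option Elab.async false

namespace Cfsg.Agent.Known.HSO

open Cfsg.Agent.Comp

noncomputable def t8 : ℕ := (nat_lit 0x4b8d7d671121b63160f9d933d9aba18903d806d3d59aa23318a91d5c4d67030728d52e7f3ad9e52c9f34be7070c426810a8e00901062da87a418ad72c16591a9089971ef1694ba8af53772b0c112dcc90a2b2648b434208)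

theorem h8 : TabOf 100 7 t8 (Spor.ev (Spor.PP HSP.nets) [7,4])⁻¹ :=
  tabOf_of_chk (L := 7) HSP.ok _ (by decide +kernel)

noncomputable def t9 : ℕ := (nat_lit 0xad8dc2f8894c4056cd0506d3e4bd370cee2b07d2269a8eab950c2360b2e93dc8ac6d3738b60d76b78f429cb0a94a288083b63c80d041f08c42444dda82ef8ea6b89522731d85945949a96f992a0d20b8032f1fb48e28208)

theorem h9 : TabOf 100 7 t9 (Spor.ev (Spor.PP HSP.nets) [7,7,7,0,2,3])⁻¹ :=
  tabOf_of_chk (L := 7) HSP.ok _ (by decide +kernel)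

noncomputable def tabs : List ℕ := [HST.t0, HST.t1, HST.t2, HST.t3, HST.t4, HST.t5, HST.t6, HST.t7, t8, t9]

def wds : List (List ℕ) := [[0],[1],[2],[3],[4],[5],[6],[7],[7,4],[7,7,7,0,2,3]]

noncomputable def y (i : ℕ) : HSP.G := (Spor.ev HSP.g (nthL [0] wds i))⁻¹

noncomputable def act (i : ℕ) : ℕ → ℕ := get2 7 (nthL HST.t0 tabs i)

theorem mdl : Mdl HSP.φ 100 8 44352000 y act [4,3,2,1,0] :=
  mdl_of_tabs HSP.rep (actBy_tabs HSP.rep (.cons HST.h0 (.cons HST.h0 (.cons HST.h1 (.cons HST.h2 (.cons HST.h3 (.cons HST.h4 (.cons HST.h5 (.cons HST.h6 (.cons HST.h7 (.cons h8 (.cons h9 (.nil)))))))))))) (by decide +kernel))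
    HST.base (by decide) HSP.card (by decide)

def cw : List ℕ := [2,3,5,3,2,7,3,1,6]

def vw : List ℕ := [1,4,2,4,1,6,7,0,4,6,7]

def hw : List ℕ := [3,2,1,2,4,2,4,7,5,1,4]

def v0w : List ℕ := [7,6,5,1,7,6,0,5,2,5,0]

def rels : List (List ℕ) := [[2,1,1,1,0,2,1,1,1,0,2,1,1,1,0,2,1,1,1,0,2,1,1,1,0],[2,2,0,2,2,0,2,2,0,2,2,0,2,2,0]]

noncomputable def pa0 : ℕ := (nat_lit 0x9d6128d000000000000000000001c97a880199a56204159c00000000000000000000000000000000000000000000000000000000000000000000000000000)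

noncomputable def ea0 : ℕ := (nat_lit 0x311978bc60e006f93841960cd022810c57e14a2a6030897c4461e20d2438e24116005200)

def wa0 : List (List ℕ) := [[4],[6,7,6],[2],[1],[0],[3],[3,2],[2,0],[4,0,3],[6,1,7],[6,7,6,3],[5,6,1,7,0],[6,3,7,3,6]]

noncomputable def La0 (e : ℕ) : Lv := ⟨72, 22, wa0, (get2 5 pa0), (get2 13 ea0), 2, e⟩

theorem ka0_0 : ∀ x < 22, (La0 0).chk act 100 x = true :=
  forall_lt_add (a := 0) (b := 22) (fun _ h => absurd h (Nat.not_lt_zero _)) (by decide +kernel)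

theorem oka0 (e : ℕ) : LvOk act 100 [1] (La0 e) :=
  show LvOk act 100 [1] (La0 0) from ⟨by decide +kernel, ka0_0⟩

noncomputable def pa1 : ℕ := (nat_lit 0x13a00000480002c008c0000000000000000000000003c0002920400000000000000601c20002021c000000000000000000000d300001800028000)

noncomputable def ea1 : ℕ := (nat_lit 0x16ccb875636799380744a51c60c9c0a40b621a96cca3c30b1c18a7c30e22409080380)

def wa1 : List (List ℕ) := [[4],[6,3,7,3,6],[5],[4,4],[5,5],[2,5,1],[0,2,1],[0,4,2],[3,4,4,1],[3,2,5,2],[2,4,3,0],[3,2,4,3],[0,6,7,6,1],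
  [1,4,7,0,6],[0,6,7,6,1,5]]

noncomputable def La1 (e : ℕ) : Lv := ⟨14, 21, wa1, (get2 5 pa1), (get2 13 ea1), 4, e⟩

theorem ka1_0 : ∀ x < 21, (La1 0).chk act 100 x = true :=
  forall_lt_add (a := 0) (b := 21) (fun _ h => absurd h (Nat.not_lt_zero _)) (by decide +kernel)

theorem oka1 (e : ℕ) : LvOk act 100 [72,1] (La1 e) :=
  show LvOk act 100 [72,1] (La1 0) from ⟨by decide +kernel, ka1_0⟩

noncomputable def pa2 : ℕ := (nat_lit 0xfa0ed00000000000000008070605cb432901000000000000000000000000000000000000000000000000000000000000000)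

noncomputable def ea2 : ℕ := (nat_lit 0xc44df26f031808a2e12209334796349063851048604215f87280)

def wa2 : List (List ℕ) := [[3,5,5,2,5],[0,6,7,6,1],[4,2,4,4,3],[4,2,3,0,3],[1,4,2,3,1],[0,3,2,5,0],[5,3,5,3,0],[3,1,3,2,5],[1,4,7,0,6,
  5],[4,6,1,7,5,0]]

noncomputable def La2 (e : ℕ) : Lv := ⟨74, 16, wa2, (get2 4 pa2), (get2 13 ea2), 5, e⟩

theorem ka2_0 : ∀ x < 16, (La2 0).chk act 100 x = true :=
  forall_lt_add (a := 0) (b := 16) (fun _ h => absurd h (Nat.not_lt_zero _)) (by decide +kernel)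

theorem oka2 (e : ℕ) : LvOk act 100 [14,72,1] (La2 e) :=
  show LvOk act 100 [14,72,1] (La2 0) from ⟨by decide +kernel, ka2_0⟩

noncomputable def pa3 : ℕ := (nat_lit 0x4030000000000000000000000000000000000000020060000000000000100000000080705000000000000900)

noncomputable def ea3 : ℕ := (nat_lit 0x1024c1220ab1478d5c0aa1ae10e84c40)

def wa3 : List (List ℕ) := [[4,1,5,7,3,7,1,3,7],[5,3,0,5,3],[7,3,0,7,3,7,4,0,5],[0,4,1,6,1,7,0,0,2],[2,1,1,7,0,6,0,5,1],[0,7,1,3,0,4,2,7,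
  3,0,7],[6,7,6,5,3,0,5,3,6,7,6]]

noncomputable def La3 (e : ℕ) : Lv := ⟨49, 10, wa3, (get2 4 pa3), (get2 13 ea3), 3, e⟩

theorem ka3_0 : ∀ x < 10, (La3 0).chk act 100 x = true :=
  forall_lt_add (a := 0) (b := 10) (fun _ h => absurd h (Nat.not_lt_zero _)) (by decide +kernel)

theorem oka3 (e : ℕ) : LvOk act 100 [74,14,72,1] (La3 e) :=
  show LvOk act 100 [74,14,72,1] (La3 0) from ⟨by decide +kernel, ka3_0⟩

noncomputable def pa4 : ℕ := (nat_lit 0x50e0000000008010000)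

noncomputable def ea4 : ℕ := (nat_lit 0x302543b0450520100)

def wa4 : List (List ℕ) := [[5,3,0,5,3],[4,2,1,6,3,7,3,1,7],[7,0,3,7,3,6,0,2,5],[2,5,7,3,4,0,2,4,2,7],[0,6,7,6,1,1,6,3,7,3,6,0]]

noncomputable def La4 (e : ℕ) : Lv := ⟨4, 6, wa4, (get2 3 pa4), (get2 11 ea4), 1, e⟩

theorem ka4_0 : ∀ x < 6, (La4 0).chk act 100 x = true :=
  forall_lt_add (a := 0) (b := 6) (fun _ h => absurd h (Nat.not_lt_zero _)) (by decide +kernel)

theorem oka4 (e : ℕ) : LvOk act 100 [49,74,14,72,1] (La4 e) :=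
  show LvOk act 100 [49,74,14,72,1] (La4 0) from ⟨by decide +kernel, ka4_0⟩

noncomputable def tra : ℕ := (nat_lit 0x8579017897989088778889901857983086767910497854992750509811989221913560120624252455234160603432679407)

noncomputable def nxa (z : ℕ) : List ℕ := force ((get2 4 tra) z) fun j => [j]

noncomputable def Cc : List Lv := [La0 2, La1 4, La2 5, La3 3, La4 1, .triv 40 6 6]

theorem sc_0 : ∀ x < 100, sieve act 8 6 1 nxa (testZ act [4,3,2,1,0] 8 7) Cc x = true :=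
  forall_lt_add (a := 0) (b := 100) (fun _ h => absurd h (Nat.not_lt_zero _)) (by decide +kernel)

theorem tpc (h : HSP.G) (hh : h * y 8 = y 8 ^ 1 * h) : ∃ acc, h = WW y acc ∧ (testZ act [4,3,2,1,0] 8 7) acc = true :=
  mdl.transp (o := 7) (Ls := Cc) (.cons (oka0 _) (.cons (oka1 _) (.cons (oka2 _) (.cons (oka3 _) (.cons (oka4 _) (.cons (.triv (by decide)) (.nil))))))) (by decide +kernel) sc_0 hh

noncomputable def pb0 : ℕ := (nat_lit 0x1128020000002014000000001c01800d000000020000000000400000002414000000026002000000000000c00000000e67816000000000150024000000)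

noncomputable def eb0 : ℕ := (nat_lit 0x402c03523852b00b0412614d0241a70e22655259169862a51422f8b5c1962390ae81680)

def wb0 : List (List ℕ) := [[3],[5,7,0],[1,7,4],[6,0,6],[4,7,5],[5,6,4],[5,2,7,6],[7,5,3,7],[6,7,6,2],[5,7,0,3],[6,7,2,4],[2,7,1,4],[0,7,
  6,2,7],[5,1,7,0,4],[0,6,7,6,1]]

noncomputable def Lb0 (e : ℕ) : Lv := ⟨90, 22, wb0, (get2 5 pb0), (get2 13 eb0), 3, e⟩

theorem kb0_0 : ∀ x < 22, (Lb0 0).chk act 100 x = true :=
  forall_lt_add (a := 0) (b := 22) (fun _ h => absurd h (Nat.not_lt_zero _)) (by decide +kernel)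

theorem okb0 (e : ℕ) : LvOk act 100 [31] (Lb0 e) :=
  show LvOk act 100 [31] (Lb0 0) from ⟨by decide +kernel, kb0_0⟩

noncomputable def pb1 : ℕ := (nat_lit 0x39b1c000d01d18030b00500010a0da08102f02000000003703602e0359198ed034258733c80000000b2284002b000017595014031000a804e97de000000012a00200440c009d000f980940)

noncomputable def eb1 : ℕ := (nat_lit 0x88d4245f20e1668a3354f242599854029d18b4a5051b28c1e3cf0e6033009ef487612c155872802e01602e04d40c405001e2ad9a489230512e81632990445b0199088632af1364bb075235b9e34cc235b22b0f4c2a22cf0e709500)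

def wb1 : List (List ℕ) := [[6,2,6],[6,5,3,7,5,1],[1,4,3,1],[0,3,5,0],[3,6,3,6],[4,3,2,4],[6,3,6,3],[3,0,2,1],[5,2,3,5],[5,0,3,5,6],[0,4,
  7,5,1],[6,1,4,4,0],[7,0,6,1,7],[6,4,1,2,5],[6,4,3,1,4],[6,5,7,4,6],[1,7,2,7,0,6],[0,2,3,5,7,4],[5,7,4,3,2,1],
  [6,1,7,2,7,0],[7,5,2,0,7,3],[7,6,4,2,5,7],[0,7,2,6,0,7],[4,3,1,7,4,6],[4,2,6,7,6,5],[5,7,4,0,3,0],[1,2,7,1,4,
  7]]

noncomputable def Lb1 (e : ℕ) : Lv := ⟨84, 56, wb1, (get2 6 pb1), (get2 13 eb1), 1, e⟩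

theorem kb1_0 : ∀ x < 56, (Lb1 0).chk act 100 x = true :=
  forall_lt_add (a := 0) (b := 56) (fun _ h => absurd h (Nat.not_lt_zero _)) (by decide +kernel)

theorem okb1 (e : ℕ) : LvOk act 100 [90,31] (Lb1 e) :=
  show LvOk act 100 [90,31] (Lb1 0) from ⟨by decide +kernel, kb1_0⟩

noncomputable def pb2 : ℕ := (nat_lit 0x700000900000000400006000000000300000002000000000001000000050000000080000000)

noncomputable def eb2 : ℕ := (nat_lit 0x22061c1940b60480aec25822400c06cc0)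

def wb2 : List (List ℕ) := [[3,6,1,6,3],[6,2,6],[3,6,0,6,3],[0,6,3,5,2],[4,1,6,0,5],[2,0,6,3,5,6]]

noncomputable def Lb2 (e : ℕ) : Lv := ⟨51, 10, wb2, (get2 4 pb2), (get2 13 eb2), 4, e⟩

theorem kb2_0 : ∀ x < 10, (Lb2 0).chk act 100 x = true :=
  forall_lt_add (a := 0) (b := 10) (fun _ h => absurd h (Nat.not_lt_zero _)) (by decide +kernel)

theorem okb2 (e : ℕ) : LvOk act 100 [84,90,31] (Lb2 e) :=
  show LvOk act 100 [84,90,31] (Lb2 0) from ⟨by decide +kernel, kb2_0⟩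

noncomputable def pb3 : ℕ := (nat_lit 0x280758000000006bc000440000000000000000500010000020000c00000001c00800000000000040180018000000000000000120000000000040000)

noncomputable def eb3 : ℕ := (nat_lit 0x271af0ca442d2e982d07b675e206940c9b809e0a00c805362380d580f40)

def wb3 : List (List ℕ) := [[6,2,6],[4,7,5,3,4,1,5,7,5,6],[6,4,7,4,0,5,3,4,7,5],[5,1,6,0,4,6],[6,2,5,1,6,0,4],[6,5,3,6,3,4,6],[5,1,6,0,4,
  2,6],[0,2,1,3,5,7,5,5,3,6],[5,2,0,6,0,4,0,4,7,5,1],[4,7,5,6,0,6,1,7,2,7,6],[3,1,7,0,4,7,5,1,7,0,3],[7,0,7,6,0,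
  2,1,3,5,7,2],[3,6,1,3,7,2,5,2,5,2,7,2],[6,1,6,7,6,4,6,3,5,7,5,0],[5,2,3,4,6,5,1,3,7,5,6,1,2]]

noncomputable def Lb3 (e : ℕ) : Lv := ⟨61, 18, wb3, (get2 5 pb3), (get2 13 eb3), 2, e⟩

theorem kb3_0 : ∀ x < 18, (Lb3 0).chk act 100 x = true :=
  forall_lt_add (a := 0) (b := 18) (fun _ h => absurd h (Nat.not_lt_zero _)) (by decide +kernel)

theorem okb3 (e : ℕ) : LvOk act 100 [51,84,90,31] (Lb3 e) :=
  show LvOk act 100 [51,84,90,31] (Lb3 0) from ⟨by decide +kernel, kb3_0⟩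

noncomputable def pb4 : ℕ := (nat_lit 0x8)

noncomputable def eb4 : ℕ := (nat_lit 0x181380)

def wb4 : List (List ℕ) := [[0,6,4,6,5,7,4,6,5,6,1]]

noncomputable def Lb4 (e : ℕ) : Lv := ⟨78, 2, wb4, (get2 1 pb4), (get2 13 eb4), 5, e⟩

theorem kb4_0 : ∀ x < 2, (Lb4 0).chk act 100 x = true :=
  forall_lt_add (a := 0) (b := 2) (fun _ h => absurd h (Nat.not_lt_zero _)) (by decide +kernel)

theorem okb4 (e : ℕ) : LvOk act 100 [61,51,84,90,31] (Lb4 e) :=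
  show LvOk act 100 [61,51,84,90,31] (Lb4 0) from ⟨by decide +kernel, kb4_0⟩

noncomputable def trb : ℕ := (nat_lit 0x9769065404801010767219977979986398938851085957409203338515239924375001122213412509040553962441206667)

noncomputable def nxb (z : ℕ) : List ℕ := force ((get2 4 trb) z) fun j => [j]

noncomputable def Ct : List Lv := [Lb0 3, Lb1 5, Lb2 2, Lb3 4, Lb4 1]

theorem st_0 : ∀ x < 100, sieve act 9 5 31 nxb (testO act [4,3,2,1,0] cw vw v0w 9 1 0 [1] rels) Ct x = true :=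
  forall_lt_add (a := 0) (b := 100) (fun _ h => absurd h (Nat.not_lt_zero _)) (by decide +kernel)

theorem tpt (h : HSP.G) (hh : h * y 9 = y 9 ^ 5 * h) : ∃ acc, h = WW y acc ∧ (testO act [4,3,2,1,0] cw vw v0w 9 1 0 [1] rels) acc = true :=
  mdl.transp (o := 6) (Ls := Ct) (.cons (okb0 _) (.cons (okb1 _) (.cons (okb2 _) (.cons (okb3 _) (.cons (okb4 _) (.nil)))))) (by decide +kernel) st_0 hh

theorem rel : relOk act 100 [4,3,2,1,0] cw vw hw 8 9 7 2 5 0 rels = true := by decide +kernel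

theorem top : Subgroup.closure {W y cw, y 9, W y vw} = ⊤ :=
  mdl.top_of (us := [[2,3,5,3,2,7,3,1,6],[9],[1,4,2,4,1,6,7,0,4,6,7],[6,0,3,7,2,3,4,3,2],[3,2,1,7],[7,6,5,1,7,6,0,5,2,5,0]])
    (defs := [[5,0,5,5,5,0,5,3,2,3,3,1,3,2],[5,0,4,0,0,5,0,2,3,2,2,2,3,2],[4,2,0,2,2,3,3,5,5,3,5,3,3,2,3,5,0,4,0,0,5,0,2,3,
  2,2,2,3,2],[0,5,5,3,2,2,2,0,5,1,3,2,4,3,5,1,1,5,0,4,0,0,5,0,2,3,2,2,2,3,2],[3,5,0,5,5,5,0,5,3,3,3,5,0,2,0,0,1,
  5,3,5,0,4,0,0,5,0,2,3,2,2,2,3,2],[5,0,5,5,5,0,5,3,2,3,3,1,3,2,0,2,4,3,3,5,3,2,0,0,0,2,3,2,2,2,3,2,0],[0,0,0,2,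
  0,2,2,0,0,0,5,5,5,0,5,5,5,0,5,3,3,3,5,0,2,0,0,1,5,3,5,0,5,5,5,0,5,3,2,3,3,1,3,2],[1,5,3,3,3,5,0,2,0,0,1,5,3,5,
  0,5,5,5,0,5,3,2,3,3,1,3,2]])
    (by decide +kernel) (by decide +kernel) ⟨rfl, rfl, rfl⟩

theorem data : OutData (W y cw) (y 9) (W y vw) (W y v0w) 1 :=
  mdl.outData (by norm_num) rel (by decide +kernel) top (mdl.cent tpc) tpt

theorem top0 : Subgroup.closure {W y cw, y 9, W y v0w} = ⊤ :=
  mdl.top_of (us := [[2,3,5,3,2,7,3,1,6],[9],[7,6,5,1,7,6,0,5,2,5,0],[6,0,3,7,2,3,4,3,2],[3,2,1,7],[1,4,2,4,1,6,7,0,4,6,7]])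
    (defs := [[2,0,5,5,5,0,2,3,5,3,3,1,3,5],[2,0,4,0,0,2,0,5,3,2,2,2,3,5],[4,5,0,5,5,3,3,2,2,3,2,3,3,5,3,2,0,4,0,0,2,0,5,3,
  2,2,2,3,5],[0,2,2,3,5,5,5,0,2,1,3,1,5,3,2,1,1,2,0,4,0,0,2,0,5,3,2,2,2,3,5],[0,2,4,4,0,0,2,4,0,5,3,2,3,2,2,0,1,
  5,3,1,0,2,0,2,0,5,5,3,5],[2,0,2,2,3,5,3,5,3,4,0,2,4,3,5,5,0,5,0,2,3,1,5,3,3,1,1,5,3],[1,0,4,5,0,5,5,0,0,0,2,2,
  2,0,5,5,5,0,2,3,3,3,2,0,5,0,0,1,2,3,2,0,5,5,5,0,2,3,5,3,3,1,3,5],[1,2,3,3,3,2,0,5,0,0,1,2,3,2,0,5,5,5,0,2,3,5,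
  3,3,1,3,5]])
    (by decide +kernel) (by decide +kernel) ⟨rfl, rfl, rfl⟩

def sw : List (List ℕ) := [[2,4,6,7,6,5,2,0,6,0,3,1,4,2,1,2],[2,0,2,5,0,3,1,6,1,2,4,6,7,6,5,2],[4,3,4,7,0,6,1,2,5,0,5,2,3,1,2,1],[3,6,5,
  1,7,6,2,0,3,6,3,4,2,0,2,1,2,0],[3,2,1,5,3,4,6,0,6,1,7,5,3,4],[5,3,4,7,0,6,1,6,5,3,4,0,2,3],[5,1,7,0,6,2,0,4,0,
  2,1,2,3,1],[7]]

theorem sr_0 : ∀ x < 31, allL [4,3,2,1,0] (fun b => Nat.beq (actW (fun i => actW act (nthL [] sw i)) (nthL [] HSP.rels x) b) b) = true :=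
  forall_lt_add (a := 0) (b := 31) (fun _ h => absurd h (Nat.not_lt_zero _)) (by decide +kernel)

theorem aut : ∃ σ : MulAut HSP.G, σ (W y cw) = W y cw ^ 1 ∧ σ (y 9) = y 9 ∧ σ (W y vw) = W y v0w :=
  mdl.exists_aut (HSP.lifts) (fun _ => rfl) sw sr_0 (mdl.rel_spec (by norm_num) rel).2.1 (by decide) top0
    (by decide +kernel)

theorem out : Nat.card (Cfsg.Out HSP.G) = 2 := data.two aut <|
  noninner_one (by norm_num) (by decide) (mdl.rel_spec (by norm_num) rel).2.1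
    (mdl.rel_spec (by norm_num) rel).2.2.1 (cent_conj (mdl.rel_spec (by norm_num) rel).2.2.2.1 (mdl.cent tpc))
    (mdl.ne (b := 0) (by decide +kernel))

end Cfsg.Agent.Known.HSO
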