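import Cfsg.Agent.Known.Bridge
import Cfsg.Agent.Known.P.HS

/-! Pointwise tables and a base for `HSP.G` in degree 100 (generated certificate, helper25): letters `y`,
action `act`, `hy`, `base`, `mdl`. -/

set_option maxRecDepth 100000
set_option exponentiation.threshold 100000

namespace Cfsg.Agent.Known.HST

open Cfsg.Agent.Comp

noncomputable def t0 : ℕ := (nat_lit 0xc78b0dec17eedab96ebd9b13ab51a14e7d2a9566ca992e3c991020c28afe1be8919e3b7add9b56ce993968e162d56bd5295cc18a44c7119e3084c9f2ca0da734751252e8060b201490e0e4c2091034a940c3c88a0608080)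

theorem h0 : TabOf 100 7 t0 (Spor.ev (Spor.PP HSP.nets) [0])⁻¹ :=
  tabOf_of_chk (L := 7) HSP.ok _ (by decide +kernel)

noncomputable def t1 : ℕ := (nat_lit 0xc78b0dfbd82edbb572c57b35674fa542a53a35a6cb953244792fa1bf83122c68501dbd78d9a3274ddc3372d54aa5cad8315eb561e389cc284a651164090d263a6d0a32e7c4881c442930c40515281060b1e1c90d0608080)

theorem h1 : TabOf 100 7 t1 (Spor.ev (Spor.PP HSP.nets) [1])⁻¹ :=
  tabOf_of_chk (L := 7) HSP.ok _ (by decide +kernel)

noncomputable def t2 : ℕ := (nat_lit 0xc58f061bf7ae5db76a757b156b549f4a851a7666cb9929fc08f0e2c18cfa248930993c66e9b3770e5a3576f46135e9430546483951c25710560c5203444e8f2c7c698086d41460a8f24389ccb1108530b52b56174408080)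

theorem h2 : TabOf 100 7 t2 (Spor.ev (Spor.PP HSP.nets) [2])⁻¹ :=
  tabOf_of_chk (L := 7) HSP.ok _ (by decide +kernel)

noncomputable def t3 : ℕ := (nat_lit 0xc78b0e0bf7ad5bb97694fab42bcea3669d6b1525ca9b322417cfe14981164438d1db3a76f1cb36ef5a3570c92294058ca256798212e712b134b142f3ea8c26368d69d4eb89942a0c28d1c3c806161c20814308892408080)

theorem h3 : TabOf 100 7 t3 (Spor.ev (Spor.PP HSP.nets) [3])⁻¹ :=
  tabOf_of_chk (L := 7) HSP.ok _ (by decide +kernel)

noncomputable def t4 : ℕ := (nat_lit 0xbf8f0e2bd82aceb7628d4b33ed5da15a9d7b949f439afe3488b2a0c09726247853152e50d8c32527939c4ad0a892c8850260207840615a87365073d422d3113ae499724b1d865669c205a917ba18dcc903ef11b16634080)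

theorem h4 : TabOf 100 7 t4 (Spor.ev (Spor.PP HSP.nets) [4])⁻¹ :=
  tabOf_of_chk (L := 7) HSP.ok _ (by decide +kernel)

noncomputable def t5 : ℕ := (nat_lit 0xc5830dec77ea4fb756bdaa14aed8a33acd3ad725be871a14881263c198fe2c495350062a30d1114e92b206e022b1af079626f5bbb6a7598e0ab8f900ed8db446484b930bd8a2325ce08528410b3cb582a48513284eb0080)

theorem h5 : TabOf 100 7 t5 (Spor.ev (Spor.PP HSP.nets) [5])⁻¹ :=
  tabOf_of_chk (L := 7) HSP.ok _ (by decide +kernel)

noncomputable def t6 : ℕ := (nat_lit 0xbf5675bc762ed7c16acdeb95b154a1469539f8669c64a53b4549571886a1b1e7ef93080a55c912705848292c9351d145ac131e54292f63071e6d0830500ecc44282442e59d336ec5c1046bc08c5a695bc4819d99407c680)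

theorem h6 : TabOf 100 7 t6 (Spor.ev (Spor.PP HSP.nets) [6])⁻¹ :=
  tabOf_of_chk (L := 7) HSP.ok _ (by decide +kernel)

noncomputable def t7 : ℕ := (nat_lit 0xc7597c44ae15c030ce4d87b8a19d406cfd09eda6a34c92cb1611a2e0aae5d5c509ebac5b0615e6f39a9cb47a447c2b9dbcbaa94bf7d2efca9868b53a2caa34a488cdb2e84706263c89024546890a086000e505810628208)

theorem h7 : TabOf 100 7 t7 (Spor.ev (Spor.PP HSP.nets) [7])⁻¹ :=
  tabOf_of_chk (L := 7) HSP.ok _ (by decide +kernel)

noncomputable def tabs : List ℕ := [t0, t1, t2, t3, t4, t5, t6, t7]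

def wds : List (List ℕ) := [[0],[1],[2],[3],[4],[5],[6],[7]]

noncomputable scoped instance inst : MulAction HSP.G ℕ := actOf HSP.φ

scoped instance fin : Finite HSP.G := Nat.finite_of_card_ne_zero (by rw [HSP.card]; decide)

noncomputable def y (i : ℕ) : HSP.G := (Spor.ev HSP.g (nthL [0] wds i))⁻¹

noncomputable def act (i : ℕ) : ℕ → ℕ := get2 7 (nthL t0 tabs i)

theorem hy : ActBy y (PtN 100) act :=
  actBy_tabs HSP.rep (.cons h0 (.cons h0 (.cons h1 (.cons h2 (.cons h3 (.cons h4 (.cons h5 (.cons h6 (.cons h7 (.nil)))))))))) (by decide +kernel)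

theorem f0 : FixLe HSP.G (PtN 100) [0] 100 :=
  FixLe.nil.stepW (isCanon_PtN _) hy 0 100 [[0,7],[5]] 100 ⟨_, rfl, by decide⟩ (by decide +kernel)

theorem f1 : FixLe HSP.G (PtN 100) [1,0] 7700 :=
  f0.stepW (isCanon_PtN _) hy 1 77 [[6],[5,3,6]] 100 ⟨_, rfl, by decide⟩ (by decide +kernel)

theorem f2 : FixLe HSP.G (PtN 100) [2,1,0] 462000 :=
  f1.stepW (isCanon_PtN _) hy 2 60 [[5],[0,2]] 100 ⟨_, rfl, by decide⟩ (by decide +kernel)

theorem f3 : FixLe HSP.G (PtN 100) [3,2,1,0] 14784000 :=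
  f2.stepW (isCanon_PtN _) hy 3 32 [[1],[3,2]] 100 ⟨_, rfl, by decide⟩ (by decide +kernel)

theorem f4 : FixLe HSP.G (PtN 100) [4,3,2,1,0] 44352000 :=
  f3.stepW (isCanon_PtN _) hy 4 3 [[1]] 100 ⟨_, rfl, by decide⟩ (by decide +kernel)

theorem base : IsBase HSP.G (PtN 100) [4,3,2,1,0] := f4.isBase HSP.card le_rfl

theorem mdl : Mdl HSP.φ 100 8 44352000 y act [4,3,2,1,0] :=
  mdl_of_tabs HSP.rep hy base (by decide) HSP.card (by decide)

end Cfsg.Agent.Known.HST
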