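import Cfsg.Agent.Known.PTail
import Cfsg.Agent.Known.HnKUp
import Cfsg.Agent.Spor.HnG

/-! The Schur multiplier of the Harada-Norton group (generated certificate, helper25). -/

set_option maxRecDepth 100000
set_option Elab.async false

namespace Cfsg.Agent.Known.HnMul

open Cfsg.Agent.Comp
open Cfsg.Agent.Spor hiding allL

def tr : List ℕ := [0, 1, 2, 3, 4, 6, 7]

noncomputable def g0 (i : ℕ) : Cfsg.Spor.HN := HnG.g ([0, 2, 4, 5].getD i 0)

theorem htr : ∀ j < 7, HnG.g j = lv g0 (tr.getD j 0) := tr_of_inv HnG.hi (by decide +kernel)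

theorem hι : ∀ i < 5, HnG.ι (HnK.g i) = ev (lv g0) ((trL tr HnG.jl).getD i []) :=
  hom_tr htr HnG.exι.choose_spec (by decide +kernel)

def rs : List (ℕ × List ℕ) := [(0, [0, 1]), (0, [1, 0]), (0, [2, 3]), (0, [3, 2]), (5, [4, 4]), (8, [2, 2, 2, 2, 2, 2]), (9, [0, 0, 2, 0, 0,
   3]), (10, [1, 3, 0, 2, 1, 3, 0, 2, 1, 3, 0, 2]), (11, [1, 2, 2, 0, 2, 2, 2, 1, 2, 2, 0, 2, 2, 2, 1, 2, 2, 0,
   2, 2, 2]), (12, [0, 2, 0, 2, 0, 2, 0, 2, 0, 2, 0, 2, 0, 2, 0, 2]), (13, [0, 2, 0, 2, 2, 2, 0, 2, 0, 2, 2, 2,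
   0, 2, 0, 2, 2, 2, 0, 2, 0, 2, 2, 2]), (14, [4, 0, 4, 0]), (15, [4, 2, 1, 3, 3, 1, 3, 1, 3, 4, 2, 0, 2, 0, 2,
   2, 0, 3, 1, 1]), (16, [4, 3, 1, 3, 1, 3, 3, 3, 4, 2, 2, 2, 0, 2, 0, 2, 0, 3, 1, 3, 1, 3, 3, 3, 4, 2, 2, 2, 0,
   2, 0, 2, 0, 3, 1, 3, 1, 3, 3, 3, 4, 2, 2, 2, 0, 2, 0, 2, 0]), (21, [0, 0, 4, 1, 1, 4])]

theorem hrs : ∀ r ∈ rs.map Prod.snd, ev HnK.g r = 1 :=
  HnK.rep.ev_eq_one HnK.inj (by decide +kernel) (ev_eq_one_of_chkId (L := 11) HnK.ok (by decide) (by decide +kernel))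

def aux : List (List ℕ) := [[0, 0, 4, 1, 1, 4]]

def bs : List (List ℕ) := [] :: trL tr HnG.rels ++ aux.map (renW (trL tr HnG.jl))

theorem hbs : ∀ r ∈ bs, ev (lv g0) r = 1 :=
  List.forall_mem_append.2 ⟨List.forall_mem_cons.2 ⟨rfl, rels_tr htr (by decide +kernel) HnG.hg⟩,
    rels_sub hι (by decide +kernel) (rels_of_sub hrs (by decide +kernel))⟩

def ids : List (List (List ℕ × ℕ × Bool)) := [[([], 0, true)], [([], 1, true)], [([], 2, true)], [([], 3, true)], [([], 4, true)], [([], 6, true)], [([],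
   7, true)], [([2], 17, false), ([7], 19, true), ([7, 7], 19, true), ([7, 7, 7], 19, true), ([7, 7, 7, 7], 19,
   true), ([7, 7, 7, 7, 7], 19, true), ([], 17, true)], [([6], 8, false), ([3], 19, false), ([3, 3], 19, false),
   ([3, 3, 3], 19, false), ([3, 3, 3, 3], 19, false), ([3, 3, 3, 3, 3], 19, false), ([3, 3, 3, 3, 3, 3], 19,
   false), ([], 8, true)], [([0], 17, false), ([], 18, true), ([6, 6], 18, true), ([6, 6, 6, 6], 18, true), ([6,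
   6, 6, 6, 6, 6], 18, true), ([6, 6, 6, 6, 6, 6, 6, 6], 18, true), ([], 17, false), ([], 17, false)], [([0, 0],
   20, false), ([0, 0, 4], 21, true), ([0, 4], 18, true), ([7, 7, 4], 18, false), ([7, 7, 7, 7, 4], 18, false),
   ([4], 17, true), ([0, 0, 4, 6, 4], 21, true), ([0, 4, 6, 4], 18, true), ([7, 7, 4, 6, 4], 18, false), ([7, 7,
   7, 7, 4, 6, 4], 18, false), ([4, 6, 4], 17, true), ([0, 0, 4, 6, 4, 6, 4], 21, true), ([0, 4, 6, 4, 6, 4],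
   18, true), ([7, 7, 4, 6, 4, 6, 4], 18, false), ([7, 7, 7, 7, 4, 6, 4, 6, 4], 18, false), ([4, 6, 4, 6, 4],
   17, true), ([7], 20, false)]]

def vs : List (List (ℕ × ℤ)) := [[(0, -1), (1, 1)], [(2, -1), (4, 2), (6, 1), (11, -2)], [(1, -1), (2, -1), (3, -2), (4, 1), (7, 1), (14,
   -1)], [(2, 1), (3, 1), (6, -2), (9, 2), (10, -1)], [(2, 1), (4, -1), (5, 4), (6, 1), (7, 1), (9, 1), (10,
   -2), (11, 1), (12, -1), (14, 1)], [(1, 1), (3, -1), (4, -1), (5, 1), (6, -2), (7, 1), (8, -2), (9, -1), (10,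
   2), (14, 1)], [(2, -1), (3, 1)], [(2, -1), (3, -1), (4, -1), (7, -1), (11, 1), (12, 1), (14, -1)], [(0, -2),
   (1, -2), (2, 2), (3, 1), (4, 1), (5, 1), (6, 1), (7, 2), (8, -2), (9, -1), (10, 2), (11, 1), (12, 4), (13,
   -2), (14, -2)], [(0, -1), (1, -1), (4, -1), (14, 1)]]

instance fin : Finite Cfsg.Spor.HN := Nat.finite_of_card_ne_zero (by rw [HnG.main.2.2.2.2.1]; decide)

theorem sb : SBnd Cfsg.Spor.HN 1 [] :=
  sbnd_of_tails (lifts_of_ltOk HnG.lt (rels := HnG.rels) (by decide +kernel)) HnG.lt.genL_top htr hbs (n := 4) (k := 1)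
    (m := 177408000 * 1539000) (SBnd.of_card (HnG.main.2.2.2.2.1.trans (one_mul _).symm)) (by decide +kernel)
    (cs := [[(5, 1), (14, 1), (16, -1)], [(5, 4), (8, 1), (11, -1), (12, 1), (14, -4)], [(5, 1), (17, -3), (18, 6), (20,
   -1)], [(17, 1), (18, -2)]]) (Ls := idL ids ++ subL rs vs)
    (fs := [(1, [(1, -1)]), (2, [(2, -1)]), (3, [(3, -1)]), (4, [(4, -1)]), (5, [(0, 6), (9, -3), (10, -1), (20, 3)]),
   (6, [(5, -1)]), (7, [(6, -1)]), (8, [(0, 18), (12, -13), (13, 3), (14, -4), (15, -1), (16, -3), (18, -1),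
   (20, 6)]), (9, [(0, 83), (12, 5), (13, 10), (16, 2), (18, 8), (19, -2), (20, 12)]), (10, [(0, -6), (13, -1),
   (20, -1)]), (11, [(0, 42), (12, -32), (13, 7), (14, -10), (15, -2), (16, -7), (18, -2), (20, 14)]), (12, [(0,
   192), (12, -7), (13, 24), (14, -6), (15, -1), (18, 15), (19, -4), (20, 32)]), (13, [(0, 216), (12, -24), (13,
   28), (14, -11), (15, -2), (16, -4), (18, 14), (19, -4), (20, 40)]), (14, [(0, 48), (9, -3), (10, -1), (12,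
   3), (13, 5), (16, 1), (18, 4), (19, -1), (20, 9)]), (15, [(0, -46), (9, -3), (10, -1), (12, -3), (13, -6),
   (16, -1), (18, -5), (19, 1), (20, -5)]), (16, [(0, 54), (9, -6), (10, -2), (12, 3), (13, 5), (16, 1), (18,
   4), (19, -1), (20, 12)]), (17, [(9, 2)]), (18, [(9, 1)]), (19, [(7, 1), (8, 1)]), (20, [(0, 6), (9, -3), (10,
   -1), (20, 3)])]) (by decide +kernel)
    fun _ _ _ _ _ T => List.forall_mem_append.2 ⟨T.idents ids (by decide +kernel),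
      T.subs hι HnKT.sb (Nat.coprime_one_left _) hrs vs (by decide +kernel)⟩

end Cfsg.Agent.Known.HnMul
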