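import Cfsg.Agent.Known.J1Tab
import Cfsg.Agent.Known.Pack

/-! Upper bound for the Schur multiplier of `Spor.MdJ1.G` (generated certificate, helper25): `sb`. -/

set_option maxRecDepth 100000

namespace Cfsg.Agent.Known.J1T

open Cfsg.Agent.Comp

def D2 : PcData := ⟨1, 3,
  [[],[],[]],
  [[],[[1]],[[2],[2]]],
  [(3,[0],[1,2]),(3,[1],[0,1]),(3,[2],[2]),(4,[0],[2]),(4,[1],[1])]⟩

noncomputable def T2_0 : List ((ℕ × ℕ × List ℕ × List ℕ) × List (ℕ × ℕ)) := decTests
  [nat_lit 0x228dc030007,nat_lit 0xfc1fa00881408030004,nat_lit 0xe82020007,nat_lit 0xb85e0261c06030004,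
  nat_lit 0xe96020007,nat_lit 0x290a500f08020003]

theorem hT2_0 : relOK D2 11 9 T2_0 = true := by decide +kernel

noncomputable def L2 : LinCert := LinCert.dec []
  [nat_lit 0x743a40408010003,nat_lit 0x3a8eb00a08020003,nat_lit 0x11c23c01508030003]
  []
  [nat_lit 0x402010001,nat_lit 0xb8802020003,nat_lit 0x502010001,nat_lit 0x1d02030001,nat_lit 0x39802030002,
  nat_lit 0xa02020001]

theorem hL2 : linOK D2 11 ([T2_0].flatMap fun c => c.map fun s => s.2) L2 = true := by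
  decide +kernel

def xw2 : List (List ℕ) := [[3,0,2,1,1,3,2,3,2,0,0,2,1,2],[2,3,0,2,1,3,2],[0,0,2,1,3,0,2,1,1],[1,2,1,1,2,1,2,1,1,3,0,3,0,2,3,1],[1,1,3,1,
  2,3,1,2,1,1]]

noncomputable def a2 (i : ℕ) : ℕ → ℕ := actW act (nthL [] xw2 i)

theorem r2_0 : ∀ j < 3, D2.relJ (eqB a2 [1,131,0]) j = true :=
  forall_lt_add (a := 0) (b := 3) (fun _ h => absurd h (Nat.not_lt_zero _)) (by decide +kernel)

theorem f2' : D2.relF (eqB a2 [1,131,0]) = true := by decide +kernel

theorem o2 : D2.ordOK a2 [[0],[1],[0,2]] [4,9,0] 266 4 = true := by decide +kernel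

theorem sb2 : SBnd Spor.MdJ1.G 21945 [] :=
  sbnd_of_act (isCanon_PtN 266) (hy.words xw2) base D2 (by decide +kernel) r2_0 f2' Spor.MdJ1.card
    (by decide +kernel) (exists_PtN (by decide +kernel)) o2 (List.forall_mem_cons.2 ⟨hT2_0, List.forall_mem_nil _⟩) hL2 (by decide +kernel)

def xwc : List (List ℕ) := [[0,2,0,0,2,3,2,3,0],[0,2,1,2,1],[1,2,1,1,2,0,2,3,2],[0,3,2,0,0,3,1],[2,0,2,0,3]]

theorem sb : SBnd Spor.MdJ1.G 1 [] :=
  (((((sb2.append
    (sbnd_of_cyclic (isCanon_PtN 266) (hy.words xwc) base 0 3 0 (by norm_num) (b := 0) ⟨_, rfl, by decide⟩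
      (by decide +kernel) Spor.MdJ1.card (m := 58520) (by decide +kernel))).append
    (sbnd_of_cyclic (isCanon_PtN 266) (hy.words xwc) base 1 5 0 (by norm_num) (b := 1) ⟨_, rfl, by decide⟩
      (by decide +kernel) Spor.MdJ1.card (m := 35112) (by decide +kernel))).append
    (sbnd_of_cyclic (isCanon_PtN 266) (hy.words xwc) base 2 7 0 (by norm_num) (b := 0) ⟨_, rfl, by decide⟩
      (by decide +kernel) Spor.MdJ1.card (m := 25080) (by decide +kernel))).append
    (sbnd_of_cyclic (isCanon_PtN 266) (hy.words xwc) base 3 11 0 (by norm_num) (b := 0) ⟨_, rfl, by decide⟩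
      (by decide +kernel) Spor.MdJ1.card (m := 15960) (by decide +kernel))).append
    (sbnd_of_cyclic (isCanon_PtN 266) (hy.words xwc) base 4 19 0 (by norm_num) (b := 0) ⟨_, rfl, by decide⟩
      (by decide +kernel) Spor.MdJ1.card (m := 9240) (by decide +kernel))).of_eq (by decide +kernel) rfl

end Cfsg.Agent.Known.J1T
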