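import Cfsg.Agent.Known.J2Tab
import Cfsg.Agent.Known.Pack

/-! Upper bound for the Schur multiplier of `Spor.MdJ2.G` (generated certificate, helper25): `sb`. -/

set_option maxRecDepth 100000

namespace Cfsg.Agent.Known.J2T

open Cfsg.Agent.Comp

def D2 : PcData := ⟨1, 7,
  [[3,4],[5],[3],[6],[6],[],[]],
  [[],[[1,3,6]],[[2,4],[2,3,5,6]],[[3,5],[3],[3]],[[4,5],[4,5,6],[4,5,6],[4,6]],[[5,6],[5],[5,6],[5],[5]],[[6],
  [6],[6],[6],[6],[6]]],
  [(7,[0],[2,3,5]),(7,[1],[0,2,4]),(7,[2],[0,1]),(7,[3],[4,5,6]),(7,[4],[3,4,5,6]),(7,[5],[5,6]),(7,[6],[6])]⟩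

noncomputable def T2_0 : List ((ℕ × ℕ × List ℕ × List ℕ) × List (ℕ × ℕ)) := decTests
  [nat_lit 0xc8d030004,nat_lit 0x100902c4f47b04050005,nat_lit 0x8cd030004,nat_lit 0x8811804905a06050004,
  nat_lit 0xccd030004,nat_lit 0x380e80b205050003,nat_lit 0xa4c030004,
  nat_lit 0x13809d002ac0e607402b01e40f407b08050009,nat_lit 0x80b030004,
  nat_lit 0x6a035400a603901d00aa0ba08050007,nat_lit 0x20d030004,nat_lit 0x11023008f0e41cc2a85b06050007,
  nat_lit 0xc0d030004,nat_lit 0x80a0af7a7b03050005,nat_lit 0x68d030004,nat_lit 0x27013a004881c80ae05b08050006,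
  nat_lit 0x88b030004,nat_lit 0x9409600a805707050004,nat_lit 0xe6020004,nat_lit 0xe0f02804040003,
  nat_lit 0xe0e030004,nat_lit 0xb80ba00b507050003,nat_lit 0xd0d030004,nat_lit 0x7903cc00b308050003,
  nat_lit 0x97020004,nat_lit 0xc80648010e05208050004,nat_lit 0xa0c030004,nat_lit 0x502c0aa399d0aaba04050007,
  nat_lit 0xa010004,nat_lit 0x3406a008c1282985406050006,nat_lit 0xacc030004,
  nat_lit 0x240122005681600f207b08050006,nat_lit 0x8cb030004,nat_lit 0x280a805805050003,nat_lit 0xd6020004,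
  nat_lit 0x1c0f02908e68349c4e4743b9e174bb0405000d,nat_lit 0x68c030004,
  nat_lit 0x1b40db002300da05102a015c0b405b08050009,nat_lit 0x47020004,nat_lit 0xc0e0864d4f545b03050007,
  nat_lit 0x85020004,nat_lit 0x65032c00a103381a409e0b203b01e00f407b0805000b,nat_lit 0xa8c030004,
  nat_lit 0x80a0ac737457797a7b03050009,nat_lit 0xb0c030004,nat_lit 0x80a05903050003,nat_lit 0xb010004,
  nat_lit 0x4202140081023011c09204b04682480a805502c01641340db0805000f,nat_lit 0x84b030004,
  nat_lit 0xc819805385606050004,nat_lit 0x1d54ae030008,nat_lit 0x1002200cf1a02446a8a205060007,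
  nat_lit 0xead030005,nat_lit 0x1880c6003681b616107060005,nat_lit 0x1d301d030008,
  nat_lit 0x3e80fb0008603300cd0344093035c0d8036c0a10806000b,nat_lit 0xeb6030005,nat_lit 0xc00c4016206060003,
  nat_lit 0x95020004,nat_lit 0x5802c4005008050003,nat_lit 0xea252e030009,
  nat_lit 0x8c0234003180c703280cb02300cf03400d303500d502840a20806000e,nat_lit 0x3a64b030007,
  nat_lit 0x1502b00470d41b0378730e81d43c87b0605000b,nat_lit 0xc6020004,
  nat_lit 0x2404a01461183606e0e61e43d07b0605000a]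

theorem hT2_0 : relOK D2 18 45 T2_0 = true := by decide +kernel

noncomputable def S2_0 : List ℕ :=
  [nat_lit 0x1a034401708030003,nat_lit 0x1993c66094301066343401c0e040483c04838100d0402010080402020080702001a]

noncomputable def L2 : LinCert := LinCert.dec S2_0
  [nat_lit 0x743a40408010003,nat_lit 0x280a100a08020003,nat_lit 0x2288b00b08020003,nat_lit 0xb0b81405030003,
  nat_lit 0x142c1504030003,nat_lit 0x2108601607030003,nat_lit 0x3c0f402b06040003]
  [(nat_lit 0x4f09f00440e01608030005, 2, nat_lit 0x537252060a0c104e58b40e0e0e162a04060406140e06040a0a07010019)]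
  [nat_lit 0x402010001,nat_lit 0xbd902020003,nat_lit 0x502010001,nat_lit 0xa02020001,nat_lit 0xb02020001,
  nat_lit 0x1402030001,nat_lit 0x1502030001,nat_lit 0x2802040001,nat_lit 0x5202050001,
  nat_lit 0xac323014641223208c743662240c470480603000f,nat_lit 0x2aab7c2a03210082a141400c06052380603000e,
  nat_lit 0x1602030001,nat_lit 0xb14541105008430a15452020101c04020240c068301e06030014,
  nat_lit 0x1d082854130500c430a15452020103404040340c044301806030015,
  nat_lit 0x2a06810345e8a61e80e4300c1e8783c00e038220481e02406011060180581807030019,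
  nat_lit 0x1d108131125f26181118180503000b,nat_lit 0xa602060001,
  nat_lit 0x1d10e161321b289a211330183118182605030010,nat_lit 0x2c2c03040002,
  nat_lit 0x161403c050018428050500a4288040080080300c00704000f,
  nat_lit 0x1688950f8540a420105428280180c060302806030010,
  nat_lit 0x108541b0540310802054140a00300c0900c0500604000f,nat_lit 0x885803050002,nat_lit 0x518003050002,
  nat_lit 0x5902050001,nat_lit 0x5f02050001,nat_lit 0x88215a04040003,
  nat_lit 0x128a29279150658a4e100a440200603000c]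

theorem hL2 : linOK D2 18 ([T2_0].flatMap fun c => c.map fun s => s.2) L2 = true := by
  decide +kernel

def xw2 : List (List ℕ) := [[6,5,7,1,1,4,2,6,7],[7,6,4,7,2,6,5,6,5,6,5,0,0,2],[2,7,5,2,7,2,4,6,2,5,1,2],[4,7,3,4,6,5,6,7,4],[1,7,1,7,4,6,
  4,6,1],[5,2,7,2,5,1,3,3],[6,4,2,0,7,2,4,6,3,3],[6,3,1,7,6,4,3,3]]

noncomputable def a2 (i : ℕ) : ℕ → ℕ := actW act (nthL [] xw2 i)

theorem r2_0 : ∀ j < 7, D2.relJ (eqB a2 [1,18,56,99,0]) j = true :=
  forall_lt_add (a := 0) (b := 7) (fun _ h => absurd h (Nat.not_lt_zero _)) (by decide +kernel)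

theorem f2' : D2.relF (eqB a2 [1,18,56,99,0]) = true := by decide +kernel

theorem o2 : D2.ordOK a2 [[0],[2],[1],[3,5],[6]] [8,27,4,6,0] 100 6 = true := by decide +kernel

theorem sb2 : SBnd Spor.MdJ2.G 4725 [2] :=
  sbnd_of_act (isCanon_PtN 100) (hy.words xw2) base D2 (by decide +kernel) r2_0 f2' Spor.MdJ2.card
    (by decide +kernel) (exists_PtN (by decide +kernel)) o2 (List.forall_mem_cons.2 ⟨hT2_0, List.forall_mem_nil _⟩) hL2 (by decide +kernel)

def D3 : PcData := ⟨2, 3,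
  [[],[],[]],
  [[],[[1,2]],[[2],[2]]],
  [(3,[0],[0,0]),(3,[1],[1,1,2]),(3,[2],[2])]⟩

noncomputable def T3_0 : List ((ℕ × ℕ × List ℕ × List ℕ) × List (ℕ × ℕ)) := decTests
  [nat_lit 0xe82020007,nat_lit 0x5e2f80f07020003,nat_lit 0xe96020007,nat_lit 0xc0c81c05030003,nat_lit 0xb010004,
  nat_lit 0x350d60310cc1507030005]

theorem hT3_0 : relOK D3 12 21 T3_0 = true := by decide +kernel

noncomputable def L3 : LinCert := LinCert.dec []
  [nat_lit 0x1f3f0406010003,nat_lit 0x6130c0508010003,nat_lit 0x370dd00a08020003]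
  []
  [nat_lit 0x402010001,nat_lit 0x502010001,nat_lit 0xa02020001,nat_lit 0xf02020001,nat_lit 0x1c02030001,
  nat_lit 0xfd503010003]

theorem hL3 : linOK D3 12 ([T3_0].flatMap fun c => c.map fun s => s.2) L3 = true := by
  decide +kernel

def xw3 : List (List ℕ) := [[3,1,5,6,4,6,4,6,1],[2,2,4,6,4,6,4,3],[6,5,6,0],[5,7,1,1,4,7,6,2,5,1,3]]

noncomputable def a3 (i : ℕ) : ℕ → ℕ := actW act (nthL [] xw3 i)

theorem r3_0 : ∀ j < 3, D3.relJ (eqB a3 [1,18,56,99,0]) j = true :=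
  forall_lt_add (a := 0) (b := 3) (fun _ h => absurd h (Nat.not_lt_zero _)) (by decide +kernel)

theorem f3' : D3.relF (eqB a3 [1,18,56,99,0]) = true := by decide +kernel

theorem o3 : D3.ordOK a3 [[0],[1],[2]] [1,2] 100 11 = true := by decide +kernel

theorem sb3 : SBnd Spor.MdJ2.G 22400 [] :=
  sbnd_of_act (isCanon_PtN 100) (hy.words xw3) base D3 (by decide +kernel) r3_0 f3' Spor.MdJ2.card
    (by decide +kernel) (exists_PtN (by decide +kernel)) o3 (List.forall_mem_cons.2 ⟨hT3_0, List.forall_mem_nil _⟩) hL3 (by decide +kernel)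

def D5 : PcData := ⟨4, 2,
  [[],[]],
  [[],[[1]]],
  [(2,[0],[0,1]),(2,[1],[1,1,1,1])]⟩

noncomputable def T5_0 : List ((ℕ × ℕ × List ℕ × List ℕ) × List (ℕ × ℕ)) := decTests
  [nat_lit 0xb010004,nat_lit 0x763b41508010003,nat_lit 0xa41020007,nat_lit 0x46f03010003]

theorem hT5_0 : relOK D5 11 18 T5_0 = true := by decide +kernel

noncomputable def L5 : LinCert := LinCert.dec []
  [nat_lit 0x34d8405010003,nat_lit 0x7e3f80a07020003]
  []
  [nat_lit 0x402010001,nat_lit 0x1d403020002,nat_lit 0x502010001]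

theorem hL5 : linOK D5 11 ([T5_0].flatMap fun c => c.map fun s => s.2) L5 = true := by
  decide +kernel

def xw5 : List (List ℕ) := [[2,7,4,6,4,6,4,2],[4,6,3,5,0,7,4,6,4,4,1,2],[0,6,2,7,4,0,0,2]]

noncomputable def a5 (i : ℕ) : ℕ → ℕ := actW act (nthL [] xw5 i)

theorem r5_0 : ∀ j < 2, D5.relJ (eqB a5 [1,18,56,99,0]) j = true :=
  forall_lt_add (a := 0) (b := 2) (fun _ h => absurd h (Nat.not_lt_zero _)) (by decide +kernel)

theorem f5' : D5.relF (eqB a5 [1,18,56,99,0]) = true := by decide +kernel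

theorem o5 : D5.ordOK a5 [[0],[1]] [0] 100 27 = true := by decide +kernel

theorem sb5 : SBnd Spor.MdJ2.G 24192 [] :=
  sbnd_of_act (isCanon_PtN 100) (hy.words xw5) base D5 (by decide +kernel) r5_0 f5' Spor.MdJ2.card
    (by decide +kernel) (exists_PtN (by decide +kernel)) o5 (List.forall_mem_cons.2 ⟨hT5_0, List.forall_mem_nil _⟩) hL5 (by decide +kernel)

def xwc : List (List ℕ) := [[1,7,2,4,6,4,4,0]]

theorem sb : SBnd Spor.MdJ2.G 1 [2] :=
  (((sb2.append sb3).append sb5).append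
    (sbnd_of_cyclic (isCanon_PtN 100) (hy.words xwc) base 0 7 0 (by norm_num) (b := 0) ⟨_, rfl, by decide⟩
      (by decide +kernel) Spor.MdJ2.card (m := 86400) (by decide +kernel))).of_eq (by decide +kernel) rfl

end Cfsg.Agent.Known.J2T
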