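import Cfsg.Agent.Spor.EqJ3

/-! `Cfsg.Spor.J3 F w` is isomorphic to the model `Spor.MdJ3.G` for `F` in any universe (helper25, after helper23's
`Spor.EqJ3`): `J3T.equiv`. -/

set_option autoImplicit false

namespace Cfsg.Agent.Known.J3T

open Cfsg.Agent.Spor

section
variable {F : Type*} [Field F] (e : F4 ≃+* F)

theorem gens_map (M : Matrix Cfsg.Spor.F9 Cfsg.Spor.F9 F4) :
    M.map e ∈ Cfsg.Spor.j3Gens F (e F4.ω) ↔ M ∈ Cfsg.Spor.j3Gens F4 F4.ω := by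
  have hA : ∀ Z, Cfsg.Spor.j3A F (e F4.ω) Z = (Cfsg.Spor.j3A F4 F4.ω Z).map e := fun Z => by
    simp [Cfsg.Spor.j3A, Cfsg.Spor.omegaPow, Matrix.diagonal_map]
  have hE : ∀ Z, Cfsg.Spor.j3E F (e F4.ω) Z = (Cfsg.Spor.j3E F4 F4.ω Z).map e := fun Z => by
    simp [Cfsg.Spor.j3E, Cfsg.Spor.omegaPow, Matrix.diagonal_map]
  have hD : ∀ Z, Cfsg.Spor.j3D F (e F4.ω) Z = (Cfsg.Spor.j3D F4 F4.ω Z).map e := fun Z => by
    ext i j; simp [Cfsg.Spor.j3D, Cfsg.Spor.j3Lam, apply_ite e]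
  have hB : ∀ Z, Cfsg.Spor.j3B F Z = (Cfsg.Spor.j3B F4 Z).map e := fun Z => by
    ext i j; simp [Cfsg.Spor.j3B, apply_ite e]
  have hC : ∀ Z, Cfsg.Spor.j3C F Z = (Cfsg.Spor.j3C F4 Z).map e := fun Z => by
    ext i j; simp [Cfsg.Spor.j3C, apply_ite e]
  simp only [Cfsg.Spor.j3Gens, Set.mem_union, Set.mem_range, Set.mem_ofPred_eq, hA, hE, hD, hB, hC,
    (Matrix.map_injective e.injective).eq_iff]

/-- The change of field on `GL`. -/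
def glMap : GL Cfsg.Spor.F9 F4 ≃* GL Cfsg.Spor.F9 F := Units.mapEquiv e.mapMatrix.toMulEquiv

theorem three_map : Cfsg.Spor.threeJ3 F (e F4.ω) = (Cfsg.Spor.threeJ3 F4 F4.ω).map (glMap e).toMonoidHom := by
  rw [Cfsg.Spor.threeJ3, Cfsg.Spor.threeJ3, MonoidHom.map_closure]
  congr 1
  ext g
  obtain ⟨g, rfl⟩ := (glMap e).surjective g
  exact ⟨fun h => ⟨g, (gens_map e g).1 h, rfl⟩, fun ⟨a, ha, h⟩ => (glMap e).injective h ▸ (gens_map e a).2 ha⟩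

end

theorem equiv {F : Type*} [Field F] [Fintype F] (hF : Fintype.card F = 4) {w : F} (hw : w ^ 2 + w + 1 = 0) :
    Nonempty (Cfsg.Spor.J3 F w ≃* MdJ3.G) := by
  obtain ⟨e, rfl⟩ := F4.exists_equiv hF hw
  obtain ⟨-, ⟨e1⟩⟩ := EqJ3.cover
  obtain ⟨-, ⟨e2⟩⟩ := center_congr (((glMap e).subgroupMap _).trans (MulEquiv.subgroupCongr (three_map e).symm))
  exact ⟨(e1.trans e2).symm⟩

end Cfsg.Agent.Known.J3T
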