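import Cfsg.Agent.Known.J3Tab
import Cfsg.Agent.Known.Pack

/-! Upper bound for the Schur multiplier of `Spor.MdJ3.G` (generated certificate, helper25): `sb`. -/

set_option maxRecDepth 100000

namespace Cfsg.Agent.Known.J3T

open Cfsg.Agent.Comp

def D2 : PcData := ⟨1, 7,
  [[5],[],[3,6],[6],[6],[],[]],
  [[],[[1,4]],[[2,4,6],[2,3]],[[3,5,6],[3,6],[3]],[[4],[4,6],[4,5],[4,6]],[[5],[5,6],[5,6],[5],[5]],[[6],[6],
  [6],[6],[6],[6]]],
  [(7,[1],[1,6]),(7,[3],[3,4,5]),(7,[4],[3]),(7,[5],[5,6]),(7,[6],[6]),(8,[5],[1,2,6]),(8,[6],[0,3,4])]⟩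

noncomputable def T2_0 : List ((ℕ × ℕ × List ℕ × List ℕ) × List (ℕ × ℕ)) := decTests
  [nat_lit 0x1d301c030008,nat_lit 0x220089000d602680a008060005,nat_lit 0x8cd030004,
  nat_lit 0xe81d804905a06050004,nat_lit 0x68d030004,nat_lit 0x1903300910e415c2d05b06050007,nat_lit 0xe6020004,
  nat_lit 0x9813802405706050004,nat_lit 0x88b030004,nat_lit 0xde06f8015005708050004,nat_lit 0xe8e030004,
  nat_lit 0x5b02dc00b708050003,nat_lit 0xc4d030004,nat_lit 0x1800c1002c00f407b08050005,nat_lit 0x68c030004,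
  nat_lit 0x8808a008c06d05105405909a07050008,nat_lit 0xb0c030004,nat_lit 0xd00d2005907050003,
  nat_lit 0xa8c030004,nat_lit 0x44022400ac03981d00ae0ba08050007,nat_lit 0x20c030004,
  nat_lit 0xa02a02285305050004,nat_lit 0x46020004,nat_lit 0x4060834a4e519355595a9b0305000b,nat_lit 0xa0c030004,
  nat_lit 0xdc06e8015405508050004,nat_lit 0xb010004,nat_lit 0x90092008104a04e05009309905a05b0705000a,
  nat_lit 0xc8d030004,nat_lit 0x8008200b107a07b07050005,nat_lit 0x44d030004,nat_lit 0x1bc0df002400ac05b08050005,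
  nat_lit 0x40c030004,nat_lit 0xa80aa005507907050004,nat_lit 0xe4e030004,nat_lit 0x8008200b607050003,
  nat_lit 0xccd030004,nat_lit 0x46023400b208050003,nat_lit 0x97020004,nat_lit 0x200880871585b05050005,
  nat_lit 0xea4030005,nat_lit 0x7603b8016007060003,nat_lit 0x1d2014030008,
  nat_lit 0x3501ac0063822c1300a007060006,nat_lit 0x85020004,nat_lit 0xc40c600a106b06e07907b07050007,
  nat_lit 0x8cb030004,nat_lit 0x2008805805050003,nat_lit 0x64c030004,nat_lit 0xc0e06d5072777803050007,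
  nat_lit 0x1d100c030008,nat_lit 0xb202cc0032c0d0026009a036c0a008060008,nat_lit 0x826556040007,
  nat_lit 0x1980cd0010408606703401ac09c05204981540b009a0805000d,nat_lit 0x96020004,
  nat_lit 0x301a04211c925b04050006,nat_lit 0xc6020004,nat_lit 0xcc0ce00a304606c06e0730550770790ba07b0705000c,
  nat_lit 0xa010004,nat_lit 0xb60b7002f08040003]

theorem hT2_0 : relOK D2 19 33 T2_0 = true := by decide +kernel

noncomputable def S2_0 : List ℕ :=
  [nat_lit 0x1c038802a07040003,nat_lit 0x46e18f078f07a305e3028290430622a3262040808043e320407010019,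
  nat_lit 0xec0ed002103302d08040005,nat_lit 0x36089826c69a13141450a061434d081c68204088cd0506010019]

noncomputable def L2 : LinCert := LinCert.dec S2_0
  [nat_lit 0x562b40408010003,nat_lit 0xb0b20507010003,nat_lit 0x2d8b700a08020003,nat_lit 0x2789f00b08020003,
  nat_lit 0x18341404030003,nat_lit 0x1d03a401508030003,nat_lit 0x10241604030003]
  []
  [nat_lit 0x402010001,nat_lit 0x502010001,nat_lit 0xa02020001,nat_lit 0xb02020001,nat_lit 0x1402030001,
  nat_lit 0x1502030001,nat_lit 0x1602030001,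
  nat_lit 0xd093b2c088420b058b09c385c38281818144894344c94080808080c0602001c,nat_lit 0x1b104003040003,
  nat_lit 0x1a090a238d00cbc1d3e8fcfa74118d8461f0984c2037360906c6c0180c06030100b0702001e,nat_lit 0x2802040001,
  nat_lit 0x34124f14344891446452004c3c130782c16080f8f0281e1e00f07020017,
  nat_lit 0x8431088e03c2112030060300a40e04c0e0400602009048250341309403906040018,nat_lit 0xd9b02020003,
  nat_lit 0x1d24f629534734e0c35c30c41cc1063004020015,nat_lit 0xa602060001,
  nat_lit 0xd24fa94d1cd3031030c30c21cc1063004020015,nat_lit 0x352ba4d104b1080302000b,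
  nat_lit 0x4748a930e070e0d84068404020202860c84868c805030014,nat_lit 0x2c2a03040002,
  nat_lit 0x5120948815240300c0c0c8101a02018101859048343204905040015,nat_lit 0x242c03040002,
  nat_lit 0xc7920050fc094548551522681884c0620a40c819028124480300902400180500a0140200803001a,
  nat_lit 0x17185003040003,nat_lit 0xa002060001,nat_lit 0x5102050001,
  nat_lit 0x47a02a268e43a391a04430110882412080c8c0201818006030014,
  nat_lit 0x221529911fa50a0282813c28210a050180c0689092191292407020016]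

theorem hL2 : linOK D2 19 ([T2_0].flatMap fun c => c.map fun s => s.2) L2 = true := by
  decide +kernel

def xw2 : List (List ℕ) := [[2,0,1,2,0,2,1,2,0,1,3,2,0,1,0,3,1,2],[1,0,3,1,3,0,3,0,3,2,1,2,0,2,1,2,0,1,2,1,0,2,1,2,1],[3,1,3,2,3,2,1,0,3,
  2,1,0,2,1,2,0,2,1,2,1],[1,0,3,1,2,3,2,3,1,2,0,1,2,3,0,2,3,0,2,3,2,1,0,2,1],[0,2,1,0,2,0,1,0,2,1,2,0,2,1,0,3,0,
  2,1,0,3,2,0,2],[0,2,3,0,3,0,1,2,0,3,2,0,3,0,1,3,0,2,3,0,3,2,1,0,2,0,1,2,1,0,2,0,1,2,1,0,1],[3,1,3,1,2,3,0,2,0,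
  3,0,3,2,1,0,3,2,0,1,3,1,2,3,2],[1,0,3,1,0,3,0,2,0,1,2,0,3,2,1,0],[0,3,0,2,3,2,1,0,3,2,1,0,2,3,1,3,0,3,0,3,1,3,
  0,1,2,1,0]]

noncomputable def a2 (i : ℕ) : ℕ → ℕ := actW act (nthL [] xw2 i)

theorem r2_0 : ∀ j < 7, D2.relJ (eqB a2 [1,256,1565,4678,0]) j = true :=
  forall_lt_add (a := 0) (b := 7) (fun _ h => absurd h (Nat.not_lt_zero _)) (by decide +kernel)

theorem f2' : D2.relF (eqB a2 [1,256,1565,4678,0]) = true := by decide +kernel

theorem o2 : D2.ordOK a2 [[1],[4],[0],[6],[5],[0,3],[0,1,2,6]] [55,372,530,737,36,0] 6156 6 = true := by decide +kernel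

theorem sb2 : SBnd Spor.MdJ3.G 392445 [] :=
  sbnd_of_act (isCanon_PtN 6156) (hy.words xw2) base D2 (by decide +kernel) r2_0 f2' Spor.MdJ3.card
    (by decide +kernel) (exists_PtN (by decide +kernel)) o2 (List.forall_mem_cons.2 ⟨hT2_0, List.forall_mem_nil _⟩) hL2 (by decide +kernel)

def D3 : PcData := ⟨2, 5,
  [[3,3,4],[3,3,4,4],[],[],[]],
  [[],[[1,2,2,3,3]],[[2,3],[2,4]],[[3],[3],[3]],[[4],[4],[4],[4]]],
  []⟩

noncomputable def T3_0 : List ((ℕ × ℕ × List ℕ × List ℕ) × List (ℕ × ℕ)) := decTests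
  [nat_lit 0x409b030005,nat_lit 0x11c23c03e08030003,nat_lit 0xb010004,
  nat_lit 0xa82b0184631144611ce81a42b1b06d0604000c,nat_lit 0x87020004,nat_lit 0xa60a7005808040003,
  nat_lit 0xe7020004,nat_lit 0x1a835806807040003,nat_lit 0x32a020005,nat_lit 0xc20c3007307803908040005,
  nat_lit 0x95020004,nat_lit 0x9412c02384b07040004,nat_lit 0x429b030005,nat_lit 0x502903f06030003,
  nat_lit 0x52a4030005,nat_lit 0x783e07b05040003,nat_lit 0x86020004,nat_lit 0xb40b5003702a05c07d08040006,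
  nat_lit 0xa010004,nat_lit 0x9c09d004602a08040004,nat_lit 0x47020004,nat_lit 0xd00d1006602d08040004,
  nat_lit 0x40c030004,nat_lit 0xde0df005c05d08040004,nat_lit 0x68c030004,nat_lit 0xa40a5006c08040003,
  nat_lit 0x36a020005,nat_lit 0x160b81d0f83e05040005]

theorem hT3_0 : relOK D3 14 72 T3_0 = true := by decide +kernel

noncomputable def L3 : LinCert := LinCert.dec []
  [nat_lit 0x3d8f700a08020003,nat_lit 0x3d0f500b08020003,nat_lit 0x10420c01408030003,nat_lit 0x4522c0408010003,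
  nat_lit 0x660cd00441d81508030005]
  [(nat_lit 0x290a601607030003, 3, nat_lit 0x602010001)]
  [nat_lit 0xb02020001,nat_lit 0xb294208304104106286180303000e,nat_lit 0x402010001,nat_lit 0x502010001,
  nat_lit 0xa02020001,nat_lit 0x67516529c6318c441080302000f,nat_lit 0x1502030001,
  nat_lit 0x1d641f21e142804030007,nat_lit 0xa2002040002,nat_lit 0xe7ee1803030004,nat_lit 0x2aa903040002,
  nat_lit 0x3ec03860c1031c10200403000a,nat_lit 0x8d2502003040004,nat_lit 0x3aaa03040002,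
  nat_lit 0x72d3d970703004040006]

theorem hL3 : linOK D3 14 ([T3_0].flatMap fun c => c.map fun s => s.2) L3 = true := by
  decide +kernel

def xw3 : List (List ℕ) := [[2,3,1,2,3,0,1,2,1,3,1,2,1,0,3,0,2,0,3],[2,1,0,3,1,3,2,1,2,1,0,2,0,1,0,2,1,0,1,0,2,0,1,2,1,0,2,0,1,2,0,1],[3,
  0,1,0,3,2,0,3,0,2,1,0,2,1,0,2],[1,0,1,2,1,0,2,0,1,2,1,0,1,0,3,2,3,0,2,1,3,0,3],[0,1,3,0,3,0,3,1,0,3,0,2,1,2,
  0]]

noncomputable def a3 (i : ℕ) : ℕ → ℕ := actW act (nthL [] xw3 i)

theorem r3_0 : ∀ j < 5, D3.relJ (eqB a3 [1,256,1565,4678,0]) j = true :=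
  forall_lt_add (a := 0) (b := 5) (fun _ h => absurd h (Nat.not_lt_zero _)) (by decide +kernel)

theorem f3' : D3.relF (eqB a3 [1,256,1565,4678,0]) = true := by decide +kernel

theorem o3 : D3.ordOK a3 [[0],[1],[2,3,4]] [0,1] 6156 83 = true := by decide +kernel

theorem sb3 : SBnd Spor.MdJ3.G 206720 [3] :=
  sbnd_of_act (isCanon_PtN 6156) (hy.words xw3) base D3 (by decide +kernel) r3_0 f3' Spor.MdJ3.card
    (by decide +kernel) (exists_PtN (by decide +kernel)) o3 (List.forall_mem_cons.2 ⟨hT3_0, List.forall_mem_nil _⟩) hL3 (by decide +kernel)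

def xwc : List (List ℕ) := [[2,0,2,3,1,3,2,1,2,3,2,3,2],[2,0,1,2,0,1,2,0,3,1,0,2,3,0,2,0],[1,0,2,3,2,3,0,2,0,3,1,2]]

theorem sb : SBnd Spor.MdJ3.G 1 [3] :=
  ((((sb2.append sb3).append
    (sbnd_of_cyclic (isCanon_PtN 6156) (hy.words xwc) base 0 5 0 (by norm_num) (b := 0) ⟨_, rfl, by decide⟩
      (by decide +kernel) Spor.MdJ3.card (m := 10046592) (by decide +kernel))).append
    (sbnd_of_cyclic (isCanon_PtN 6156) (hy.words xwc) base 1 17 0 (by norm_num) (b := 0) ⟨_, rfl, by decide⟩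
      (by decide +kernel) Spor.MdJ3.card (m := 2954880) (by decide +kernel))).append
    (sbnd_of_cyclic (isCanon_PtN 6156) (hy.words xwc) base 2 19 0 (by norm_num) (b := 0) ⟨_, rfl, by decide⟩
      (by decide +kernel) Spor.MdJ3.card (m := 2643840) (by decide +kernel))).of_eq (by decide +kernel) rfl

end Cfsg.Agent.Known.J3T
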