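import Cfsg.Agent.Known.L34Up

/-! The Schur multiplier of the model of L34 (generated certificate, helper25): `mult`. -/

set_option maxRecDepth 100000
set_option exponentiation.threshold 100000

namespace Cfsg.Agent.Known.L34T

open Cfsg.Agent.Spor

noncomputable def cs3 : List (ℕ × ℕ) := [
  ((nat_lit 0x110220),
  (nat_lit 0x23100)),
  ((nat_lit 0x0),
  (nat_lit 0x0)),
  ((nat_lit 0x3000),
  (nat_lit 0x100020)),
  ((nat_lit 0x104820),
  (nat_lit 0x83040)),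
  ((nat_lit 0xb8dc4),
  (nat_lit 0x10400a)),
  ((nat_lit 0x81012),
  (nat_lit 0x7cd48)),
  ((nat_lit 0x108802),
  (nat_lit 0x23004)),
  ((nat_lit 0xc00),
  (nat_lit 0xa0000)),
  ((nat_lit 0xc000),
  (nat_lit 0x140)),
  ((nat_lit 0x86892),
  (nat_lit 0x110724))]

def es3 : List ℕ := [0,0,0,0,0,0,0,0,0,0,0,0,0,0,0,0,0,0,0,0,0,0,0,0,0,0,0,1,0]

theorem v3_0 : ∀ r ∈ (List.drop 0 (L34P.rels.zip es3)), ev (PP L34P.nets) r.1 = 1 → ev (mM 3 L34P.nets cs3) r.1 = zM 3 21 ^ r.2 :=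
  ev_of_chkVolt isAdd3 L34P.ok (by decide +kernel)

theorem cov3 : Cov 10 L34P.rels 3 es3 (mM 3 L34P.nets cs3) (zM 3 21) :=
  cov_of_volt L34P.ok (by decide) L34P.hP (by decide +kernel) v3_0 10

noncomputable def n4a_0 : Net :=
  Net.cons 1 (nat_lit 0x54450154004400) <|
  Net.cons 2 (nat_lit 0x130300002200) <|
  Net.cons 4 (nat_lit 0x408010c00) <|
  Net.cons 8 (nat_lit 0xad00260000) <|
  Net.cons 16 (nat_lit 0x2900000400) <|
  Net.cons 32 (nat_lit 0x2b0400) <|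
  Net.cons 16 (nat_lit 0x8f00000e10) <|
  Net.cons 8 (nat_lit 0xcf002600e0) <|
  Net.cons 4 (nat_lit 0x2020f0a010c00) <|
  Net.cons 2 (nat_lit 0x10130311003200) <|
  Net.cons 1 (nat_lit 0x54450154004405) <|
  Net.nil

noncomputable def n4a_1 : Net :=
  Net.cons 1 (nat_lit 0x44455514004400) <|
  Net.cons 2 (nat_lit 0x31202103023100) <|
  Net.cons 4 (nat_lit 0xc020000040000) <|
  Net.cons 8 (nat_lit 0x53004c0000) <|
  Net.cons 16 (nat_lit 0x1a00006100) <|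
  Net.cons 32 (nat_lit 0x9e6100) <|
  Net.cons 16 (nat_lit 0x5b0000ed00) <|
  Net.cons 8 (nat_lit 0xd7006e0060) <|
  Net.cons 4 (nat_lit 0xe000202060100) <|
  Net.cons 2 (nat_lit 0x31202113023103) <|
  Net.cons 1 (nat_lit 0x44455514004400) <|
  Net.nil

noncomputable def n4a_2 : Net :=
  Net.cons 1 (nat_lit 0x55101114004400) <|
  Net.cons 2 (nat_lit 0x20213032020300) <|
  Net.cons 4 (nat_lit 0x10808080c0200) <|
  Net.cons 8 (nat_lit 0x500060082) <|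
  Net.cons 16 (nat_lit 0x300000b200) <|
  Net.cons 32 (nat_lit 0x3ab202) <|
  Net.cons 16 (nat_lit 0xf50000b680) <|
  Net.cons 8 (nat_lit 0x3d007600e2) <|
  Net.cons 4 (nat_lit 0x10808080c0300) <|
  Net.cons 2 (nat_lit 0x20213133020300) <|
  Net.cons 1 (nat_lit 0x55105154004405) <|
  Net.nil

noncomputable def n4a_3 : Net :=
  Net.cons 1 (nat_lit 0x1540400045540) <|
  Net.cons 2 (nat_lit 0x230012002200) <|
  Net.cons 4 (nat_lit 0x6010a04080200) <|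
  Net.cons 8 (nat_lit 0x3c00130008) <|
  Net.cons 16 (nat_lit 0x940000e800) <|
  Net.cons 32 (nat_lit 0xf4e800) <|
  Net.cons 16 (nat_lit 0x9c0000fb08) <|
  Net.cons 8 (nat_lit 0x3f001300a8) <|
  Net.cons 4 (nat_lit 0x6010a04080600) <|
  Net.cons 2 (nat_lit 0x20231012002213) <|
  Net.cons 1 (nat_lit 0x1540400045545) <|
  Net.nil

noncomputable def n4a_4 : Net :=
  Net.cons 1 (nat_lit 0x44401410454414) <|
  Net.cons 2 (nat_lit 0x2333202011200) <|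
  Net.cons 4 (nat_lit 0x6070604020000) <|
  Net.cons 8 (nat_lit 0x2900680000) <|
  Net.cons 16 (nat_lit 0x7200005000) <|
  Net.cons 32 (nat_lit 0xfa7000) <|
  Net.cons 16 (nat_lit 0x1f00005104) <|
  Net.cons 8 (nat_lit 0xbd00a30082) <|
  Net.cons 4 (nat_lit 0xb0e060c0a0409) <|
  Net.cons 2 (nat_lit 0x31210000210000) <|
  Net.cons 1 (nat_lit 0x51000444044404) <|
  Net.nil

noncomputable def n4a_5 : Net :=
  Net.cons 1 (nat_lit 0x51000444044404) <|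
  Net.cons 2 (nat_lit 0x31210000210000) <|
  Net.cons 4 (nat_lit 0x3060e04020800) <|
  Net.cons 8 (nat_lit 0xa700290000) <|
  Net.cons 16 (nat_lit 0x9000005200) <|
  Net.cons 32 (nat_lit 0xf87200) <|
  Net.cons 16 (nat_lit 0x7500005304) <|
  Net.cons 8 (nat_lit 0xab00f2000a) <|
  Net.cons 4 (nat_lit 0xe0f0e0c0a0c09) <|
  Net.cons 2 (nat_lit 0x2333202011200) <|
  Net.cons 1 (nat_lit 0x44401410454414) <|
  Net.nil

noncomputable def n4a_6 : Net :=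
  Net.cons 1 (nat_lit 0x55050001015540) <|
  Net.cons 2 (nat_lit 0x2020011211010) <|
  Net.cons 4 (nat_lit 0x10d0001060200) <|
  Net.cons 8 (nat_lit 0x5e00e00000) <|
  Net.cons 16 (nat_lit 0x4300000400) <|
  Net.cons 32 (nat_lit 0x5b0400) <|
  Net.cons 16 (nat_lit 0x190000e500) <|
  Net.cons 8 (nat_lit 0xfe00b5001e) <|
  Net.cons 4 (nat_lit 0x4070000080d09) <|
  Net.cons 2 (nat_lit 0x11213102122313) <|
  Net.cons 1 (nat_lit 0x55050001015111) <|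
  Net.nil

noncomputable def n4a_7 : Net :=
  Net.cons 1 (nat_lit 0x55055011500010) <|
  Net.cons 2 (nat_lit 0x13001320030100) <|
  Net.cons 4 (nat_lit 0x20c06020c0000) <|
  Net.cons 8 (nat_lit 0x2d00b20000) <|
  Net.cons 16 (nat_lit 0x1400003b00) <|
  Net.cons 32 (nat_lit 0xb43b00) <|
  Net.cons 16 (nat_lit 0xf00009f40) <|
  Net.cons 8 (nat_lit 0xd600830050) <|
  Net.cons 4 (nat_lit 0x10404000d080d) <|
  Net.cons 2 (nat_lit 0x12121303331302) <|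
  Net.cons 1 (nat_lit 0x5104541040451) <|
  Net.nil

noncomputable def n4a_8 : Net :=
  Net.cons 1 (nat_lit 0x50451014515104) <|
  Net.cons 2 (nat_lit 0x12121030001010) <|
  Net.cons 4 (nat_lit 0x8000002000a00) <|
  Net.cons 8 (nat_lit 0xa4001e0001) <|
  Net.cons 16 (nat_lit 0x2000008d00) <|
  Net.cons 32 (nat_lit 0xf0cd00) <|
  Net.cons 16 (nat_lit 0xad0000ef01) <|
  Net.cons 8 (nat_lit 0x7b00d6000b) <|
  Net.cons 4 (nat_lit 0x4010c06000b0b) <|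
  Net.cons 2 (nat_lit 0x10331023301131) <|
  Net.cons 1 (nat_lit 0x500544055545) <|
  Net.nil

noncomputable def n4a_9 : Net :=
  Net.cons 1 (nat_lit 0x5450400040000) <|
  Net.cons 2 (nat_lit 0x12332032111020) <|
  Net.cons 4 (nat_lit 0x4040c02030c00) <|
  Net.cons 8 (nat_lit 0x9900a70080) <|
  Net.cons 16 (nat_lit 0x8100) <|
  Net.cons 32 (nat_lit 0x49900) <|
  Net.cons 16 (nat_lit 0xc90000c3f8) <|
  Net.cons 8 (nat_lit 0xbf008500a7) <|
  Net.cons 4 (nat_lit 0x6040c00010e02) <|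
  Net.cons 2 (nat_lit 0x12332032111020) <|
  Net.cons 1 (nat_lit 0x5450400040000) <|
  Net.nil

noncomputable def nets4a : List Net := [n4a_0, n4a_1, n4a_2, n4a_3, n4a_4, n4a_5, n4a_6, n4a_7, n4a_8, n4a_9]

theorem ok4a : netsOk 56 nets4a = true := by decide +kernel

theorem pl4a_6 : ∀ p < 6, chkPl nets4a 56 6 L34P.rels p = true :=
  forall_lt_add (a := 0) (b := 6) (fun _ h => absurd h (Nat.not_lt_zero _)) (by decide +kernel)

theorem hP4a : ∀ r ∈ L34P.rels, ev (PP nets4a) r = 1 := ev_eq_one_of_planes ok4a (by decide) pl4a_6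

noncomputable def cs4a : List (ℕ × ℕ) := [
  ((nat_lit 0xbd939f0de99110),
  (nat_lit 0x472cc169630276)),
  ((nat_lit 0xe26c73100356f0),
  (nat_lit 0xdb18aac2e80a1c)),
  ((nat_lit 0x9410fee9c65d20),
  (nat_lit 0x6b05fa0c85cb60)),
  ((nat_lit 0x3c71c0137660),
  (nat_lit 0xe0e9648d1d5490)),
  ((nat_lit 0x2946a330959b54),
  (nat_lit 0xd602cca90a5da4)),
  ((nat_lit 0x53951d520a9ce0),
  (nat_lit 0xb828f2aa098a90)),
  ((nat_lit 0x56f9aef4577688),
  (nat_lit 0x7237b09ec08de0)),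
  ((nat_lit 0x3cb2702a3e0e0f),
  (nat_lit 0xbc75bd06dd14fd)),
  ((nat_lit 0x579bbc14808ee8),
  (nat_lit 0xbc193fff8208e4)),
  ((nat_lit 0x53dbc4c7831024),
  (nat_lit 0xa98333783c2120))]

def es4a : List ℕ := [2,2,0,0,0,2,0,2,0,2,2,2,3,1,3,3,0,2,2,2,2,0,0,0,0,2,1,2,3]

theorem v4a_0 : ∀ r ∈ (List.drop 0 (L34P.rels.zip es4a)), ev (PP nets4a) r.1 = 1 → ev (mM 4 nets4a cs4a) r.1 = zM 4 56 ^ r.2 :=
  ev_of_chkVolt isAdd4 ok4a (by decide +kernel)

theorem cov4a : Cov 10 L34P.rels 4 es4a (mM 4 nets4a cs4a) (zM 4 56) :=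
  cov_of_volt ok4a (by decide) hP4a (by decide +kernel) v4a_0 10

noncomputable def n4b_0 : Net :=
  Net.cons 1 (nat_lit 0x444400045500) <|
  Net.cons 2 (nat_lit 0x10002030000100) <|
  Net.cons 4 (nat_lit 0x20902020000) <|
  Net.cons 8 (nat_lit 0x800000) <|
  Net.cons 16 (nat_lit 0x900008100) <|
  Net.cons 32 (nat_lit 0xb8100) <|
  Net.cons 16 (nat_lit 0x890000c300) <|
  Net.cons 8 (nat_lit 0x6400b000ac) <|
  Net.cons 4 (nat_lit 0x102090a020000) <|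
  Net.cons 2 (nat_lit 0x10002030000100) <|
  Net.cons 1 (nat_lit 0x14544500045501) <|
  Net.nil

noncomputable def n4b_1 : Net :=
  Net.cons 1 (nat_lit 0x40450004514040) <|
  Net.cons 2 (nat_lit 0x12112310020100) <|
  Net.cons 4 (nat_lit 0xe030a070000) <|
  Net.cons 8 (nat_lit 0xcd00c50010) <|
  Net.cons 16 (nat_lit 0xc700001a00) <|
  Net.cons 32 (nat_lit 0xc7df00) <|
  Net.cons 16 (nat_lit 0xdf00007a78) <|
  Net.cons 8 (nat_lit 0xad00a50072) <|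
  Net.cons 4 (nat_lit 0xe030a070000) <|
  Net.cons 2 (nat_lit 0x12112310120101) <|
  Net.cons 1 (nat_lit 0x44450004514040) <|
  Net.nil

noncomputable def n4b_2 : Net :=
  Net.cons 1 (nat_lit 0x40051555510510) <|
  Net.cons 2 (nat_lit 0x22032220110) <|
  Net.cons 4 (nat_lit 0x60900000100) <|
  Net.cons 8 (nat_lit 0x6600a80000) <|
  Net.cons 16 (nat_lit 0x3c0000d000) <|
  Net.cons 32 (nat_lit 0x3cfa00) <|
  Net.cons 16 (nat_lit 0x3e0000f8a8) <|
  Net.cons 8 (nat_lit 0x1b00d6003c) <|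
  Net.cons 4 (nat_lit 0x1020d04040100) <|
  Net.cons 2 (nat_lit 0x20022032220110) <|
  Net.cons 1 (nat_lit 0x40051555514511) <|
  Net.nil

noncomputable def n4b_3 : Net :=
  Net.cons 1 (nat_lit 0x5505051051500) <|
  Net.cons 2 (nat_lit 0x21022021020100) <|
  Net.cons 4 (nat_lit 0x406050b0c0500) <|
  Net.cons 8 (nat_lit 0x1a00840000) <|
  Net.cons 16 (nat_lit 0x2200007000) <|
  Net.cons 32 (nat_lit 0x22f200) <|
  Net.cons 16 (nat_lit 0x6a000075c0) <|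
  Net.cons 8 (nat_lit 0x4300890074) <|
  Net.cons 4 (nat_lit 0x707040e080104) <|
  Net.cons 2 (nat_lit 0x12032130031100) <|
  Net.cons 1 (nat_lit 0x50515451051501) <|
  Net.nil

noncomputable def n4b_4 : Net :=
  Net.cons 1 (nat_lit 0x155404541044) <|
  Net.cons 2 (nat_lit 0x20222113103310) <|
  Net.cons 4 (nat_lit 0x80b0002050000) <|
  Net.cons 8 (nat_lit 0x5800aa0000) <|
  Net.cons 16 (nat_lit 0x8800005300) <|
  Net.cons 32 (nat_lit 0x887f00) <|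
  Net.cons 16 (nat_lit 0x2e00009f38) <|
  Net.cons 8 (nat_lit 0xce0042000a) <|
  Net.cons 4 (nat_lit 0xb090a0604080c) <|
  Net.cons 2 (nat_lit 0x30113203131311) <|
  Net.cons 1 (nat_lit 0x101155515404) <|
  Net.nil

noncomputable def n4b_5 : Net :=
  Net.cons 1 (nat_lit 0x101155515404) <|
  Net.cons 2 (nat_lit 0x1002110002000) <|
  Net.cons 4 (nat_lit 0x803090800) <|
  Net.cons 8 (nat_lit 0x3b00b20000) <|
  Net.cons 16 (nat_lit 0x200000c500) <|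
  Net.cons 32 (nat_lit 0x28fd00) <|
  Net.cons 16 (nat_lit 0xab0000f6e0) <|
  Net.cons 8 (nat_lit 0x50002a00a2) <|
  Net.cons 4 (nat_lit 0x4040a0e0f0009) <|
  Net.cons 2 (nat_lit 0x11113202212203) <|
  Net.cons 1 (nat_lit 0x155404541044) <|
  Net.nil

noncomputable def n4b_6 : Net :=
  Net.cons 1 (nat_lit 0x1111414551050) <|
  Net.cons 2 (nat_lit 0x30020230210120) <|
  Net.cons 4 (nat_lit 0x305030b0400) <|
  Net.cons 8 (nat_lit 0x8000300002) <|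
  Net.cons 16 (nat_lit 0xd000002200) <|
  Net.cons 32 (nat_lit 0xd06200) <|
  Net.cons 16 (nat_lit 0xd20000f76e) <|
  Net.cons 8 (nat_lit 0xc900520060) <|
  Net.cons 4 (nat_lit 0xc010501090603) <|
  Net.cons 2 (nat_lit 0x30222230230120) <|
  Net.cons 1 (nat_lit 0x41111414551050) <|
  Net.nil

noncomputable def n4b_7 : Net :=
  Net.cons 1 (nat_lit 0x50510455045140) <|
  Net.cons 2 (nat_lit 0x30123202222000) <|
  Net.cons 4 (nat_lit 0xd02010a0b0300) <|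
  Net.cons 8 (nat_lit 0x2000480028) <|
  Net.cons 16 (nat_lit 0xe100002300) <|
  Net.cons 32 (nat_lit 0xc97720) <|
  Net.cons 16 (nat_lit 0x8a00009e34) <|
  Net.cons 8 (nat_lit 0x9e00a9000e) <|
  Net.cons 4 (nat_lit 0xc010604080a0d) <|
  Net.cons 2 (nat_lit 0x10230133300331) <|
  Net.cons 1 (nat_lit 0x55441501410514) <|
  Net.nil

noncomputable def n4b_8 : Net :=
  Net.cons 1 (nat_lit 0x5405154144114) <|
  Net.cons 2 (nat_lit 0x3121002223000) <|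
  Net.cons 4 (nat_lit 0x4020700040700) <|
  Net.cons 8 (nat_lit 0x24004b0000) <|
  Net.cons 16 (nat_lit 0x820000b400) <|
  Net.cons 32 (nat_lit 0xc3fe00) <|
  Net.cons 16 (nat_lit 0x9e0000cab4) <|
  Net.cons 8 (nat_lit 0x5100130082) <|
  Net.cons 4 (nat_lit 0x907020f090a0d) <|
  Net.cons 2 (nat_lit 0x3132111113113) <|
  Net.cons 1 (nat_lit 0x1045555444554) <|
  Net.nil

noncomputable def n4b_9 : Net :=
  Net.cons 1 (nat_lit 0x11454051040410) <|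
  Net.cons 2 (nat_lit 0x330100122010) <|
  Net.cons 4 (nat_lit 0x60302000c0000) <|
  Net.cons 8 (nat_lit 0xb400f00034) <|
  Net.cons 16 (nat_lit 0x200001400) <|
  Net.cons 32 (nat_lit 0x7edc10) <|
  Net.cons 16 (nat_lit 0xa000007280) <|
  Net.cons 8 (nat_lit 0xd200970053) <|
  Net.cons 4 (nat_lit 0x504060a0606) <|
  Net.cons 2 (nat_lit 0x330100122010) <|
  Net.cons 1 (nat_lit 0x11454051040410) <|
  Net.nil

noncomputable def nets4b : List Net := [n4b_0, n4b_1, n4b_2, n4b_3, n4b_4, n4b_5, n4b_6, n4b_7, n4b_8, n4b_9]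

theorem ok4b : netsOk 56 nets4b = true := by decide +kernel

theorem pl4b_6 : ∀ p < 6, chkPl nets4b 56 6 L34P.rels p = true :=
  forall_lt_add (a := 0) (b := 6) (fun _ h => absurd h (Nat.not_lt_zero _)) (by decide +kernel)

theorem hP4b : ∀ r ∈ L34P.rels, ev (PP nets4b) r = 1 := ev_eq_one_of_planes ok4b (by decide) pl4b_6

noncomputable def cs4b : List (ℕ × ℕ) := [
  ((nat_lit 0xe7b6b69b44080),
  (nat_lit 0xfba9c6728eac98)),
  ((nat_lit 0xefd4afda00000),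
  (nat_lit 0x3a32da459ab450)),
  ((nat_lit 0xfd8f6e8316f860),
  (nat_lit 0x6a9d5c7d572126)),
  ((nat_lit 0x770245b8e860c0),
  (nat_lit 0x361558f6173af4)),
  ((nat_lit 0xd2d6381ed27c98),
  (nat_lit 0x8d28511285b4e8)),
  ((nat_lit 0xee1d159b3125cc),
  (nat_lit 0x469928c8d608d4)),
  ((nat_lit 0xd70e44d468ac50),
  (nat_lit 0x36658869371e20)),
  ((nat_lit 0x89dc6f52e23020),
  (nat_lit 0x89596a95ef1940)),
  ((nat_lit 0xd53b987e4b0010),
  (nat_lit 0x95a055042838c)),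
  ((nat_lit 0xd2f43f9e634a68),
  (nat_lit 0x3fcd8a4309a928))]

def es4b : List ℕ := [0,0,2,0,0,0,2,0,0,0,1,1,0,3,1,3,3,2,0,0,0,2,1,0,0,2,0,0,0]

theorem v4b_0 : ∀ r ∈ (List.drop 0 (L34P.rels.zip es4b)), ev (PP nets4b) r.1 = 1 → ev (mM 4 nets4b cs4b) r.1 = zM 4 56 ^ r.2 :=
  ev_of_chkVolt isAdd4 ok4b (by decide +kernel)

theorem cov4b : Cov 10 L34P.rels 4 es4b (mM 4 nets4b cs4b) (zM 4 56) :=
  cov_of_volt ok4b (by decide) hP4b (by decide +kernel) v4b_0 10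

theorem mult : HasSchurMultiplier L34P.G (Multiplicative (ZMod 3 × ZMod 4 × ZMod 4)) :=
  schur3_of_bnd sb (MDvd.mul (mdvd_cov1 L34P.lifts L34P.hg L34P.hl cov3 [0, 0, 0, 0, 0, 0, 0, 0, 0, 0, -6, 0, 0, 18, -12, 6, -4, 0, 0, 0, 1, 0, 0, 0, 0, 2, 0, -2, 0] (by decide +kernel))
    (mdvd_cov2 L34P.lifts L34P.hg L34P.hl cov4a cov4b [0, 0, 0, 0, 0, 0, 0, 0, 0, 0, 5, 0, 0, -12, 11, -8, 4, 0, 3, 0, 0, -1, 2, -2, 0, 0, 0, 0, 0]
      [0, 0, 0, 0, 0, 0, 0, 0, 0, 0, -4, 0, 0, 3, -1, 4, -2, 0, 0, 0, 0, 2, -1, -2, 0, 0, 0, 0, 0] (by decide +kernel)) (by decide))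

end Cfsg.Agent.Known.L34T
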