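import Cfsg.Agent.Known.Bridge
import Cfsg.Agent.Known.P.L34

/-! Pointwise tables and a base for `L34P.G` in degree 21 (generated certificate, helper25): letters `y`,
action `act`, `hy`, `base`, `mdl`. -/

set_option maxRecDepth 100000
set_option exponentiation.threshold 100000

namespace Cfsg.Agent.Known.L34T

open Cfsg.Agent.Comp

noncomputable def t0 : ℕ := (nat_lit 0x1194e8d73e0952d8531d0418820)

theorem h0 : TabOf 21 5 t0 (Spor.ev (Spor.PP L34P.nets) [0])⁻¹ :=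
  tabOf_of_chk (L := 5) L34P.ok _ (by decide +kernel)

noncomputable def t1 : ℕ := (nat_lit 0x531d0952d8d73e1194e8418820)

theorem h1 : TabOf 21 5 t1 (Spor.ev (Spor.PP L34P.nets) [1])⁻¹ :=
  tabOf_of_chk (L := 5) L34P.ok _ (by decide +kernel)

noncomputable def t2 : ℕ := (nat_lit 0xd73e1194e8531d0952d8418820)

theorem h2 : TabOf 21 5 t2 (Spor.ev (Spor.PP L34P.nets) [2])⁻¹ :=
  tabOf_of_chk (L := 5) L34P.ok _ (by decide +kernel)

noncomputable def t3 : ℕ := (nat_lit 0x13a464f835cb62547414c418820)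

theorem h3 : TabOf 21 5 t3 (Spor.ev (Spor.PP L34P.nets) [3])⁻¹ :=
  tabOf_of_chk (L := 5) L34P.ok _ (by decide +kernel)

noncomputable def t4 : ℕ := (nat_lit 0x12a4e2641cae83daa62d2311020)

theorem h4 : TabOf 21 5 t4 (Spor.ev (Spor.PP L34P.nets) [4])⁻¹ :=
  tabOf_of_chk (L := 5) L34P.ok _ (by decide +kernel)

noncomputable def t5 : ℕ := (nat_lit 0x139522b53127320af741a220c20)

theorem h5 : TabOf 21 5 t5 (Spor.ev (Spor.PP L34P.nets) [5])⁻¹ :=
  tabOf_of_chk (L := 5) L34P.ok _ (by decide +kernel)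

noncomputable def t6 : ℕ := (nat_lit 0x1194e8e6c1eb62548398a320440)

theorem h6 : TabOf 21 5 t6 (Spor.ev (Spor.PP L34P.nets) [6])⁻¹ :=
  tabOf_of_chk (L := 5) L34P.ok _ (by decide +kernel)

noncomputable def t7 : ℕ := (nat_lit 0x531d148ce421848a62d30735e0)

theorem h7 : TabOf 21 5 t7 (Spor.ev (Spor.PP L34P.nets) [7])⁻¹ :=
  tabOf_of_chk (L := 5) L34P.ok _ (by decide +kernel)

noncomputable def t8 : ℕ := (nat_lit 0x10735e408c47320b194e895b140)

theorem h8 : TabOf 21 5 t8 (Spor.ev (Spor.PP L34P.nets) [8])⁻¹ :=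
  tabOf_of_chk (L := 5) L34P.ok _ (by decide +kernel)

noncomputable def t9 : ℕ := (nat_lit 0x13a02247a12c11dae518301acb2)

theorem h9 : TabOf 21 5 t9 (Spor.ev (Spor.PP L34P.nets) [9])⁻¹ :=
  tabOf_of_chk (L := 5) L34P.ok _ (by decide +kernel)

noncomputable def tabs : List ℕ := [t0, t1, t2, t3, t4, t5, t6, t7, t8, t9]

def wds : List (List ℕ) := [[0],[1],[2],[3],[4],[5],[6],[7],[8],[9]]

noncomputable scoped instance inst : MulAction L34P.G ℕ := actOf L34P.φ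

scoped instance fin : Finite L34P.G := Nat.finite_of_card_ne_zero (by rw [L34P.card]; decide)

noncomputable def y (i : ℕ) : L34P.G := (Spor.ev L34P.g (nthL [0] wds i))⁻¹

noncomputable def act (i : ℕ) : ℕ → ℕ := get2 5 (nthL t0 tabs i)

theorem hy : ActBy y (PtN 21) act :=
  actBy_tabs L34P.rep (.cons h0 (.cons h0 (.cons h1 (.cons h2 (.cons h3 (.cons h4 (.cons h5 (.cons h6 (.cons h7 (.cons h8 (.cons h9 (.nil)))))))))))) (by decide +kernel)

theorem f0 : FixLe L34P.G (PtN 21) [0] 21 :=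
  FixLe.nil.stepW (isCanon_PtN _) hy 0 21 [[9],[7]] 21 ⟨_, rfl, by decide⟩ (by decide +kernel)

theorem f1 : FixLe L34P.G (PtN 21) [1,0] 420 :=
  f0.stepW (isCanon_PtN _) hy 1 20 [[7],[6]] 21 ⟨_, rfl, by decide⟩ (by decide +kernel)

theorem f2 : FixLe L34P.G (PtN 21) [2,1,0] 1260 :=
  f1.stepW (isCanon_PtN _) hy 2 3 [[5]] 21 ⟨_, rfl, by decide⟩ (by decide +kernel)

theorem f3 : FixLe L34P.G (PtN 21) [5,2,1,0] 20160 :=
  f2.stepW (isCanon_PtN _) hy 5 16 [[3],[2],[1],[0]] 21 ⟨_, rfl, by decide⟩ (by decide +kernel)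

theorem base : IsBase L34P.G (PtN 21) [5,2,1,0] := f3.isBase L34P.card le_rfl

theorem mdl : Mdl L34P.φ 21 10 20160 y act [5,2,1,0] :=
  mdl_of_tabs L34P.rep hy base (by decide) L34P.card (by decide)

end Cfsg.Agent.Known.L34T
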