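import Cfsg.Agent.Known.L34Tab
import Cfsg.Agent.Known.Pack

/-! Upper bound for the Schur multiplier of `L34P.G` (generated certificate, helper25): `sb`. -/

set_option maxRecDepth 100000

namespace Cfsg.Agent.Known.L34T

open Cfsg.Agent.Comp

def D3 : PcData := ⟨2, 2,
  [[],[]],
  [[],[[1]]],
  []⟩

noncomputable def T3_0 : List ((ℕ × ℕ × List ℕ × List ℕ) × List (ℕ × ℕ)) := decTests
  [nat_lit 0xb010004,nat_lit 0xd4d60d07010003]

theorem hT3_0 : relOK D3 12 12 T3_0 = true := by decide +kernel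

noncomputable def L3 : LinCert := LinCert.dec []
  [nat_lit 0x7a3d40408010003,nat_lit 0x368db00a08020003]
  [(nat_lit 0x52c504010003, 3, nat_lit 0x402010001)]
  [nat_lit 0x402010001,nat_lit 0xa02020001,nat_lit 0x502010001]

theorem hL3 : linOK D3 12 ([T3_0].flatMap fun c => c.map fun s => s.2) L3 = true := by
  decide +kernel

def xw3 : List (List ℕ) := [[4,1,7,7,9,1],[4,8,8,9,7,7,2]]

noncomputable def a3 (i : ℕ) : ℕ → ℕ := actW act (nthL [] xw3 i)

theorem r3_0 : ∀ j < 2, D3.relJ (eqB a3 [5,2,1,0]) j = true :=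
  forall_lt_add (a := 0) (b := 2) (fun _ h => absurd h (Nat.not_lt_zero _)) (by decide +kernel)

theorem f3' : D3.relF (eqB a3 [5,2,1,0]) = true := by decide +kernel

theorem o3 : D3.ordOK a3 [[0],[1]] [1,0] 21 5 = true := by decide +kernel

theorem sb3 : SBnd L34P.G 2240 [3] :=
  sbnd_of_act (isCanon_PtN 21) (hy.words xw3) base D3 (by decide +kernel) r3_0 f3' L34P.card
    (by decide +kernel) (exists_PtN (by decide +kernel)) o3 (List.forall_mem_cons.2 ⟨hT3_0, List.forall_mem_nil _⟩) hL3 (by decide +kernel)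

def D2 : PcData := ⟨1, 6,
  [[4],[],[],[5],[],[]],
  [[],[[1,5]],[[2,4],[2]],[[3],[3,4],[3,4,5]],[[4],[4],[4],[4]],[[5],[5],[5],[5],[5]]],
  [(6,[1],[5]),(6,[2],[1,2,4]),(7,[4],[0,2,4]),(7,[5],[0,1,3])]⟩

noncomputable def T2_0 : List ((ℕ × ℕ × List ℕ × List ℕ) × List (ℕ × ℕ)) := decTests
  [nat_lit 0xa8c030004,nat_lit 0x82083005c08040003,nat_lit 0x97020004,nat_lit 0x4c09a011c1582e07040005,
  nat_lit 0xc6020004,nat_lit 0x8c08d005303c03e08040005,nat_lit 0xa4c030004,nat_lit 0x1a034805b07040003,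
  nat_lit 0xc8d030004,nat_lit 0xd00d200b107050003,nat_lit 0x8cc030004,nat_lit 0xae0578011a05308050004,
  nat_lit 0x47020004,nat_lit 0xc20c3004602d08040004,nat_lit 0xacc030004,nat_lit 0x1582b805d07040003,
  nat_lit 0x86020004,nat_lit 0x84086006b05105307050005,nat_lit 0x32201030007,
  nat_lit 0xfc0fe004405005105307050006,nat_lit 0xb010004,nat_lit 0xb02e02044b13c5405050006,nat_lit 0x80b030004,
  nat_lit 0xc1c2b2f03040004,nat_lit 0x85020004,nat_lit 0x1e40f3002840e007408050005,nat_lit 0x88b030004,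
  nat_lit 0x1f40fb002a00da06e02881c80e607408050009,nat_lit 0xe7020004,
  nat_lit 0xca0658011004c02701440a605408050008,nat_lit 0x8cb030004,nat_lit 0x14029005206050003,
  nat_lit 0x3a693030007,nat_lit 0xa40a6006104304406606804a0710720740705000b,nat_lit 0xa010004,
  nat_lit 0x482602a05040003]

theorem hT2_0 : relOK D2 16 30 T2_0 = true := by decide +kernel

noncomputable def L2 : LinCert := LinCert.dec []
  [nat_lit 0x2a0a900a08020003,nat_lit 0xbcbe0407010003,nat_lit 0x1c3c1504030003,nat_lit 0x2088505010003,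
  nat_lit 0x14829401708030003,nat_lit 0x19032802907040003]
  [(nat_lit 0xec3b804c1f07030004, 4, nat_lit 0x4aa603010004), (nat_lit 0x14829401608030003, 4, nat_lit 0x1e8a419003020006)]
  [nat_lit 0x502010001,nat_lit 0xb02020001,nat_lit 0x402010001,nat_lit 0x29102030002,
  nat_lit 0x4ea8402838206020204930202830605040282005030013,nat_lit 0xa02020001,nat_lit 0x1702030001,
  nat_lit 0x1402030001,nat_lit 0x5a12c42a08b21508218803020010,nat_lit 0x1502030001,nat_lit 0x5902050001,
  nat_lit 0x9a061041965e6180303000a,nat_lit 0x2761b65e61803030007,nat_lit 0xbd603030002,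
  nat_lit 0xb29a106514564100303000a,nat_lit 0x23ab03040002,nat_lit 0x2680608103264d903060c180403000d,
  nat_lit 0x99038208145870420a8304145890e102804030013,nat_lit 0x5702050001,nat_lit 0x11caa804030003,
  nat_lit 0x175a420c30924b3092080402000d]

theorem hL2 : linOK D2 16 ([T2_0].flatMap fun c => c.map fun s => s.2) L2 = true := by
  decide +kernel

def xw2 : List (List ℕ) := [[2,8,2,1,0],[4,6,5],[5,6,4,0],[7,7,3,1],[5,6,4],[6,0,3],[2,4],[8,9,7,4,3,1]]

noncomputable def a2 (i : ℕ) : ℕ → ℕ := actW act (nthL [] xw2 i)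

theorem r2_0 : ∀ j < 6, D2.relJ (eqB a2 [5,2,1,0]) j = true :=
  forall_lt_add (a := 0) (b := 6) (fun _ h => absurd h (Nat.not_lt_zero _)) (by decide +kernel)

theorem f2' : D2.relF (eqB a2 [5,2,1,0]) = true := by decide +kernel

theorem o2 : D2.ordOK a2 [[0],[1],[4],[5],[0,2],[1,2,3]] [13,1] 21 18 = true := by decide +kernel

theorem sb2 : SBnd L34P.G 315 [4,4] :=
  sbnd_of_act (isCanon_PtN 21) (hy.words xw2) base D2 (by decide +kernel) r2_0 f2' L34P.card
    (by decide +kernel) (exists_PtN (by decide +kernel)) o2 (List.forall_mem_cons.2 ⟨hT2_0, List.forall_mem_nil _⟩) hL2 (by decide +kernel)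

def xwc : List (List ℕ) := [[0,4,7,0],[9,6,2,0]]

theorem sb : SBnd L34P.G 1 [3,4,4] :=
  (((sb3.append sb2).append
    (sbnd_of_cyclic (isCanon_PtN 21) (hy.words xwc) base 0 5 0 (by norm_num) (b := 1) ⟨_, rfl, by decide⟩
      (by decide +kernel) L34P.card (m := 4032) (by decide +kernel))).append
    (sbnd_of_cyclic (isCanon_PtN 21) (hy.words xwc) base 1 7 0 (by norm_num) (b := 0) ⟨_, rfl, by decide⟩
      (by decide +kernel) L34P.card (m := 2880) (by decide +kernel))).of_eq (by decide +kernel) rfl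

end Cfsg.Agent.Known.L34T
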