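import Cfsg.Agent.Known.LyKTab
import Cfsg.Agent.Known.Pack

/-! Upper bound for the Schur multiplier of `Spor.LyK.G` (generated certificate, helper25): `sb`. -/

set_option maxRecDepth 100000

namespace Cfsg.Agent.Known.LyKT

open Cfsg.Agent.Comp

def D2 : PcData := ⟨1, 6,
  [[2,4],[],[],[5],[5],[]],
  [[],[[1,2,5]],[[2,5],[2]],[[3,4,5],[3],[3,5]],[[4,5],[4,5],[4],[4,5]],[[5],[5],[5],[5],[5]]],
  [(6,[1],[1,2,4,5]),(6,[2],[2,3]),(6,[3],[3]),(7,[1],[0,1,3]),(7,[5],[2,5])]⟩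

noncomputable def T2_0 : List ((ℕ × ℕ × List ℕ × List ℕ) × List (ℕ × ℕ)) := decTests
  [nat_lit 0x3a8dc030007,nat_lit 0x90092006306404806f05007050007,nat_lit 0x84b030004,
  nat_lit 0xac0ae00a705007050004,nat_lit 0x32201030007,nat_lit 0x1ac0d70019c0d004c02681440a407308050009,
  nat_lit 0x44c030004,nat_lit 0xd40d6008b05005407050005,nat_lit 0xc6020004,nat_lit 0xcc0ce00a307107407050005,
  nat_lit 0xb010004,nat_lit 0x5b02dc0081021811008a04b046013c0a20940805000b,nat_lit 0xa0c030004,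
  nat_lit 0x25012a0055013c0e607408050006,nat_lit 0xa010004,nat_lit 0xe03a010c4a14c5405050006,nat_lit 0x46020004,
  nat_lit 0x23811e0041813009e05408050006,nat_lit 0x85020004,nat_lit 0xac0ae00a106406507007107407050008,
  nat_lit 0x32402030007,nat_lit 0x3606e00d01342907306050006,nat_lit 0xb0c030004,nat_lit 0xcc0ce005307050003,
  nat_lit 0x97020004,nat_lit 0x2008202707030003,nat_lit 0x47020004,
  nat_lit 0x25812e004301a009404d027013c0a60940805000a,nat_lit 0x80b030004,
  nat_lit 0x1cc0e7002980da06e02781c81660b408050009,nat_lit 0x8cb030004,nat_lit 0x7703bc005208050003]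

theorem hT2_0 : relOK D2 18 31 T2_0 = true := by decide +kernel

noncomputable def L2 : LinCert := LinCert.dec []
  [nat_lit 0x683440408010003,nat_lit 0xa0a20507010003,nat_lit 0xa0a40a06020003,nat_lit 0x3c0f100b08020003,
  nat_lit 0x1f43ec01608030003,nat_lit 0x11022802907040003]
  []
  [nat_lit 0x402010001,nat_lit 0x502010001,nat_lit 0xa02020001,nat_lit 0xb02020001,
  nat_lit 0x7a38380c03818826118881883a070720180601807030010,
  nat_lit 0x2a110550108743e380b0a8a2361004c80020100807020012,nat_lit 0x1402030001,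
  nat_lit 0xfd0410a18a30a184280303000c,nat_lit 0x5dbd2078483d0a89ca83d1284092030180c07020010,
  nat_lit 0x1502030001,nat_lit 0xbfec1430a891e70a8d0c640502000d,nat_lit 0xbbd041070c5207142240402000d,
  nat_lit 0x794102203040004,nat_lit 0x5dbd2078483d0a89ca83d1184892030181407020010,nat_lit 0x33a1fe1a49103030007,
  nat_lit 0xff605060a83868e0a86830c80503000c,nat_lit 0xbe8102090a246090a10480403000c,
  nat_lit 0xff605050a84888e0a86840c80503000c,nat_lit 0x5502050001,nat_lit 0x5102050001,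
  nat_lit 0x17f6d1634a082074a0c12600502000d]

theorem hL2 : linOK D2 18 ([T2_0].flatMap fun c => c.map fun s => s.2) L2 = true := by
  decide +kernel

def xw2 : List (List ℕ) := [[5,5,13,13,16,16,1,3,3,0,2,0,3,14,6,6,11,0,3,7,8,11,13],[6,8,16,0,5,6,0,3,0,7,7,13,16,1,14,0],[6,15,7,8,6,4,
  3,1,8,4,8,2,1,3,1,2,2,0,15,15,14,14,5,5],[5,5,16,13,16,13,2,1,3,14,7,12,8,16,17],[5,5,11,5,6,13,2,0,0,0,14,2,
  1,3,3,0,3,0,2,0,13,16,17],[2,0,18,16,6,12,1,1,3,1,3,1,2,2,0,17,5,5],[5,5,18,1,3,1,2,2,0,2,4,1,1,12,0,7,4,12,7,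
  15,0],[11,7,17,5,6,14,2,0,0,0,3,3,1,3,3,0,2,0,8,18,3,8]]

noncomputable def a2 (i : ℕ) : ℕ → ℕ := actW act (nthL [] xw2 i)

theorem r2_0 : ∀ j < 6, D2.relJ (eqB a2 [1,939,1177,136,16,2,0]) j = true :=
  forall_lt_add (a := 0) (b := 6) (fun _ h => absurd h (Nat.not_lt_zero _)) (by decide +kernel)

theorem f2' : D2.relF (eqB a2 [1,939,1177,136,16,2,0]) = true := by decide +kernel

theorem o2 : D2.ordOK a2 [[1],[0],[2],[0,3],[4],[5]] [2487,8,47,173,0] 3906 6 = true := by decide +kernel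

theorem sb2 : SBnd Spor.LyK.G 91546875 [] :=
  sbnd_of_act (isCanon_PtN 3906) (hy.words xw2) base D2 (by decide +kernel) r2_0 f2' Spor.LyK.card
    (by decide +kernel) (exists_PtN (by decide +kernel)) o2 (List.forall_mem_cons.2 ⟨hT2_0, List.forall_mem_nil _⟩) hL2 (by decide +kernel)

def D3 : PcData := ⟨2, 3,
  [[],[],[]],
  [[],[[1,2]],[[2],[2]]],
  [(3,[1],[1]),(3,[2],[2,2]),(4,[0],[0,0]),(4,[2],[2])]⟩

noncomputable def T3_0 : List ((ℕ × ℕ × List ℕ × List ℕ) × List (ℕ × ℕ)) := decTests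
  [nat_lit 0x22693030007,nat_lit 0x318c700f08020003,nat_lit 0xe41020007,nat_lit 0x5c2f01c06030003,
  nat_lit 0xb010004,nat_lit 0x2709e0310cc1507030005]

theorem hT3_0 : relOK D3 12 21 T3_0 = true := by decide +kernel

noncomputable def L3 : LinCert := LinCert.dec []
  [nat_lit 0x482440408010003,nat_lit 0xf8fa0507010003,nat_lit 0x350d500a08020003]
  []
  [nat_lit 0x402010001,nat_lit 0x502010001,nat_lit 0xa02020001,nat_lit 0xf02020001,nat_lit 0x1c02030001,
  nat_lit 0xfd503010003]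

theorem hL3 : linOK D3 12 ([T3_0].flatMap fun c => c.map fun s => s.2) L3 = true := by
  decide +kernel

def xw3 : List (List ℕ) := [[7,16,6,8,12,8,14,8,15,14,15,14,5],[0,13,15,5,6,0,3,0,14,2,13,16,13,18,4,4],[5,1,13,0,13,8,14,8,1,1,1,2,1,4],
  [5,15,14,1,3,3,0,2,0,8,4,8,0,2,1,5,7,4,12,16,0,2],[0,13,15,5,6,1,2,5,0,13,13,1,3,3,0,3,0,2,0,5,5]]

noncomputable def a3 (i : ℕ) : ℕ → ℕ := actW act (nthL [] xw3 i)

theorem r3_0 : ∀ j < 3, D3.relJ (eqB a3 [1,939,1177,136,16,2,0]) j = true :=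
  forall_lt_add (a := 0) (b := 3) (fun _ h => absurd h (Nat.not_lt_zero _)) (by decide +kernel)

theorem f3' : D3.relF (eqB a3 [1,939,1177,136,16,2,0]) = true := by decide +kernel

theorem o3 : D3.ordOK a3 [[0],[1],[2]] [0,1] 3906 11 = true := by decide +kernel

theorem sb3 : SBnd Spor.LyK.G 217000000 [] :=
  sbnd_of_act (isCanon_PtN 3906) (hy.words xw3) base D3 (by decide +kernel) r3_0 f3' Spor.LyK.card
    (by decide +kernel) (exists_PtN (by decide +kernel)) o3 (List.forall_mem_cons.2 ⟨hT3_0, List.forall_mem_nil _⟩) hL3 (by decide +kernel)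

def D5 : PcData := ⟨4, 6,
  [[5,5,5],[],[],[],[],[]],
  [[],[[1,2,3,3,3,4,4,5,5,5,5]],[[2,3,3,3,4],[2,5]],[[3,4,4,4,5,5],[3,5,5,5],[3,5,5]],[[4,5,5],[4,5],[4],[4]],
  [[5],[5],[5],[5],[5]]],
  [(6,[0],[0,1,1,1,1,2,2,2,3,3,3,4,5,5]),(6,[1],[1,1,1,5]),(6,[2],[2,2,2,5,5,5,5]),(6,[4],[4,4,4,5]),(6,[5],[5,
  5,5,5])]⟩

noncomputable def T5_0 : List ((ℕ × ℕ × List ℕ × List ℕ) × List (ℕ × ℕ)) := decTests
  [nat_lit 0x84249030007,nat_lit 0x5c05e01612a40652a72a80e92ab2ac7ad0ae2b03f1df2b734b407050011,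
  nat_lit 0x44d030004,nat_lit 0xf80fa015007050003,nat_lit 0xd7020004,nat_lit 0x180d0241e25204050005,
  nat_lit 0x84c030004,nat_lit 0x84042800e40d308050004,nat_lit 0x64c030004,nat_lit 0x9012803885306050004,
  nat_lit 0x86020004,nat_lit 0x2c0b80e71ac4c3344f347723ccb40505000b,nat_lit 0x184b6d030007,
  nat_lit 0xaa0ab00bf08040003,nat_lit 0xa010004,nat_lit 0xa80a9006f08040003,nat_lit 0x68d030004,
  nat_lit 0x7e03f4015108050003,nat_lit 0x88c030004,nat_lit 0xf80fa009307050003,nat_lit 0x40c030004,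
  nat_lit 0xb00b2006c0ed04f0b00f12720b307050009,nat_lit 0x96020004,nat_lit 0xb80ba014429005407050005,
  nat_lit 0x8cc030004,nat_lit 0x1c83980ad07040003,nat_lit 0x60c030004,nat_lit 0xcc0ce00ed0b11b20b307050006,
  nat_lit 0x87020004,nat_lit 0xf2079800d00eb07607b419e0b007884480e60740805000c,nat_lit 0xc4492030007,
  nat_lit 0x3c03e01632a80e92ac7ad06e1717b28f31340705000c,nat_lit 0x192254030008,
  nat_lit 0x53029c02240d806c40e805908050007,nat_lit 0x19325c030008,nat_lit 0xa00a2022b1f01b307405907050007,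
  nat_lit 0x97020004,nat_lit 0x1e40f30051c5200d408050005,nat_lit 0x1046db030007,
  nat_lit 0x480980b32ad1dcacbd98b406050008,nat_lit 0x144924030007,nat_lit 0x9809a016a2b30b407050005,
  nat_lit 0xc980e4030009,nat_lit 0x1740bb002a865626c13681bc36033119910cc1680990805000d]

theorem hT5_0 : relOK D5 29 546 T5_0 = true := by decide +kernel

noncomputable def L5 : LinCert := LinCert.dec []
  [nat_lit 0x6532c0508010003,nat_lit 0x2b8af00a08020003,nat_lit 0x348d300b08020003,nat_lit 0xe0e81405030003,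
  nat_lit 0x13402010003,nat_lit 0x2a05500e61501305907040006]
  []
  [nat_lit 0x1402030001,nat_lit 0x402010001,nat_lit 0x502010001,nat_lit 0xa02020001,nat_lit 0xb02020001,
  nat_lit 0xb0000a4000a00003f000030189c8189c00da86bd7ae004a600474404742299e6299e6802b700029000155001548003240002c000dc0006e8016400000e14010018,
  nat_lit 0x34000400026811850460018613e238005a0012c804b10d0c034304012c000090019200644003c8000c001b10001411020014,
  nat_lit 0x3302db05a00568a04000800108020823804708008000100014001800500d03000f,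
  nat_lit 0x4c0def06f4017fcbb5e00258012d0096429ba14dd4009c0007000050002400030004900130016810020012,
  nat_lit 0x2e811890460018623e238005a0012d004b20d0c034308012c0000a0019400648003d0000c001b10001810030012,
  nat_lit 0x130274704e8004434863600064000be4017c41de303bc64005b0001300012000240000c2000e4003c00000d0001012020013,
  nat_lit 0x4c1326132807a07c0e00330032003201bbe1bbc00198002c000f0006000f80e03000f,
  nat_lit 0xbc080178ef8004404064064400600620600a03000b,nat_lit 0x313b102c9ac0006405009040006,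
  nat_lit 0x2e0001e80a73105399017c50a314d001fe400f2800794023c5911e2c00098900045400154000aa0000c8000054000b50002d0004c900001814020015,
  nat_lit 0x164003040002,nat_lit 0x2ea146004030004,nat_lit 0x8a235004040003,nat_lit 0x1cf80c6d005040004,
  nat_lit 0xaa235004040003,nat_lit 0x16cab50140f201607030006]

theorem hL5 : linOK D5 29 ([T5_0].flatMap fun c => c.map fun s => s.2) L5 = true := by
  decide +kernel

def xw5 : List (List ℕ) := [[1,11,5,5,3,1,3,3,0,2,0,15,1,13,0],[12,12,13,13,13,16,16,13,4],[4,11,11],[12,12,13,13,15,14,5],[11,15,5],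
  [17],[5,5,0,0,12]]

noncomputable def a5 (i : ℕ) : ℕ → ℕ := actW act (nthL [] xw5 i)

theorem r5_0 : ∀ j < 6, D5.relJ (eqB a5 [1,939,1177,136,16,2,0]) j = true :=
  forall_lt_add (a := 0) (b := 6) (fun _ h => absurd h (Nat.not_lt_zero _)) (by decide +kernel)

theorem f5' : D5.relF (eqB a5 [1,939,1177,136,16,2,0]) = true := by decide +kernel

theorem o5 : D5.ordOK a5 [[0],[2],[0,1,1,1],[3,4,4],[2,4,4,4],[5]] [1171,2,14,135,1] 3906 27 = true := by decide +kernel

theorem sb5 : SBnd Spor.LyK.G 374976 [] :=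
  sbnd_of_act (isCanon_PtN 3906) (hy.words xw5) base D5 (by decide +kernel) r5_0 f5' Spor.LyK.card
    (by decide +kernel) (exists_PtN (by decide +kernel)) o5 (List.forall_mem_cons.2 ⟨hT5_0, List.forall_mem_nil _⟩) hL5 (by decide +kernel)

def xwc : List (List ℕ) := [[7,14,2,8,5,6,4,3,1,17,5],[14,5,6,4,3,0,7,7,13,16,17,5]]

theorem sb : SBnd Spor.LyK.G 1 [] :=
  ((((sb2.append sb3).append sb5).append
    (sbnd_of_cyclic (isCanon_PtN 3906) (hy.words xwc) base 0 7 0 (by norm_num) (b := 0) ⟨_, rfl, by decide⟩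
      (by decide +kernel) Spor.LyK.card (m := 837000000) (by decide +kernel))).append
    (sbnd_of_cyclic (isCanon_PtN 3906) (hy.words xwc) base 1 31 0 (by norm_num) (b := 0) ⟨_, rfl, by decide⟩
      (by decide +kernel) Spor.LyK.card (m := 189000000) (by decide +kernel))).of_eq (by decide +kernel) rfl

end Cfsg.Agent.Known.LyKT
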