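import Cfsg.Agent.Known.M11Tab
import Cfsg.Agent.Golay.Mathieu

/-! `Cfsg.Spor.M11` is isomorphic to its model (helper25): `equiv`. -/

namespace Cfsg.Agent.Known.M11T

open Cfsg.Agent.Comp Cfsg.Agent.Golay

def xs : List ℕ := [970499966350631336865513127433832480,715872302521680643580706198532491296,
  719923664328491199848526586197411872,232652365823391711183829569059784736,
  227578386318009578406903204956702752,970254902120350598020240965873371168,
  479623986318016222713448381946146848,980761875422008216500370354613917952]

theorem equiv : Nonempty (Cfsg.Spor.M11 ≃* M11P.G) := by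
  obtain ⟨x, -, hx⟩ := exists_actBy (isAct_point EG 5 31) (codes11 (L := 970499966350631336865513127433832480 :: xs) (by decide +kernel))
  exact mdl.equiv_of_actBy (isCanon_PtC EG) hx (nthL 0 [1,2,3,4,6,8,9,12,13,16,18])
    (fun i _ => exists_PtC EG (B := [nthL 0 [1,2,3,4,6,8,9,12,13,16,18] i]) (by revert i; decide +kernel) _ List.mem_cons_self)
    (by decide +kernel) (by decide +kernel) (by decide) card_M11

end Cfsg.Agent.Known.M11T
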