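import Cfsg.Agent.Known.M11Tab
import Cfsg.Agent.Known.Out

/-! The outer automorphism group of `M11P.G` (generated certificate, helper25). -/

set_option maxRecDepth 100000
set_option exponentiation.threshold 100000
set_option Elab.async false

namespace Cfsg.Agent.Known.M11O

open Cfsg.Agent.Comp

noncomputable def t8 : ℕ := (nat_lit 0x820493a7156)

theorem h8 : TabOf 11 4 t8 (Spor.ev (Spor.PP M11P.nets) [4,7,5])⁻¹ :=
  tabOf_of_chk (L := 4) M11P.ok _ (by decide +kernel)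

noncomputable def t9 : ℕ := (nat_lit 0x5734601a928)

theorem h9 : TabOf 11 4 t9 (Spor.ev (Spor.PP M11P.nets) [5,7])⁻¹ :=
  tabOf_of_chk (L := 4) M11P.ok _ (by decide +kernel)

noncomputable def tabs : List ℕ := [M11T.t0, M11T.t1, M11T.t2, M11T.t3, M11T.t4, M11T.t5, M11T.t6, M11T.t7, t8, t9]

def wds : List (List ℕ) := [[0],[1],[2],[3],[4],[5],[6],[7],[4,7,5],[5,7]]

noncomputable def y (i : ℕ) : M11P.G := (Spor.ev M11P.g (nthL [0] wds i))⁻¹

noncomputable def act (i : ℕ) : ℕ → ℕ := get2 4 (nthL M11T.t0 tabs i)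

theorem mdl : Mdl M11P.φ 11 8 7920 y act [3,2,1,0] :=
  mdl_of_tabs M11P.rep (actBy_tabs M11P.rep (.cons M11T.h0 (.cons M11T.h0 (.cons M11T.h1 (.cons M11T.h2 (.cons M11T.h3 (.cons M11T.h4 (.cons M11T.h5 (.cons M11T.h6 (.cons M11T.h7 (.cons h8 (.cons h9 (.nil)))))))))))) (by decide +kernel))
    M11T.base (by decide) M11P.card (by decide)

def cw : List ℕ := [5,0,6,3,7,3]

def vw : List ℕ := [3,5,1]

def hw : List ℕ := [2,5,6]

def v0w : List ℕ := [3,5,1]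

def rels : List (List ℕ) := [[2,1,1,1,1,0,0,1,1,1,1,2,1,1,1,1,0,0,1,1,1,1,2,1,1,1,1,0,0,1,1,1,1]]

noncomputable def pa0 : ℕ := (nat_lit 0x95840321760)

noncomputable def ea0 : ℕ := (nat_lit 0xa020120c46905c25010531180)

def wa0 : List (List ℕ) := [[4],[3],[2],[5],[1],[0],[7,6,7]]

noncomputable def La0 (e : ℕ) : Lv := ⟨6, 10, wa0, (get2 4 pa0), (get2 10 ea0), 1, e⟩

theorem ka0_0 : ∀ x < 10, (La0 0).chk act 11 x = true :=
  forall_lt_add (a := 0) (b := 10) (fun _ h => absurd h (Nat.not_lt_zero _)) (by decide +kernel)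

theorem oka0 (e : ℕ) : LvOk act 11 [0] (La0 e) :=
  show LvOk act 11 [0] (La0 0) from ⟨by decide +kernel, ka0_0⟩

noncomputable def pa1 : ℕ := (nat_lit 0x30710268540)

noncomputable def ea1 : ℕ := (nat_lit 0xc080d0421845a094170240)

def wa1 : List (List ℕ) := [[5],[0,6],[6,0],[0,6,5],[2,5,4],[5,6,0],[3,5,1]]

noncomputable def La1 (e : ℕ) : Lv := ⟨9, 9, wa1, (get2 4 pa1), (get2 10 ea1), 2, e⟩

theorem ka1_0 : ∀ x < 9, (La1 0).chk act 11 x = true :=
  forall_lt_add (a := 0) (b := 9) (fun _ h => absurd h (Nat.not_lt_zero _)) (by decide +kernel)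

theorem oka1 (e : ℕ) : LvOk act 11 [6,0] (La1 e) :=
  show LvOk act 11 [6,0] (La1 0) from ⟨by decide +kernel, ka1_0⟩

noncomputable def pa2 : ℕ := (nat_lit 0xc7c15220)

noncomputable def ea2 : ℕ := (nat_lit 0x815c341841a114030880)

def wa2 : List (List ℕ) := [[4,5,6,4],[2,7,1,5,6,7],[3,6,5,3],[7,6,5,2,7,1],[6,5,1,5,0],[1,5,3,2,6,0],[0,6,1,4,5,2]]

noncomputable def La2 (e : ℕ) : Lv := ⟨2, 8, wa2, (get2 3 pa2), (get2 10 ea2), 3, e⟩

theorem ka2_0 : ∀ x < 8, (La2 0).chk act 11 x = true :=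
  forall_lt_add (a := 0) (b := 8) (fun _ h => absurd h (Nat.not_lt_zero _)) (by decide +kernel)

theorem oka2 (e : ℕ) : LvOk act 11 [9,6,0] (La2 e) :=
  show LvOk act 11 [9,6,0] (La2 0) from ⟨by decide +kernel, ka2_0⟩

noncomputable def tra : ℕ := (nat_lit 0x20833744980)

noncomputable def nxa (z : ℕ) : List ℕ := force ((get2 4 tra) z) fun j => [j]

noncomputable def Cc : List Lv := [La0 1, La1 2, La2 3]

theorem sc_0 : ∀ x < 11, sieve act 8 4 0 nxa (testZ act [3,2,1,0] 8 11) Cc x = true :=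
  forall_lt_add (a := 0) (b := 11) (fun _ h => absurd h (Nat.not_lt_zero _)) (by decide +kernel)

theorem tpc (h : M11P.G) (hh : h * y 8 = y 8 ^ 1 * h) : ∃ acc, h = WW y acc ∧ (testZ act [3,2,1,0] 8 11) acc = true :=
  mdl.transp (o := 11) (Ls := Cc) (.cons (oka0 _) (.cons (oka1 _) (.cons (oka2 _) (.nil)))) (by decide +kernel) sc_0 hh

noncomputable def pb0 : ℕ := (nat_lit 0x54038271690)

noncomputable def eb0 : ℕ := (nat_lit 0x1058740483a1a457094430200)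

def wb0 : List (List ℕ) := [[4],[6,3],[3],[4,6],[2],[1],[0],[4,2]]

noncomputable def Lb0 (e : ℕ) : Lv := ⟨8, 10, wb0, (get2 4 pb0), (get2 10 eb0), 1, e⟩

theorem kb0_0 : ∀ x < 10, (Lb0 0).chk act 11 x = true :=
  forall_lt_add (a := 0) (b := 10) (fun _ h => absurd h (Nat.not_lt_zero _)) (by decide +kernel)

theorem okb0 (e : ℕ) : LvOk act 11 [0] (Lb0 e) :=
  show LvOk act 11 [0] (Lb0 0) from ⟨by decide +kernel, kb0_0⟩

noncomputable def pb1 : ℕ := (nat_lit 0x87043260150)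

noncomputable def eb1 : ℕ := (nat_lit 0x28390102115c46054020cc0)

def wb1 : List (List ℕ) := [[5,1],[1,6],[2,5],[6,2],[7,6,7],[1,1,6,0]]

noncomputable def Lb1 (e : ℕ) : Lv := ⟨3, 9, wb1, (get2 4 pb1), (get2 10 eb1), 2, e⟩

theorem kb1_0 : ∀ x < 9, (Lb1 0).chk act 11 x = true :=
  forall_lt_add (a := 0) (b := 9) (fun _ h => absurd h (Nat.not_lt_zero _)) (by decide +kernel)

theorem okb1 (e : ℕ) : LvOk act 11 [8,0] (Lb1 e) :=
  show LvOk act 11 [8,0] (Lb1 0) from ⟨by decide +kernel, kb1_0⟩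

noncomputable def pb2 : ℕ := (nat_lit 0x18fa9110)

noncomputable def eb2 : ℕ := (nat_lit 0x7058650c859004241280)

def wb2 : List (List ℕ) := [[1,6,5,1],[3,5,6,2,5],[2,5,6,2],[5,1,6,5,4],[5,6,5],[7,1,5,7,0],[0,7,5,2,7]]

noncomputable def Lb2 (e : ℕ) : Lv := ⟨10, 8, wb2, (get2 3 pb2), (get2 10 eb2), 3, e⟩

theorem kb2_0 : ∀ x < 8, (Lb2 0).chk act 11 x = true :=
  forall_lt_add (a := 0) (b := 8) (fun _ h => absurd h (Nat.not_lt_zero _)) (by decide +kernel)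

theorem okb2 (e : ℕ) : LvOk act 11 [3,8,0] (Lb2 e) :=
  show LvOk act 11 [3,8,0] (Lb2 0) from ⟨by decide +kernel, kb2_0⟩

noncomputable def trb : ℕ := (nat_lit 0x20833744980)

noncomputable def nxb (z : ℕ) : List ℕ := force ((get2 4 trb) z) fun j => [j]

noncomputable def Ct : List Lv := [Lb0 3, Lb1 1, Lb2 4, .triv 5 4 2]

theorem st_0 : ∀ x < 11, sieve act 9 4 0 nxb (testO act [3,2,1,0] cw vw v0w 9 1 0 [1,2] rels) Ct x = true :=
  forall_lt_add (a := 0) (b := 11) (fun _ h => absurd h (Nat.not_lt_zero _)) (by decide +kernel)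

theorem tpt (h : M11P.G) (hh : h * y 9 = y 9 ^ 2 * h) : ∃ acc, h = WW y acc ∧ (testO act [3,2,1,0] cw vw v0w 9 1 0 [1,2] rels) acc = true :=
  mdl.transp (o := 5) (Ls := Ct) (.cons (okb0 _) (.cons (okb1 _) (.cons (okb2 _) (.cons (.triv (by decide)) (.nil))))) (by decide +kernel) st_0 hh

theorem rel : relOk act 11 [3,2,1,0] cw vw hw 8 9 11 2 2 0 rels = true := by decide +kernel

theorem top : Subgroup.closure {W y cw, y 9, W y vw} = ⊤ :=
  mdl.top_of (us := [[5,0,6,3,7,3],[9],[3,5,1],[4,7,4,6,0,5],[7,5],[2,5,4]])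
    (defs := [[5,3,5,1,0,2,1,0,1],[5,4,0,0,4,2,0,4],[1,3,5,1,3,3,1,2],[0,0,0,5,0,1],[4,3,2,3,3,3],[2,2],[4,0,0,1,3,3,2,3,1,
  5,4,0,0,4,2,0,4],[4,2,2]])
    (by decide +kernel) (by decide +kernel) ⟨rfl, rfl, rfl⟩

theorem data : OutData (W y cw) (y 9) (W y vw) (W y v0w) 1 :=
  mdl.outData (by norm_num) rel (by decide +kernel) top (mdl.cent tpc) tpt

theorem out : Nat.card (Cfsg.Out M11P.G) = 1 := data.one

end Cfsg.Agent.Known.M11O
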