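import Cfsg.Agent.Known.M12Tab
import Cfsg.Agent.Golay.Mathieu

/-! `Cfsg.Spor.M12` is isomorphic to its model (helper25): `equiv`. -/

namespace Cfsg.Agent.Known.M12T

open Cfsg.Agent.Comp Cfsg.Agent.Golay

def xs : List ℕ := [232652365823391711183829569059784736,227578386318009578406903204956702752,
  608405391266436187982588441666881568,609271311764373893382231684089481248,
  486317894067777385906476470720956448,319555039706231678938341312928260128,
  310671514129840954554660569122705696,732994053121153821906287569190436905]

theorem equiv : Nonempty (Cfsg.Spor.M12 ≃* M12P.G) := by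
  obtain ⟨x, -, hx⟩ := exists_actBy (isAct_point EG 5 31) (codes12 (L := 232652365823391711183829569059784736 :: xs) (by decide +kernel))
  exact mdl.equiv_of_actBy (isCanon_PtC EG) hx (nthL 0 [0,1,2,3,4,6,8,9,12,13,16,18])
    (fun i _ => exists_PtC EG (B := [nthL 0 [0,1,2,3,4,6,8,9,12,13,16,18] i]) (by revert i; decide +kernel) _ List.mem_cons_self)
    (by decide +kernel) (by decide +kernel) (by decide) card_M12

end Cfsg.Agent.Known.M12T
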