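import Cfsg.Agent.Known.M12Tab
import Cfsg.Agent.Known.Out

/-! The outer automorphism group of `M12P.G` (generated certificate, helper25). -/

set_option maxRecDepth 100000
set_option exponentiation.threshold 100000
set_option Elab.async false

namespace Cfsg.Agent.Known.M12O

open Cfsg.Agent.Comp

noncomputable def t8 : ℕ := (nat_lit 0x452386b9a17)

theorem h8 : TabOf 12 4 t8 (Spor.ev (Spor.PP M12P.nets) [7,2])⁻¹ :=
  tabOf_of_chk (L := 4) M12P.ok _ (by decide +kernel)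

noncomputable def t9 : ℕ := (nat_lit 0x4563b27a9810)

theorem h9 : TabOf 12 4 t9 (Spor.ev (Spor.PP M12P.nets) [4,5])⁻¹ :=
  tabOf_of_chk (L := 4) M12P.ok _ (by decide +kernel)

noncomputable def tabs : List ℕ := [M12T.t0, M12T.t1, M12T.t2, M12T.t3, M12T.t4, M12T.t5, M12T.t6, M12T.t7, t8, t9]

def wds : List (List ℕ) := [[0],[1],[2],[3],[4],[5],[6],[7],[7,2],[4,5]]

noncomputable def y (i : ℕ) : M12P.G := (Spor.ev M12P.g (nthL [0] wds i))⁻¹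

noncomputable def act (i : ℕ) : ℕ → ℕ := get2 4 (nthL M12T.t0 tabs i)

theorem mdl : Mdl M12P.φ 12 8 95040 y act [4,3,2,1,0] :=
  mdl_of_tabs M12P.rep (actBy_tabs M12P.rep (.cons M12T.h0 (.cons M12T.h0 (.cons M12T.h1 (.cons M12T.h2 (.cons M12T.h3 (.cons M12T.h4 (.cons M12T.h5 (.cons M12T.h6 (.cons M12T.h7 (.cons h8 (.cons h9 (.nil)))))))))))) (by decide +kernel))
    M12T.base (by decide) M12P.card (by decide)

def cw : List ℕ := [3,4,0,5,1,6,1,3]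

def vw : List ℕ := [6,7,6,0,0,5,0]

def hw : List ℕ := [6,7,6,4]

def v0w : List ℕ := [6,7,6,0,0,5,0]

def rels : List (List ℕ) := [[2,2,1,0,0,1,2,2,1,1,1,1,0],[2,0,2,0,2,0,2,0,2,0,2,0]]

noncomputable def pa0 : ℕ := (nat_lit 0x654a03928710)

noncomputable def ea0 : ℕ := (nat_lit 0x204504c420ac3a024560504119c0)

def wa0 : List (List ℕ) := [[0],[1],[4,6],[2],[4],[3],[6]]

noncomputable def La0 (e : ℕ) : Lv := ⟨7, 11, wa0, (get2 4 pa0), (get2 10 ea0), 1, e⟩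

theorem ka0_0 : ∀ x < 11, (La0 0).chk act 12 x = true :=
  forall_lt_add (a := 0) (b := 11) (fun _ h => absurd h (Nat.not_lt_zero _)) (by decide +kernel)

theorem oka0 (e : ℕ) : LvOk act 12 [0] (La0 e) :=
  show LvOk act 12 [0] (La0 0) from ⟨by decide +kernel, ka0_0⟩

noncomputable def pa1 : ℕ := (nat_lit 0x763402190580)

noncomputable def ea1 : ℕ := (nat_lit 0x41842b0e842120790181514c0)

def wa1 : List (List ℕ) := [[1,2,4],[4,3,0],[6,2,6],[2,5],[5,3],[6,4,6],[0,5,1],[1,3,4,0]]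

noncomputable def La1 (e : ℕ) : Lv := ⟨3, 10, wa1, (get2 4 pa1), (get2 10 ea1), 2, e⟩

theorem ka1_0 : ∀ x < 10, (La1 0).chk act 12 x = true :=
  forall_lt_add (a := 0) (b := 10) (fun _ h => absurd h (Nat.not_lt_zero _)) (by decide +kernel)

theorem oka1 (e : ℕ) : LvOk act 12 [7,0] (La1 e) :=
  show LvOk act 12 [7,0] (La1 0) from ⟨by decide +kernel, ka1_0⟩

noncomputable def pa2 : ℕ := (nat_lit 0x210807650430)

noncomputable def ea2 : ℕ := (nat_lit 0x20160d4141484106c2a0240)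

def wa2 : List (List ℕ) := [[5,3],[2,6,3],[2,5],[6,1,6],[6,5,6],[0,5,1]]

noncomputable def La2 (e : ℕ) : Lv := ⟨9, 9, wa2, (get2 4 pa2), (get2 10 ea2), 3, e⟩

theorem ka2_0 : ∀ x < 9, (La2 0).chk act 12 x = true :=
  forall_lt_add (a := 0) (b := 9) (fun _ h => absurd h (Nat.not_lt_zero _)) (by decide +kernel)

theorem oka2 (e : ℕ) : LvOk act 12 [3,7,0] (La2 e) :=
  show LvOk act 12 [3,7,0] (La2 0) from ⟨by decide +kernel, ka2_0⟩

noncomputable def pa3 : ℕ := (nat_lit 0xd47103088)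

noncomputable def ea3 : ℕ := (nat_lit 0x81ac3a11814008510940)

def wa3 : List (List ℕ) := [[6,0,2,5,6],[6,1,6,2,5],[6,5,3,1,6],[5,3,6,0,6],[6,3,6,5,3],[2,5,6,2,6],[2,5,1,6,2,0]]

noncomputable def La3 (e : ℕ) : Lv := ⟨5, 8, wa3, (get2 3 pa3), (get2 10 ea3), 4, e⟩

theorem ka3_0 : ∀ x < 8, (La3 0).chk act 12 x = true :=
  forall_lt_add (a := 0) (b := 8) (fun _ h => absurd h (Nat.not_lt_zero _)) (by decide +kernel)

theorem oka3 (e : ℕ) : LvOk act 12 [9,3,7,0] (La3 e) :=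
  show LvOk act 12 [9,3,7,0] (La3 0) from ⟨by decide +kernel, ka3_0⟩

noncomputable def tra : ℕ := (nat_lit 0x803171944760)

noncomputable def nxa (z : ℕ) : List ℕ := force ((get2 4 tra) z) fun j => [j]

noncomputable def Cc : List Lv := [La0 1, La1 2, La2 3, La3 4]

theorem sc_0 : ∀ x < 12, sieve act 8 4 0 nxa (testZ act [4,3,2,1,0] 8 11) Cc x = true :=
  forall_lt_add (a := 0) (b := 12) (fun _ h => absurd h (Nat.not_lt_zero _)) (by decide +kernel)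

theorem tpc (h : M12P.G) (hh : h * y 8 = y 8 ^ 1 * h) : ∃ acc, h = WW y acc ∧ (testZ act [4,3,2,1,0] 8 11) acc = true :=
  mdl.transp (o := 11) (Ls := Cc) (.cons (oka0 _) (.cons (oka1 _) (.cons (oka2 _) (.cons (oka3 _) (.nil))))) (by decide +kernel) sc_0 hh

noncomputable def Cn : List Lv := [La0 6, La1 1, La2 7, La3 2, .triv 8 6 3]

theorem sn_0 : ∀ x < 12, sieve act 8 4 0 nxa (fun _ => false) Cn x = true :=
  forall_lt_add (a := 0) (b := 12) (fun _ h => absurd h (Nat.not_lt_zero _)) (by decide +kernel)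

theorem tpn (h : M12P.G) (hh : h * y 8 = y 8 ^ 2 * h) : ∃ acc, h = WW y acc ∧ (fun _ => false) acc = true :=
  mdl.transp (o := 11) (Ls := Cn) (.cons (oka0 _) (.cons (oka1 _) (.cons (oka2 _) (.cons (oka3 _) (.cons (.triv (by decide)) (.nil)))))) (by decide +kernel) sn_0 hh

noncomputable def pb0 : ℕ := (nat_lit 0xa08765403129)

noncomputable def eb0 : ℕ := (nat_lit 0x2c800244815c36054631c4220280)

def wb0 : List (List ℕ) := [[7],[2,7,6],[1,6,0],[2,0,5],[3,7,0],[4,0,3],[2,5,3],[2,1,4],[5,1,3]]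

noncomputable def Lb0 (e : ℕ) : Lv := ⟨10, 11, wb0, (get2 4 pb0), (get2 10 eb0), 1, e⟩

theorem kb0_0 : ∀ x < 11, (Lb0 0).chk act 12 x = true :=
  forall_lt_add (a := 0) (b := 11) (fun _ h => absurd h (Nat.not_lt_zero _)) (by decide +kernel)

theorem okb0 (e : ℕ) : LvOk act 12 [4] (Lb0 e) :=
  show LvOk act 12 [4] (Lb0 0) from ⟨by decide +kernel, kb0_0⟩

noncomputable def pb1 : ℕ := (nat_lit 0x907865004321)

noncomputable def eb1 : ℕ := (nat_lit 0xb020290dc5610c12004600940)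

def wb1 : List (List ℕ) := [[3,7,5,4],[2,7,3,6],[6,2,7,3],[7,5,4,3],[4,5,4,0],[1,4,5,4],[7,6,2,6]]

noncomputable def Lb1 (e : ℕ) : Lv := ⟨5, 10, wb1, (get2 4 pb1), (get2 10 eb1), 2, e⟩

theorem kb1_0 : ∀ x < 10, (Lb1 0).chk act 12 x = true :=
  forall_lt_add (a := 0) (b := 10) (fun _ h => absurd h (Nat.not_lt_zero _)) (by decide +kernel)

theorem okb1 (e : ℕ) : LvOk act 12 [10,4] (Lb1 e) :=
  show LvOk act 12 [10,4] (Lb1 0) from ⟨by decide +kernel, kb1_0⟩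

noncomputable def pb2 : ℕ := (nat_lit 0x205401007683)

noncomputable def eb2 : ℕ := (nat_lit 0x433088291203006c0609c0)

def wb2 : List (List ℕ) := [[4,0,6,3],[7,1,6,5,4],[2,6,1,4],[4,5,6,0,7],[2,7,6,7,2,4,5]]

noncomputable def Lb2 (e : ℕ) : Lv := ⟨7, 9, wb2, (get2 4 pb2), (get2 10 eb2), 3, e⟩

theorem kb2_0 : ∀ x < 9, (Lb2 0).chk act 12 x = true :=
  forall_lt_add (a := 0) (b := 9) (fun _ h => absurd h (Nat.not_lt_zero _)) (by decide +kernel)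

theorem okb2 (e : ℕ) : LvOk act 12 [5,10,4] (Lb2 e) :=
  show LvOk act 12 [5,10,4] (Lb2 0) from ⟨by decide +kernel, kb2_0⟩

noncomputable def pb3 : ℕ := (nat_lit 0x3d100cd1)

noncomputable def eb3 : ℕ := (nat_lit 0x918c580d812004400ac0)

def wb3 : List (List ℕ) := [[3,7,0,3,7,0,6,7,3],[6,7,3,5,4,7,2,1,4,6],[2,7,6,1,7,2,1,7,2],[6,4,0,3,7,4,5,2,7,6],[6,3,6,7,4,0,5,3,7],[2,6,
  1,5,6,0,7,2,6,1,4],[4,0,6,3,7,1,6,5,0,6,3]]

noncomputable def Lb3 (e : ℕ) : Lv := ⟨11, 8, wb3, (get2 3 pb3), (get2 10 eb3), 4, e⟩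

theorem kb3_0 : ∀ x < 8, (Lb3 0).chk act 12 x = true :=
  forall_lt_add (a := 0) (b := 8) (fun _ h => absurd h (Nat.not_lt_zero _)) (by decide +kernel)

theorem okb3 (e : ℕ) : LvOk act 12 [7,5,10,4] (Lb3 e) :=
  show LvOk act 12 [7,5,10,4] (Lb3 0) from ⟨by decide +kernel, kb3_0⟩

noncomputable def trb : ℕ := (nat_lit 0x2808e89b7)

noncomputable def nxb (z : ℕ) : List ℕ := force ((get2 3 trb) z) fun j => [j]

noncomputable def Ct : List Lv := [Lb0 1, Lb1 2, Lb2 3, Lb3 4]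

theorem st_0 : ∀ x < 12, sieve act 9 3 4 nxb (testO act [4,3,2,1,0] cw vw v0w 9 2 1 [1,2] rels) Ct x = true :=
  forall_lt_add (a := 0) (b := 12) (fun _ h => absurd h (Nat.not_lt_zero _)) (by decide +kernel)

theorem tpt (h : M12P.G) (hh : h * y 9 = y 9 ^ 1 * h) : ∃ acc, h = WW y acc ∧ (testO act [4,3,2,1,0] cw vw v0w 9 2 1 [1,2] rels) acc = true :=
  mdl.transp (o := 5) (Ls := Ct) (.cons (okb0 _) (.cons (okb1 _) (.cons (okb2 _) (.cons (okb3 _) (.nil))))) (by decide +kernel) st_0 hh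

theorem rel : relOk act 12 [4,3,2,1,0] cw vw hw 8 9 11 2 1 1 rels = true := by decide +kernel

theorem top : Subgroup.closure {W y cw, y 9, W y vw} = ⊤ :=
  mdl.top_of (us := [[3,4,0,5,1,6,1,3],[9],[6,7,6,0,0,5,0],[2,0,6,0,5,1,4,2],[5,4],[1,5,1,1,6,7,6]])
    (defs := [[3,3,5,0,5,0,2,0,4],[1,3,5,3,2,3,2,0,0],[5,0,4,5,0,5,0,4,2,0,5],[2,3,5,1,3,2,3,2,1,3,2],[1,3,5,0,5,0,2,3,5,0,
  5,3,4,0,5,0,4,2,0,5,3,2],[3,5,0,5,0,2,3,5,0,5,3,4,0,5,0,4,2,0,5,3,2],[3,3,4,3,3,5,0,5,0,2,0,4],[3,3,2,0,0,5,3,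
  2,3,2,0,4,5,0,2,3,5,1,3,2,3,1,0,2,3,2]])
    (by decide +kernel) (by decide +kernel) ⟨rfl, rfl, rfl⟩

theorem data : OutData (W y cw) (y 9) (W y vw) (W y v0w) 2 :=
  mdl.outData (by norm_num) rel (by decide +kernel) top (mdl.cent tpc) tpt

theorem top0 : Subgroup.closure {W y cw, y 9, W y v0w} = ⊤ :=
  mdl.top_of (us := [[3,4,0,5,1,6,1,3],[9],[6,7,6,0,0,5,0],[2,0,6,0,5,1,4,2],[5,4],[1,5,1,1,6,7,6]])
    (defs := [[3,3,5,0,5,0,2,0,4],[1,3,5,3,2,3,2,0,0],[5,0,4,5,0,5,0,4,2,0,5],[2,3,5,1,3,2,3,2,1,3,2],[1,3,5,0,5,0,2,3,5,0,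
  5,3,4,0,5,0,4,2,0,5,3,2],[3,5,0,5,0,2,3,5,0,5,3,4,0,5,0,4,2,0,5,3,2],[3,3,4,3,3,5,0,5,0,2,0,4],[3,3,2,0,0,5,3,
  2,3,2,0,4,5,0,2,3,5,1,3,2,3,1,0,2,3,2]])
    (by decide +kernel) (by decide +kernel) ⟨rfl, rfl, rfl⟩

def sw : List (List ℕ) := [[4,7,1,6,1,5,4,0,0],[1,1,4,5,0,6,0,7,4],[7,2,0,6,5,2,4,2],[3,4,3,5,6,1,3,7],[5],[1,3,5,0,4,0],[1,7,4,6,1,3,5,
  2,4,0],[7,4,5,0,0]]

theorem sr_0 : ∀ x < 19, allL [4,3,2,1,0] (fun b => Nat.beq (actW (fun i => actW act (nthL [] sw i)) (nthL [] M12P.rels x) b) b) = true :=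
  forall_lt_add (a := 0) (b := 19) (fun _ h => absurd h (Nat.not_lt_zero _)) (by decide +kernel)

theorem aut : ∃ σ : MulAut M12P.G, σ (W y cw) = W y cw ^ 2 ∧ σ (y 9) = y 9 ∧ σ (W y vw) = W y v0w :=
  mdl.exists_aut (M12P.lifts) (fun _ => rfl) sw sr_0 (mdl.rel_spec (by norm_num) rel).2.1 (by decide) top0
    (by decide +kernel)

theorem out : Nat.card (Cfsg.Out M12P.G) = 2 := data.two aut <|
  fun g h _ => absurd h (nonconj_conj (mdl.rel_spec (by norm_num) rel).2.2.2.1 (Mdl.nonconj tpn) g)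

end Cfsg.Agent.Known.M12O
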