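import Cfsg.Agent.Known.Bridge
import Cfsg.Agent.Known.P.M12

/-! Pointwise tables and a base for `M12P.G` in degree 12 (generated certificate, helper25): letters `y`,
action `act`, `hy`, `base`, `mdl`. -/

set_option maxRecDepth 100000
set_option exponentiation.threshold 100000

namespace Cfsg.Agent.Known.M12T

open Cfsg.Agent.Comp

noncomputable def t0 : ℕ := (nat_lit 0x874965ab3210)

theorem h0 : TabOf 12 4 t0 (Spor.ev (Spor.PP M12P.nets) [0])⁻¹ :=
  tabOf_of_chk (L := 4) M12P.ok _ (by decide +kernel)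

noncomputable def t1 : ℕ := (nat_lit 0x458ba7693210)

theorem h1 : TabOf 12 4 t1 (Spor.ev (Spor.PP M12P.nets) [1])⁻¹ :=
  tabOf_of_chk (L := 4) M12P.ok _ (by decide +kernel)

noncomputable def t2 : ℕ := (nat_lit 0x745a98b63210)

theorem h2 : TabOf 12 4 t2 (Spor.ev (Spor.PP M12P.nets) [2])⁻¹ :=
  tabOf_of_chk (L := 4) M12P.ok _ (by decide +kernel)

noncomputable def t3 : ℕ := (nat_lit 0x5876b49a3210)

theorem h3 : TabOf 12 4 t3 (Spor.ev (Spor.PP M12P.nets) [3])⁻¹ :=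
  tabOf_of_chk (L := 4) M12P.ok _ (by decide +kernel)

noncomputable def t4 : ℕ := (nat_lit 0xb53648a79210)

theorem h4 : TabOf 12 4 t4 (Spor.ev (Spor.PP M12P.nets) [4])⁻¹ :=
  tabOf_of_chk (L := 4) M12P.ok _ (by decide +kernel)

noncomputable def t5 : ℕ := (nat_lit 0x7a89b2453610)

theorem h5 : TabOf 12 4 t5 (Spor.ev (Spor.PP M12P.nets) [5])⁻¹ :=
  tabOf_of_chk (L := 4) M12P.ok _ (by decide +kernel)

noncomputable def t6 : ℕ := (nat_lit 0xba5618923470)

theorem h6 : TabOf 12 4 t6 (Spor.ev (Spor.PP M12P.nets) [6])⁻¹ :=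
  tabOf_of_chk (L := 4) M12P.ok _ (by decide +kernel)

noncomputable def t7 : ℕ := (nat_lit 0x62380b549a17)

theorem h7 : TabOf 12 4 t7 (Spor.ev (Spor.PP M12P.nets) [7])⁻¹ :=
  tabOf_of_chk (L := 4) M12P.ok _ (by decide +kernel)

noncomputable def tabs : List ℕ := [t0, t1, t2, t3, t4, t5, t6, t7]

def wds : List (List ℕ) := [[0],[1],[2],[3],[4],[5],[6],[7]]

noncomputable scoped instance inst : MulAction M12P.G ℕ := actOf M12P.φ

scoped instance fin : Finite M12P.G := Nat.finite_of_card_ne_zero (by rw [M12P.card]; decide)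

noncomputable def y (i : ℕ) : M12P.G := (Spor.ev M12P.g (nthL [0] wds i))⁻¹

noncomputable def act (i : ℕ) : ℕ → ℕ := get2 4 (nthL t0 tabs i)

theorem hy : ActBy y (PtN 12) act :=
  actBy_tabs M12P.rep (.cons h0 (.cons h0 (.cons h1 (.cons h2 (.cons h3 (.cons h4 (.cons h5 (.cons h6 (.cons h7 (.nil)))))))))) (by decide +kernel)

theorem f0 : FixLe M12P.G (PtN 12) [0] 12 :=
  FixLe.nil.stepW (isCanon_PtN _) hy 0 12 [[7],[1,6]] 12 ⟨_, rfl, by decide⟩ (by decide +kernel)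

theorem f1 : FixLe M12P.G (PtN 12) [1,0] 132 :=
  f0.stepW (isCanon_PtN _) hy 1 11 [[4,2,6]] 12 ⟨_, rfl, by decide⟩ (by decide +kernel)

theorem f2 : FixLe M12P.G (PtN 12) [2,1,0] 1320 :=
  f1.stepW (isCanon_PtN _) hy 2 10 [[5],[1,4]] 12 ⟨_, rfl, by decide⟩ (by decide +kernel)

theorem f3 : FixLe M12P.G (PtN 12) [3,2,1,0] 11880 :=
  f2.stepW (isCanon_PtN _) hy 3 9 [[4],[0]] 12 ⟨_, rfl, by decide⟩ (by decide +kernel)

theorem f4 : FixLe M12P.G (PtN 12) [4,3,2,1,0] 95040 :=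
  f3.stepW (isCanon_PtN _) hy 4 8 [[0],[3]] 12 ⟨_, rfl, by decide⟩ (by decide +kernel)

theorem base : IsBase M12P.G (PtN 12) [4,3,2,1,0] := f4.isBase M12P.card le_rfl

theorem mdl : Mdl M12P.φ 12 8 95040 y act [4,3,2,1,0] :=
  mdl_of_tabs M12P.rep hy base (by decide) M12P.card (by decide)

end Cfsg.Agent.Known.M12T
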