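import Cfsg.Agent.Known.M12Tab
import Cfsg.Agent.Known.Pack

/-! Upper bound for the Schur multiplier of `M12P.G` (generated certificate, helper25): `sb`. -/

set_option maxRecDepth 100000

namespace Cfsg.Agent.Known.M12T

open Cfsg.Agent.Comp

def D2 : PcData := ⟨1, 6,
  [[3,4],[4],[3,5],[5],[],[]],
  [[],[[1,3]],[[2,4,5],[2,3,4]],[[3,5],[3],[3]],[[4,5],[4],[4,5],[4]],[[5],[5],[5],[5],[5]]],
  [(6,[3],[0,1,3,5]),(6,[4],[0,2]),(7,[0,2],[0,1,2,5]),(7,[4],[5])]⟩

noncomputable def T2_0 : List ((ℕ × ℕ × List ℕ × List ℕ) × List (ℕ × ℕ)) := decTests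
  [nat_lit 0x20c030004,nat_lit 0x8a6d4f5403050004,nat_lit 0x80b030004,nat_lit 0xa64f727403050004,
  nat_lit 0x8cb030004,nat_lit 0x5202050001,nat_lit 0x8cc030004,nat_lit 0x8d5303050002,nat_lit 0x97020004,
  nat_lit 0x23ad03040002,nat_lit 0xa010004,nat_lit 0x8d2a9d402050004,nat_lit 0xacc030004,nat_lit 0x5d03040001,
  nat_lit 0x3a693030007,nat_lit 0x4a99bf85402050005,nat_lit 0xa0c030004,nat_lit 0xaa737403050003,
  nat_lit 0x32201030007,nat_lit 0x20e3c91a5cddd3e8f30205000a,nat_lit 0x95020004,nat_lit 0x2b02040001,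
  nat_lit 0xe6020004,nat_lit 0x245102050002,nat_lit 0x46020004,nat_lit 0x83484a4c4e4f539403050008,
  nat_lit 0x84b030004,nat_lit 0xa75003050002,nat_lit 0x88b030004,nat_lit 0xa85103050002,nat_lit 0xc8d030004,
  nat_lit 0xb103050001,nat_lit 0x85020004,nat_lit 0xa167694aad7303050006]

theorem hT2_0 : relOK D2 10 38 T2_0 = true := by decide +kernel

noncomputable def L2 : LinCert := LinCert.dec []
  [nat_lit 0x502010001,nat_lit 0xa02020001,nat_lit 0xb02020001,nat_lit 0x1402030001,nat_lit 0x1502030001,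
  nat_lit 0x402010001]
  [(nat_lit 0x1702030001, 2, nat_lit 0x46684a803010007)]
  [nat_lit 0x1502030001,nat_lit 0x402010001,nat_lit 0x502010001,nat_lit 0xa02020001,nat_lit 0xb02020001,
  nat_lit 0x1402030001,nat_lit 0x8090c86191824484009200c08080c0806020010,nat_lit 0x1602030001,
  nat_lit 0xd2428003050003,nat_lit 0xc090c8e19182c483809180c08080c080e06020011,
  nat_lit 0x8090c86191824483809180c08080c0806020010,nat_lit 0x5102050001,
  nat_lit 0x10246764281248904540c102061005020010,nat_lit 0xb9403030002,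
  nat_lit 0x1016d62120347050092814100c0c080c1406020011,nat_lit 0x138890308101204030007,nat_lit 0x232d03040002,
  nat_lit 0xb262a003050003,nat_lit 0x2902040001,nat_lit 0x1189a804030003,
  nat_lit 0x141510e23534388474153c101414101406020010]

theorem hL2 : linOK D2 10 ([T2_0].flatMap fun c => c.map fun s => s.2) L2 = true := by
  decide +kernel

def xw2 : List (List ℕ) := [[6,4,7,2,6,4,0],[4,7,1,5],[2,6,0,0,5,2,4],[1,6,3,5,1,4,2],[3,7,2,0,5,1,3,4,2],[6,3,5,2,4,2,0],[4,0,5,1,3,6,3,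
  4],[4,2,7,6,1,5,1,4,0,0]]

noncomputable def a2 (i : ℕ) : ℕ → ℕ := actW act (nthL [] xw2 i)

theorem r2_0 : ∀ j < 6, D2.relJ (eqB a2 [4,3,2,1,0]) j = true :=
  forall_lt_add (a := 0) (b := 6) (fun _ h => absurd h (Nat.not_lt_zero _)) (by decide +kernel)

theorem f2' : D2.relF (eqB a2 [4,3,2,1,0]) = true := by decide +kernel

theorem o2 : D2.ordOK a2 [[0],[2],[3],[0,1]] [0,2,1] 12 10 = true := by decide +kernel

theorem sb2 : SBnd M12P.G 1485 [2] :=
  sbnd_of_act (isCanon_PtN 12) (hy.words xw2) base D2 (by decide +kernel) r2_0 f2' M12P.card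
    (by decide +kernel) (exists_PtN (by decide +kernel)) o2 (List.forall_mem_cons.2 ⟨hT2_0, List.forall_mem_nil _⟩) hL2 (by decide +kernel)

def D3 : PcData := ⟨2, 3,
  [[],[],[]],
  [[],[[1,2]],[[2],[2]]],
  [(3,[0],[0,1,1,2]),(3,[2],[2,2]),(4,[1],[1]),(4,[2],[2,2])]⟩

noncomputable def T3_0 : List ((ℕ × ℕ × List ℕ × List ℕ) × List (ℕ × ℕ)) := decTests
  [nat_lit 0xe41020007,nat_lit 0xdcc04030002,nat_lit 0x22693030007,nat_lit 0x1c02030001,nat_lit 0xb010004,
  nat_lit 0x31cd503030003]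

theorem hT3_0 : relOK D3 7 21 T3_0 = true := by decide +kernel

noncomputable def L3 : LinCert := LinCert.dec []
  [nat_lit 0x402010001,nat_lit 0x502010001,nat_lit 0xa02020001]
  []
  [nat_lit 0x402010001,nat_lit 0x502010001,nat_lit 0xa02020001,nat_lit 0x3e004020002,nat_lit 0x1c02030001,
  nat_lit 0x3cdc8405010004]

theorem hL3 : linOK D3 7 ([T3_0].flatMap fun c => c.map fun s => s.2) L3 = true := by
  decide +kernel

def xw3 : List (List ℕ) := [[7,4,2,6,0,0,5,1,3,4,0,0],[1,4,2,5,0,6,1,7,0],[1,1,4,2,0,6,4,6,7,3],[4,6,3,5,0,0,4,2,0],[4,7,6,2,6,1,5,0,0,4,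
  0,0]]

noncomputable def a3 (i : ℕ) : ℕ → ℕ := actW act (nthL [] xw3 i)

theorem r3_0 : ∀ j < 3, D3.relJ (eqB a3 [4,3,2,1,0]) j = true :=
  forall_lt_add (a := 0) (b := 3) (fun _ h => absurd h (Nat.not_lt_zero _)) (by decide +kernel)

theorem f3' : D3.relF (eqB a3 [4,3,2,1,0]) = true := by decide +kernel

theorem o3 : D3.ordOK a3 [[0],[2],[0,1]] [3,0] 12 11 = true := by decide +kernel

theorem sb3 : SBnd M12P.G 3520 [] :=
  sbnd_of_act (isCanon_PtN 12) (hy.words xw3) base D3 (by decide +kernel) r3_0 f3' M12P.card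
    (by decide +kernel) (exists_PtN (by decide +kernel)) o3 (List.forall_mem_cons.2 ⟨hT3_0, List.forall_mem_nil _⟩) hL3 (by decide +kernel)

def xwc : List (List ℕ) := [[0,4,6],[4,6,0,7,3,4]]

theorem sb : SBnd M12P.G 1 [2] :=
  (((sb2.append sb3).append
    (sbnd_of_cyclic (isCanon_PtN 12) (hy.words xwc) base 0 5 0 (by norm_num) (b := 1) ⟨_, rfl, by decide⟩
      (by decide +kernel) M12P.card (m := 19008) (by decide +kernel))).append
    (sbnd_of_cyclic (isCanon_PtN 12) (hy.words xwc) base 1 11 0 (by norm_num) (b := 0) ⟨_, rfl, by decide⟩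
      (by decide +kernel) M12P.card (m := 8640) (by decide +kernel))).of_eq (by decide +kernel) rfl

end Cfsg.Agent.Known.M12T
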