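import Cfsg.Agent.Known.M22Tab
import Cfsg.Agent.Known.Out

/-! The outer automorphism group of `M22P.G` (generated certificate, helper25). -/

set_option maxRecDepth 100000
set_option exponentiation.threshold 100000
set_option Elab.async false

namespace Cfsg.Agent.Known.M22O

open Cfsg.Agent.Comp

noncomputable def t7 : ℕ := (nat_lit 0x528b8053b52a605701ccc8252af)

theorem h7 : TabOf 22 5 t7 (Spor.ev (Spor.PP M22P.nets) [5,2,6])⁻¹ :=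
  tabOf_of_chk (L := 5) M22P.ok _ (by decide +kernel)

noncomputable def t8 : ℕ := (nat_lit 0x1af38e538292229971a32a823820)

theorem h8 : TabOf 22 5 t8 (Spor.ev (Spor.PP M22P.nets) [3,4])⁻¹ :=
  tabOf_of_chk (L := 5) M22P.ok _ (by decide +kernel)

noncomputable def tabs : List ℕ := [M22T.t0, M22T.t1, M22T.t2, M22T.t3, M22T.t4, M22T.t5, M22T.t6, t7, t8]

def wds : List (List ℕ) := [[0],[1],[2],[3],[4],[5],[6],[5,2,6],[3,4]]

noncomputable def y (i : ℕ) : M22P.G := (Spor.ev M22P.g (nthL [0] wds i))⁻¹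

noncomputable def act (i : ℕ) : ℕ → ℕ := get2 5 (nthL M22T.t0 tabs i)

theorem mdl : Mdl M22P.φ 22 7 443520 y act [4,3,2,1,0] :=
  mdl_of_tabs M22P.rep (actBy_tabs M22P.rep (.cons M22T.h0 (.cons M22T.h0 (.cons M22T.h1 (.cons M22T.h2 (.cons M22T.h3 (.cons M22T.h4 (.cons M22T.h5 (.cons M22T.h6 (.cons h7 (.cons h8 (.nil))))))))))) (by decide +kernel))
    M22T.base (by decide) M22P.card (by decide)

def cw : List ℕ := [6,1,2,5,2,1,4,3,1,2]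

def vw : List ℕ := [5,0,2,6,2,1,5,2,4,1,2,0]

def hw : List ℕ := [0,6,2,0,5,3,1,4,2]

def v0w : List ℕ := [5,0,2,6,2,1,5,3,1,4,3,0,2,1]

def rels : List (List ℕ) := [[2,1,0,1,2,1,0,1,2,1,0,1,2,1,0,1,2,1,0,1]]

noncomputable def pa0 : ℕ := (nat_lit 0xb02358302d42725070d26693e20)

noncomputable def ea0 : ℕ := (nat_lit 0x18328230021d0610ab3e45c4c714d254124041c436a3cc880ac18e23c0)

def wa0 : List (List ℕ) := [[0,3],[5,0],[3,1],[1,5],[2],[4],[1],[0],[3],[4,0],[1,3],[3,0],[1,2],[4,1],[2,0],[0,3,1]]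

noncomputable def La0 (e : ℕ) : Lv := ⟨15, 21, wa0, (get2 5 pa0), (get2 11 ea0), 1, e⟩

theorem ka0_0 : ∀ x < 21, (La0 0).chk act 22 x = true :=
  forall_lt_add (a := 0) (b := 21) (fun _ h => absurd h (Nat.not_lt_zero _)) (by decide +kernel)

theorem oka0 (e : ℕ) : LvOk act 22 [0] (La0 e) :=
  show LvOk act 22 [0] (La0 0) from ⟨by decide +kernel, ka0_0⟩

noncomputable def pa1 : ℕ := (nat_lit 0x2322a844026083bdcd00c3361960)

noncomputable def ea1 : ℕ := (nat_lit 0x213412a2b4f504939080cc09b21dc530859621a6240330b100a09c0)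

def wa1 : List (List ℕ) := [[1,5],[5,0],[3,1,5,4,0],[4,2,4],[4,3,4],[4,5,4],[4,2,5,4],[2,1,2,3],[3,0,5,3],[3,2,4,3],[3,4,0,2],[3,5,1,3],
  [4,0,5,3,1],[2,0,5,1,2],[0,4,3,1,4],[4,0,3,4,1],[2,1,5,2,0]]

noncomputable def La1 (e : ℕ) : Lv := ⟨7, 20, wa1, (get2 5 pa1), (get2 11 ea1), 2, e⟩

theorem ka1_0 : ∀ x < 20, (La1 0).chk act 22 x = true :=
  forall_lt_add (a := 0) (b := 20) (fun _ h => absurd h (Nat.not_lt_zero _)) (by decide +kernel)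

theorem oka1 (e : ℕ) : LvOk act 22 [15,0] (La1 e) :=
  show LvOk act 22 [15,0] (La1 0) from ⟨by decide +kernel, ka1_0⟩

noncomputable def pa2 : ℕ := (nat_lit 0x24000000000)

noncomputable def ea2 : ℕ := (nat_lit 0x140660400)

def wa2 : List (List ℕ) := [[3,2,4,3],[3,4,2,3]]

noncomputable def La2 (e : ℕ) : Lv := ⟨16, 3, wa2, (get2 2 pa2), (get2 11 ea2), 6, e⟩

theorem ka2_0 : ∀ x < 3, (La2 0).chk act 22 x = true :=
  forall_lt_add (a := 0) (b := 3) (fun _ h => absurd h (Nat.not_lt_zero _)) (by decide +kernel)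

theorem oka2 (e : ℕ) : LvOk act 22 [7,15,0] (La2 e) :=
  show LvOk act 22 [7,15,0] (La2 0) from ⟨by decide +kernel, ka2_0⟩

noncomputable def pa3 : ℕ := (nat_lit 0xa00ed00cb5398207140f60)

noncomputable def ea3 : ℕ := (nat_lit 0x11d2322538b69b51d4424631211581103588804a00c0)

def wa3 : List (List ℕ) := [[2,5,3,5],[3,5,2,5,2],[4,2,5,3,5,4],[4,0,3,5,3,1],[3,5,2,3,5],[4,3,5,2,3,5,4],[1,5,0,2,5,4,0],[4,3,5,2,5,2,
  4],[3,1,5,0,2,4,0],[0,3,1,5,0,3,1],[3,4,3,1,3,5,3,0],[4,3,1,3,5,1,3,1],[3,4,2,5,3,5,4,3],[3,4,0,3,5,3,1,3],[0,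
  4,1,4,2,5,1,2,0]]

noncomputable def La3 (e : ℕ) : Lv := ⟨3, 16, wa3, (get2 4 pa3), (get2 11 ea3), 3, e⟩

theorem ka3_0 : ∀ x < 16, (La3 0).chk act 22 x = true :=
  forall_lt_add (a := 0) (b := 16) (fun _ h => absurd h (Nat.not_lt_zero _)) (by decide +kernel)

theorem oka3 (e : ℕ) : LvOk act 22 [16,7,15,0] (La3 e) :=
  show LvOk act 22 [16,7,15,0] (La3 0) from ⟨by decide +kernel, ka3_0⟩

noncomputable def tra : ℕ := (nat_lit 0x1573670052304854163850)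

noncomputable def nxa (z : ℕ) : List ℕ := force ((get2 4 tra) z) fun j => [j]

noncomputable def Cc : List Lv := [La0 1, La1 2, La2 6, La3 3]

theorem sc_0 : ∀ x < 22, sieve act 7 5 0 nxa (testZ act [4,3,2,1,0] 7 11) Cc x = true :=
  forall_lt_add (a := 0) (b := 22) (fun _ h => absurd h (Nat.not_lt_zero _)) (by decide +kernel)

theorem tpc (h : M22P.G) (hh : h * y 7 = y 7 ^ 1 * h) : ∃ acc, h = WW y acc ∧ (testZ act [4,3,2,1,0] 7 11) acc = true :=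
  mdl.transp (o := 11) (Ls := Cc) (.cons (oka0 _) (.cons (oka1 _) (.cons (oka2 _) (.cons (oka3 _) (.nil))))) (by decide +kernel) sc_0 hh

noncomputable def Cn : List Lv := [La0 6, La1 1, La2 3, La3 7, .triv 4 4 2]

theorem sn_0 : ∀ x < 22, sieve act 7 5 0 nxa (fun _ => false) Cn x = true :=
  forall_lt_add (a := 0) (b := 22) (fun _ h => absurd h (Nat.not_lt_zero _)) (by decide +kernel)

theorem tpn (h : M22P.G) (hh : h * y 7 = y 7 ^ 2 * h) : ∃ acc, h = WW y acc ∧ (fun _ => false) acc = true :=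
  mdl.transp (o := 11) (Ls := Cn) (.cons (oka0 _) (.cons (oka1 _) (.cons (oka2 _) (.cons (oka3 _) (.cons (.triv (by decide)) (.nil)))))) (by decide +kernel) sn_0 hh

noncomputable def pb0 : ℕ := (nat_lit 0xf74a6869cd1291945a80918830)

noncomputable def eb0 : ℕ := (nat_lit 0x20589f20981010a1d331e6a4b38060485408712d0d6328418e21421540)

def wb0 : List (List ℕ) := [[3,1,5,6],[3,2,4,6],[5],[3,5,3],[6,2,6],[0,4,1],[3,4,3],[6,3,6],[4,1,3],[3,0,4],[3,1,2,4],[2,4,3,1],[2,0,5,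
  1],[1,2,4,2],[1,4,6,0],[1,5,0,2],[6,0,3,1,6]]

noncomputable def Lb0 (e : ℕ) : Lv := ⟨21, 21, wb0, (get2 5 pb0), (get2 11 eb0), 1, e⟩

theorem kb0_0 : ∀ x < 21, (Lb0 0).chk act 22 x = true :=
  forall_lt_add (a := 0) (b := 21) (fun _ h => absurd h (Nat.not_lt_zero _)) (by decide +kernel)

theorem okb0 (e : ℕ) : LvOk act 22 [5] (Lb0 e) :=
  show LvOk act 22 [5] (Lb0 0) from ⟨by decide +kernel, kb0_0⟩

noncomputable def pb1 : ℕ := (nat_lit 0xe9b64c5a8098a0f03140478c41)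

noncomputable def eb1 : ℕ := (nat_lit 0x98310d6320d19141646c09788e298428648072cc190c10211c01340)

def wb1 : List (List ℕ) := [[0,6,1,6,1],[6,4,2,5,3],[0,6,0,6,1],[3,5,2,4,6],[5,4,1,3,5],[5,4,0,5,6],[5,3,0,4,5],[3,4,5,4,3],[4,2,5,3,6],
  [5,4,2,5,6],[6,3,5,2,4],[6,5,2,4,5],[0,6,2,6,1],[4,3,6,3,4]]

noncomputable def Lb1 (e : ℕ) : Lv := ⟨13, 20, wb1, (get2 5 pb1), (get2 11 eb1), 2, e⟩

theorem kb1_0 : ∀ x < 20, (Lb1 0).chk act 22 x = true :=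
  forall_lt_add (a := 0) (b := 20) (fun _ h => absurd h (Nat.not_lt_zero _)) (by decide +kernel)

theorem okb1 (e : ℕ) : LvOk act 22 [21,5] (Lb1 e) :=
  show LvOk act 22 [21,5] (Lb1 0) from ⟨by decide +kernel, kb1_0⟩

noncomputable def pb2 : ℕ := (nat_lit 0x8ae7c65042d03b009001f)

noncomputable def eb2 : ℕ := (nat_lit 0x1321143c0c3973288450588cf09c230140eb0021a40)

def wb2 : List (List ℕ) := [[4,3,4,5,4,5],[6,5,0,4,0,4,5],[0,4,1,3,6,5,0],[5,4,5,4,3,4],[5,4,1,4,1,5,6],[1,5,6,3,0,4,1],[4,5,3,6,3,5,4],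
  [6,5,3,6,3,5,6],[2,1,5,1,6,5,6,1],[2,3,4,3,6,0,4,1],[4,3,6,4,5,2,5,6],[6,5,0,3,5,3,5,2,4,6],[0,6,3,6,1,5,1,4,
  5,6]]

noncomputable def Lb2 (e : ℕ) : Lv := ⟨9, 16, wb2, (get2 4 pb2), (get2 11 eb2), 3, e⟩

theorem kb2_0 : ∀ x < 16, (Lb2 0).chk act 22 x = true :=
  forall_lt_add (a := 0) (b := 16) (fun _ h => absurd h (Nat.not_lt_zero _)) (by decide +kernel)

theorem okb2 (e : ℕ) : LvOk act 22 [13,21,5] (Lb2 e) :=
  show LvOk act 22 [13,21,5] (Lb2 0) from ⟨by decide +kernel, kb2_0⟩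

noncomputable def pb3 : ℕ := (nat_lit 0x9)

noncomputable def eb3 : ℕ := (nat_lit 0x41002c0)

def wb3 : List (List ℕ) := [[5,6,2,6,5,4,2,5,3,6],[6,3,5,2,4,5,6,2,6,5]]

noncomputable def Lb3 (e : ℕ) : Lv := ⟨11, 3, wb3, (get2 2 pb3), (get2 10 eb3), 4, e⟩

theorem kb3_0 : ∀ x < 3, (Lb3 0).chk act 22 x = true :=
  forall_lt_add (a := 0) (b := 3) (fun _ h => absurd h (Nat.not_lt_zero _)) (by decide +kernel)

theorem okb3 (e : ℕ) : LvOk act 22 [9,13,21,5] (Lb3 e) :=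
  show LvOk act 22 [9,13,21,5] (Lb3 0) from ⟨by decide +kernel, kb3_0⟩

noncomputable def trb : ℕ := (nat_lit 0x3573074152304254063856)

noncomputable def nxb (z : ℕ) : List ℕ := force ((get2 4 trb) z) fun j => [j]

noncomputable def Ct : List Lv := [Lb0 3, Lb1 1, Lb2 4, Lb3 2]

theorem st_0 : ∀ x < 22, sieve act 8 4 5 nxb (testO act [4,3,2,1,0] cw vw v0w 8 2 0 [1,2] rels) Ct x = true :=
  forall_lt_add (a := 0) (b := 22) (fun _ h => absurd h (Nat.not_lt_zero _)) (by decide +kernel)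

theorem tpt (h : M22P.G) (hh : h * y 8 = y 8 ^ 2 * h) : ∃ acc, h = WW y acc ∧ (testO act [4,3,2,1,0] cw vw v0w 8 2 0 [1,2] rels) acc = true :=
  mdl.transp (o := 5) (Ls := Ct) (.cons (okb0 _) (.cons (okb1 _) (.cons (okb2 _) (.cons (okb3 _) (.nil))))) (by decide +kernel) st_0 hh

theorem rel : relOk act 22 [4,3,2,1,0] cw vw hw 7 8 11 2 2 0 rels = true := by decide +kernel

theorem top : Subgroup.closure {W y cw, y 8, W y vw} = ⊤ :=
  mdl.top_of (us := [[6,1,2,5,2,1,4,3,1,2],[8],[5,0,2,6,2,1,5,2,4,1,2,0],[2,0,3,4,0,2,5,2,0,6],[4,3],[1,2,0,4,2,5,0,2,6,2,1,5]])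
    (defs := [[5,5,3,1,2,0,2,1,0,2,4],[1,5,3,4,5,3,5,4,0,2,2],[5,1,3,2,3,4,4,5,3,2,3,1,5,3,4,5,3,5,4,0,2,2],[1,5,5],[5,5],
  [5,3,1,2,3,5,0,5,4,4,0,5,4,3,3,5,3,2,0,2,1,3,4,5,5,1,5,3,4,5,3,5,4,0,2,2],[0,4,3,2,2,0,1,1,3,5,3,2,0,2,1,3,4,
  4]])
    (by decide +kernel) (by decide +kernel) ⟨rfl, rfl, rfl⟩

theorem data : OutData (W y cw) (y 8) (W y vw) (W y v0w) 2 :=
  mdl.outData (by norm_num) rel (by decide +kernel) top (mdl.cent tpc) tpt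

theorem top0 : Subgroup.closure {W y cw, y 8, W y v0w} = ⊤ :=
  mdl.top_of (us := [[6,1,2,5,2,1,4,3,1,2],[8],[5,0,2,6,2,1,5,3,1,4,3,0,2,1],[2,0,3,4,0,2,5,2,0,6],[4,3],[0,2,1,3,4,0,3,5,0,2,6,2,
  1,5]])
    (defs := [[5,4,3,3,5,0,5,0,0,5,5],[2,2,3,3,2,3,2,0,0,1,2],[3,3,5,0,2,4,3,2,0,4,5,3,5,4,3,3,5,0,5,0,0,5,5],[2,1,2],[4,2,
  1,2],[3,5,0,1,2,3,2,3,2,0,0,2,3,5,1,3,1,5,0,2,2,2,3,3,2,3,2,0,0,1,2],[0,5,0,4,5,3,2,0,2,4,3,2,0,0,2,2,1,3,3,2,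
  3,2,0,0,2,2,2,2,3,3,2,3,2,0,0,1,2]])
    (by decide +kernel) (by decide +kernel) ⟨rfl, rfl, rfl⟩

def sw : List (List ℕ) := [[1,3,4],[4,3,0],[4,3,4,2,0],[4],[4,3,4],[2,0,6,3,1,4,0,3,1],[5,2,0,4,0,3,0,2,0]]

theorem sr_0 : ∀ x < 23, allL [4,3,2,1,0] (fun b => Nat.beq (actW (fun i => actW act (nthL [] sw i)) (nthL [] M22P.rels x) b) b) = true :=
  forall_lt_add (a := 0) (b := 23) (fun _ h => absurd h (Nat.not_lt_zero _)) (by decide +kernel)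

theorem aut : ∃ σ : MulAut M22P.G, σ (W y cw) = W y cw ^ 2 ∧ σ (y 8) = y 8 ∧ σ (W y vw) = W y v0w :=
  mdl.exists_aut (M22P.lifts) (fun _ => rfl) sw sr_0 (mdl.rel_spec (by norm_num) rel).2.1 (by decide) top0
    (by decide +kernel)

theorem out : Nat.card (Cfsg.Out M22P.G) = 2 := data.two aut <|
  fun g h _ => absurd h (nonconj_conj (mdl.rel_spec (by norm_num) rel).2.2.2.1 (Mdl.nonconj tpn) g)

end Cfsg.Agent.Known.M22O
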