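import Cfsg.Agent.Known.Bridge
import Cfsg.Agent.Known.P.M22

/-! Pointwise tables and a base for `M22P.G` in degree 22 (generated certificate, helper25): letters `y`,
action `act`, `hy`, `base`, `mdl`. -/

set_option maxRecDepth 100000
set_option exponentiation.threshold 100000

namespace Cfsg.Agent.Known.M22T

open Cfsg.Agent.Comp

noncomputable def t0 : ℕ := (nat_lit 0x1e854ca46461534967a25cd18820)

theorem h0 : TabOf 22 5 t0 (Spor.ev (Spor.PP M22P.nets) [0])⁻¹ :=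
  tabOf_of_chk (L := 5) M22P.ok _ (by decide +kernel)

noncomputable def t1 : ℕ := (nat_lit 0x187929cda948f4ccd442e3018820)

theorem h1 : TabOf 22 5 t1 (Spor.ev (Spor.PP M22P.nets) [1])⁻¹ :=
  tabOf_of_chk (L := 5) M22P.ok _ (by decide +kernel)

noncomputable def t2 : ℕ := (nat_lit 0x153a39903c9b11d4c57a50458820)

theorem h2 : TabOf 22 5 t2 (Spor.ev (Spor.PP M22P.nets) [2])⁻¹ :=
  tabOf_of_chk (L := 5) M22P.ok _ (by decide +kernel)

noncomputable def t3 : ℕ := (nat_lit 0x1277c6509b1ae29aa3a296440820)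

theorem h3 : TabOf 22 5 t3 (Spor.ev (Spor.PP M22P.nets) [3])⁻¹ :=
  tabOf_of_chk (L := 5) M22P.ok _ (by decide +kernel)

noncomputable def t4 : ℕ := (nat_lit 0x1b3a222f81aa25a8b23b92323020)

theorem h4 : TabOf 22 5 t4 (Spor.ev (Spor.PP M22P.nets) [4])⁻¹ :=
  tabOf_of_chk (L := 5) M22P.ok _ (by decide +kernel)

noncomputable def t5 : ℕ := (nat_lit 0x3194e9061d2f589a8710a61aaa0)

theorem h5 : TabOf 22 5 t5 (Spor.ev (Spor.PP M22P.nets) [5])⁻¹ :=
  tabOf_of_chk (L := 5) M22P.ok _ (by decide +kernel)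

noncomputable def t6 : ℕ := (nat_lit 0x2b49bc08919a23a8705b8854b031)

theorem h6 : TabOf 22 5 t6 (Spor.ev (Spor.PP M22P.nets) [6])⁻¹ :=
  tabOf_of_chk (L := 5) M22P.ok _ (by decide +kernel)

noncomputable def tabs : List ℕ := [t0, t1, t2, t3, t4, t5, t6]

def wds : List (List ℕ) := [[0],[1],[2],[3],[4],[5],[6]]

noncomputable scoped instance inst : MulAction M22P.G ℕ := actOf M22P.φ

scoped instance fin : Finite M22P.G := Nat.finite_of_card_ne_zero (by rw [M22P.card]; decide)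

noncomputable def y (i : ℕ) : M22P.G := (Spor.ev M22P.g (nthL [0] wds i))⁻¹

noncomputable def act (i : ℕ) : ℕ → ℕ := get2 5 (nthL t0 tabs i)

theorem hy : ActBy y (PtN 22) act :=
  actBy_tabs M22P.rep (.cons h0 (.cons h0 (.cons h1 (.cons h2 (.cons h3 (.cons h4 (.cons h5 (.cons h6 (.nil))))))))) (by decide +kernel)

theorem f0 : FixLe M22P.G (PtN 22) [0] 22 :=
  FixLe.nil.stepW (isCanon_PtN _) hy 0 22 [[6],[2,5]] 22 ⟨_, rfl, by decide⟩ (by decide +kernel)

theorem f1 : FixLe M22P.G (PtN 22) [1,0] 462 :=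
  f0.stepW (isCanon_PtN _) hy 1 21 [[5],[0,4]] 22 ⟨_, rfl, by decide⟩ (by decide +kernel)

theorem f2 : FixLe M22P.G (PtN 22) [2,1,0] 9240 :=
  f1.stepW (isCanon_PtN _) hy 2 20 [[2,4],[1,3]] 22 ⟨_, rfl, by decide⟩ (by decide +kernel)

theorem f3 : FixLe M22P.G (PtN 22) [3,2,1,0] 147840 :=
  f2.stepW (isCanon_PtN _) hy 3 16 [[3],[2],[0]] 22 ⟨_, rfl, by decide⟩ (by decide +kernel)

theorem f4 : FixLe M22P.G (PtN 22) [4,3,2,1,0] 443520 :=
  f3.stepW (isCanon_PtN _) hy 4 3 [[0]] 22 ⟨_, rfl, by decide⟩ (by decide +kernel)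

theorem base : IsBase M22P.G (PtN 22) [4,3,2,1,0] := f4.isBase M22P.card le_rfl

theorem mdl : Mdl M22P.φ 22 7 443520 y act [4,3,2,1,0] :=
  mdl_of_tabs M22P.rep hy base (by decide) M22P.card (by decide)

end Cfsg.Agent.Known.M22T
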