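import Cfsg.Agent.Known.M22Tab
import Cfsg.Agent.Known.Pack

/-! Upper bound for the Schur multiplier of `M22P.G` (generated certificate, helper25): `sb`. -/

set_option maxRecDepth 100000

namespace Cfsg.Agent.Known.M22T

open Cfsg.Agent.Comp

def D2 : PcData := ⟨1, 7,
  [[3,6],[6],[5,6],[6],[],[],[]],
  [[],[[1,3]],[[2,4,6],[2,5]],[[3],[3,6],[3,5]],[[4,5],[4,5],[4,6],[4,6]],[[5,6],[5],[5],[5],[5]],[[6],[6],[6],
  [6],[6],[6]]],
  [(7,[3],[0,1,5]),(7,[5],[4,6]),(8,[3,4],[1,2,5]),(8,[6],[3,4,6])]⟩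

noncomputable def T2_0 : List ((ℕ × ℕ × List ℕ × List ℕ) × List (ℕ × ℕ)) := decTests
  [nat_lit 0xd0d030004,nat_lit 0xb303050001,nat_lit 0x96020004,nat_lit 0x845054579a03050005,nat_lit 0xe6020004,
  nat_lit 0x28d702050002,nat_lit 0xc4d030004,nat_lit 0xb003050001,nat_lit 0xc8d030004,nat_lit 0xb103050001,
  nat_lit 0xa4c030004,nat_lit 0xab737403050003,nat_lit 0x86020004,nat_lit 0x1235ed9fdbc5a02050007,
  nat_lit 0x20c030004,nat_lit 0x8a6d4f54599a03050006,nat_lit 0xa8c030004,nat_lit 0xac797b03050003,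
  nat_lit 0x68c030004,nat_lit 0x8c5357595b03050005,nat_lit 0xa0c030004,nat_lit 0xaa737403050003,
  nat_lit 0x44c030004,nat_lit 0x8b5054599a03050005,nat_lit 0x95020004,nat_lit 0x5602050001,nat_lit 0x8cb030004,
  nat_lit 0x5802050001,nat_lit 0x80b030004,nat_lit 0xa65503050002,nat_lit 0xa010004,nat_lit 0x235502050002,
  nat_lit 0xe0e030004,nat_lit 0xb503050001,nat_lit 0x85020004,nat_lit 0xa1676955787b03050006,
  nat_lit 0x44d030004,nat_lit 0x905a03050002,nat_lit 0xc0d030004,nat_lit 0xaf7a7b03050003,nat_lit 0xc6020004,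
  nat_lit 0xa36c6e4fb35577b97b03050009,nat_lit 0x46020004,nat_lit 0x83484a4e93545557595b0305000a,
  nat_lit 0x60e030004,nat_lit 0x7902050001,nat_lit 0x84b030004,nat_lit 0xa756787b03050004,nat_lit 0x88b030004,
  nat_lit 0xa8727457ba03050005,nat_lit 0x3a201030007,nat_lit 0x6ad7c2953e9d7b7a02050009,nat_lit 0x823223040007,
  nat_lit 0x67686b6c7152747658fa7b0305000b]

theorem hT2_0 : relOK D2 15 34 T2_0 = true := by decide +kernel

noncomputable def S2_0 : List ℕ :=
  [nat_lit 0x15d62d03040003,nat_lit 0x33a391f11c148340ea2a8f8520d8340e05e2e8ba2641a0b82e158040100409010018,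
  nat_lit 0xa8de42c03040004,
  nat_lit 0xbd11e00d491a4290174210ff5aea4c8d83b0f23f0388e11c270a3d8390722f45e0020050a01001a]

noncomputable def L2 : LinCert := LinCert.dec S2_0
  [nat_lit 0x502010001,nat_lit 0xa02020001,nat_lit 0xb02020001,nat_lit 0x402010001,nat_lit 0x1502030001,
  nat_lit 0x1702030001,nat_lit 0x2802040001]
  [(nat_lit 0x93802040002, 4, nat_lit 0x290d0c7149208208249240402000e)]
  [nat_lit 0xb02020001,nat_lit 0x402010001,nat_lit 0x502010001,nat_lit 0xa02020001,nat_lit 0x2d002030002,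
  nat_lit 0x1402030001,nat_lit 0x58c08003050003,nat_lit 0x1502030001,nat_lit 0x1602030001,
  nat_lit 0x28050c96a0e05268050140905687214852120902301c0e038018540901004007030019,
  nat_lit 0x164060384188484889506040404888882848484928181805030017,nat_lit 0x1681b8104116186184104140303000f,
  nat_lit 0x1585003030003,nat_lit 0x56961003030004,
  nat_lit 0xb04983404e387a8ec766961150743e1a9a4d213128947a990582407020018,
  nat_lit 0x153259834139981304c221561b84e138442208808040100504801004007030017,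
  nat_lit 0xdec83026640904840550d84c261010080101008050900402006030016,
  nat_lit 0x39dc03a151ae1685a269601f0581604e2689a088421085e4981204807030016,
  nat_lit 0x83e24220693a81a8350b82ea25c3586b0b82e05c0280a01403812c02805001a08030017,
  nat_lit 0x2f9081ce060c30c890e2430c181a1004030011,
  nat_lit 0x2e68884059a05050a16888585850a0a04080805130202005030017,nat_lit 0x78a0a003050003,
  nat_lit 0x5602050001,nat_lit 0x3bdc838159b016058261621f85a1684c26098080401005c4901004007030016,
  nat_lit 0x5702050001,nat_lit 0x43dc838149a0140502415a1d852148482409008040100544901004007030016,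
  nat_lit 0x31d8032121921284a209501a0481204220882088421084e4881204807030016,
  nat_lit 0x2d305a03a141a214852249581c0501404a2489208842108564981204807030017]

theorem hL2 : linOK D2 15 ([T2_0].flatMap fun c => c.map fun s => s.2) L2 = true := by
  decide +kernel

def xw2 : List (List ℕ) := [[1,3,4,3,4,5,4,1,6,2,0],[2,1,3,1,4,3,5,2,6,1,3],[6,2,0,5,2,3,4,2,1,3,0],[0,2,1,3,1,4,0,3,5,6,3],[0,6,0,5,1,3,
  4,3,1,2],[5,0,2,6,2,1,5,4,0,4,3,1,2],[4,2,6,2,0,5,4,1,2,3,1],[2,0,4,0,2,5,0,3,6,0],[0,2,6,0,5,1,3,4,1,3]]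

noncomputable def a2 (i : ℕ) : ℕ → ℕ := actW act (nthL [] xw2 i)

theorem r2_0 : ∀ j < 7, D2.relJ (eqB a2 [4,3,2,1,0]) j = true :=
  forall_lt_add (a := 0) (b := 7) (fun _ h => absurd h (Nat.not_lt_zero _)) (by decide +kernel)

theorem f2' : D2.relF (eqB a2 [4,3,2,1,0]) = true := by decide +kernel

theorem o2 : D2.ordOK a2 [[0],[1],[2],[4],[5],[6],[2,3]] [13,3,0] 22 18 = true := by decide +kernel

theorem sb2 : SBnd M22P.G 3465 [4] :=
  sbnd_of_act (isCanon_PtN 22) (hy.words xw2) base D2 (by decide +kernel) r2_0 f2' M22P.card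
    (by decide +kernel) (exists_PtN (by decide +kernel)) o2 (List.forall_mem_cons.2 ⟨hT2_0, List.forall_mem_nil _⟩) hL2 (by decide +kernel)

def D3 : PcData := ⟨2, 2,
  [[],[]],
  [[],[[1]]],
  []⟩

noncomputable def T3_0 : List ((ℕ × ℕ × List ℕ × List ℕ) × List (ℕ × ℕ)) := decTests
  [nat_lit 0xb010004,nat_lit 0xd03010001]

theorem hT3_0 : relOK D3 5 12 T3_0 = true := by decide +kernel

noncomputable def L3 : LinCert := LinCert.dec []
  [nat_lit 0x402010001,nat_lit 0xa02020001]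
  [(nat_lit 0x502010001, 3, nat_lit 0x402010001)]
  [nat_lit 0x402010001,nat_lit 0xa02020001,nat_lit 0x502010001]

theorem hL3 : linOK D3 5 ([T3_0].flatMap fun c => c.map fun s => s.2) L3 = true := by
  decide +kernel

def xw3 : List (List ℕ) := [[4,3,5,4,0,3,0,2],[4,3,5,1,4,2,0,3,1]]

noncomputable def a3 (i : ℕ) : ℕ → ℕ := actW act (nthL [] xw3 i)

theorem r3_0 : ∀ j < 2, D3.relJ (eqB a3 [4,3,2,1,0]) j = true :=
  forall_lt_add (a := 0) (b := 2) (fun _ h => absurd h (Nat.not_lt_zero _)) (by decide +kernel)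

theorem f3' : D3.relF (eqB a3 [4,3,2,1,0]) = true := by decide +kernel

theorem o3 : D3.ordOK a3 [[0],[0,1,1]] [1,2] 22 5 = true := by decide +kernel

theorem sb3 : SBnd M22P.G 49280 [3] :=
  sbnd_of_act (isCanon_PtN 22) (hy.words xw3) base D3 (by decide +kernel) r3_0 f3' M22P.card
    (by decide +kernel) (exists_PtN (by decide +kernel)) o3 (List.forall_mem_cons.2 ⟨hT3_0, List.forall_mem_nil _⟩) hL3 (by decide +kernel)

def xwc : List (List ℕ) := [[4,5,2,3,0],[3,4,2,5,4],[0,3,0,2,5,2,6]]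

theorem sb : SBnd M22P.G 1 [4,3] :=
  ((((sb2.append sb3).append
    (sbnd_of_cyclic (isCanon_PtN 22) (hy.words xwc) base 0 5 0 (by norm_num) (b := 1) ⟨_, rfl, by decide⟩
      (by decide +kernel) M22P.card (m := 88704) (by decide +kernel))).append
    (sbnd_of_cyclic (isCanon_PtN 22) (hy.words xwc) base 1 7 0 (by norm_num) (b := 1) ⟨_, rfl, by decide⟩
      (by decide +kernel) M22P.card (m := 63360) (by decide +kernel))).append
    (sbnd_of_cyclic (isCanon_PtN 22) (hy.words xwc) base 2 11 0 (by norm_num) (b := 0) ⟨_, rfl, by decide⟩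
      (by decide +kernel) M22P.card (m := 40320) (by decide +kernel))).of_eq (by decide +kernel) rfl

end Cfsg.Agent.Known.M22T
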