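import Cfsg.Agent.Known.M23Tab
import Cfsg.Agent.Golay.Mathieu

/-! `Cfsg.Spor.M23` is isomorphic to its model (helper25): `equiv`. -/

namespace Cfsg.Agent.Known.M23T

open Cfsg.Agent.Comp Cfsg.Agent.Golay

def xs : List ℕ := [972606645568131968584696805283956768,976531636853126291160407323722221600,
  970499966350631336865513127433832480,966182099583441531322624363496310816,
  974293771124865464307651592446085152,966397621084152595608325226481453088,
  984799016615329826603595760505294880,966644684235801628085642631091160128,
  967943269804141498281767224331311105]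

theorem equiv : Nonempty (Cfsg.Spor.M23 ≃* M23P.G) := by
  obtain ⟨x, -, hx⟩ := exists_actBy (isAct_point EG 5 31) (codes23 (L := 972606645568131968584696805283956768 :: xs) (by decide +kernel))
  exact mdl.equiv_of_actBy (isCanon_PtC EG) hx (nthL 0 [0,1,2,3,4,5,6,7,8,9,10,11,12,13,14,15,16,17,18,19,20,21,22])
    (fun i _ => exists_PtC EG (B := [nthL 0 [0,1,2,3,4,5,6,7,8,9,10,11,12,13,14,15,16,17,18,19,20,21,22] i]) (by revert i; decide +kernel) _ List.mem_cons_self)
    (by decide +kernel) (by decide +kernel) (by decide) card_M23

end Cfsg.Agent.Known.M23T
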