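import Cfsg.Agent.Known.M23Tab
import Cfsg.Agent.Known.Out

/-! The outer automorphism group of `M23P.G` (generated certificate, helper25). -/

set_option maxRecDepth 100000
set_option exponentiation.threshold 100000
set_option Elab.async false

namespace Cfsg.Agent.Known.M23O

open Cfsg.Agent.Comp

noncomputable def t9 : ℕ := (nat_lit 0x55ec8c0ae5d8871a0499b4caa0241)

theorem h9 : TabOf 23 5 t9 (Spor.ev (Spor.PP M23P.nets) [0,8,3,7])⁻¹ :=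
  tabOf_of_chk (L := 5) M23P.ok _ (by decide +kernel)

noncomputable def t10 : ℕ := (nat_lit 0x468f8150c1592d748733aaa0590c1)

theorem h10 : TabOf 23 5 t10 (Spor.ev (Spor.PP M23P.nets) [8,2,7,6])⁻¹ :=
  tabOf_of_chk (L := 5) M23P.ok _ (by decide +kernel)

noncomputable def tabs : List ℕ := [M23T.t0, M23T.t1, M23T.t2, M23T.t3, M23T.t4, M23T.t5, M23T.t6, M23T.t7, M23T.t8, t9, t10]

def wds : List (List ℕ) := [[0],[1],[2],[3],[4],[5],[6],[7],[8],[0,8,3,7],[8,2,7,6]]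

noncomputable def y (i : ℕ) : M23P.G := (Spor.ev M23P.g (nthL [0] wds i))⁻¹

noncomputable def act (i : ℕ) : ℕ → ℕ := get2 5 (nthL M23T.t0 tabs i)

theorem mdl : Mdl M23P.φ 23 9 10200960 y act [5,4,3,2,1,0] :=
  mdl_of_tabs M23P.rep (actBy_tabs M23P.rep (.cons M23T.h0 (.cons M23T.h0 (.cons M23T.h1 (.cons M23T.h2 (.cons M23T.h3 (.cons M23T.h4 (.cons M23T.h5 (.cons M23T.h6 (.cons M23T.h7 (.cons M23T.h8 (.cons h9 (.cons h10 (.nil))))))))))))) (by decide +kernel))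
    M23T.base (by decide) M23P.card (by decide)

def cw : List ℕ := [8,7,5,2,8,7,4,3,6,3,2,5,2,0]

def vw : List ℕ := [1,4,2,3,6,2,3,7]

def hw : List ℕ := [1,3,0,2,5,3,8,0,7,8,4]

def v0w : List ℕ := [1,4,2,3,6,2,3,7]

def rels : List (List ℕ) := [[2,1,1,0,1,2,1,1,0,1,2,1,1,0,1,2,1,1,0,1,2,1,1,0,1]]

noncomputable def pa0 : ℕ := (nat_lit 0x5554696698c90481dee3316218400)

noncomputable def ea0 : ℕ := (nat_lit 0x2c6501886e1de22d04a08466718f29b52e01b415127224530018a40843040)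

def wa0 : List (List ℕ) := [[6,7],[4,3],[7,6],[3,5],[1],[5],[7],[0],[2,4],[2,1],[6,3],[3,4],[2,0],[8,0,8],[3,6,7],[6,3,0],[8,5,2,8],[8,2,
  8,7]]

noncomputable def La0 (e : ℕ) : Lv := ⟨1, 22, wa0, (get2 5 pa0), (get2 11 ea0), 1, e⟩

theorem ka0_0 : ∀ x < 22, (La0 0).chk act 23 x = true :=
  forall_lt_add (a := 0) (b := 22) (fun _ h => absurd h (Nat.not_lt_zero _)) (by decide +kernel)

theorem oka0 (e : ℕ) : LvOk act 23 [0] (La0 e) :=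
  show LvOk act 23 [0] (La0 0) from ⟨by decide +kernel, ka0_0⟩

noncomputable def pa1 : ℕ := (nat_lit 0x34cc582252506a4a20f989c13c800)

noncomputable def ea1 : ℕ := (nat_lit 0x38a39423a20a42404502c6d08996c1964a8719950200bc368461082c80)

def wa1 : List (List ℕ) := [[4],[5],[2],[1],[0],[3],[3,4],[4,3],[4,2],[5,3],[2,4],[1,2],[3,5],[2,0],[0,6]]

noncomputable def La1 (e : ℕ) : Lv := ⟨18, 21, wa1, (get2 5 pa1), (get2 11 ea1), 2, e⟩

theorem ka1_0 : ∀ x < 21, (La1 0).chk act 23 x = true :=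
  forall_lt_add (a := 0) (b := 21) (fun _ h => absurd h (Nat.not_lt_zero _)) (by decide +kernel)

theorem oka1 (e : ℕ) : LvOk act 23 [1,0] (La1 e) :=
  show LvOk act 23 [1,0] (La1 0) from ⟨by decide +kernel, ka1_0⟩

noncomputable def pa2 : ℕ := (nat_lit 0x24ac40160390d11a84d0ba0f9c800)

noncomputable def ea2 : ℕ := (nat_lit 0x19421d829432046110250d89ca32c44c6792d2ea138058a904e1c00)

def wa2 : List (List ℕ) := [[2,6,4],[1,3,6],[5,6,2],[6,3,0],[0,6],[4,6,5],[8,0,8,2],[8,5,2,8],[2,8,1,8],[8,5,6,8],[8,1,4,8],[5,3,4,6],[7,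
  1,7,3,4],[3,5,5,3,5],[5,3,7,0,7]]

noncomputable def La2 (e : ℕ) : Lv := ⟨16, 20, wa2, (get2 5 pa2), (get2 11 ea2), 3, e⟩

theorem ka2_0 : ∀ x < 20, (La2 0).chk act 23 x = true :=
  forall_lt_add (a := 0) (b := 20) (fun _ h => absurd h (Nat.not_lt_zero _)) (by decide +kernel)

theorem oka2 (e : ℕ) : LvOk act 23 [18,1,0] (La2 e) :=
  show LvOk act 23 [18,1,0] (La2 0) from ⟨by decide +kernel, ka2_0⟩

noncomputable def pa3 : ℕ := (nat_lit 0x84000)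

noncomputable def ea3 : ℕ := (nat_lit 0x241700c0)

def wa3 : List (List ℕ) := [[2,1,3,5,2],[2,4,3,0,2]]

noncomputable def La3 (e : ℕ) : Lv := ⟨3, 3, wa3, (get2 2 pa3), (get2 10 ea3), 9, e⟩

theorem ka3_0 : ∀ x < 3, (La3 0).chk act 23 x = true :=
  forall_lt_add (a := 0) (b := 3) (fun _ h => absurd h (Nat.not_lt_zero _)) (by decide +kernel)

theorem oka3 (e : ℕ) : LvOk act 23 [16,18,1,0] (La3 e) :=
  show LvOk act 23 [16,18,1,0] (La3 0) from ⟨by decide +kernel, ka3_0⟩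

noncomputable def pa4 : ℕ := (nat_lit 0x62ea0d0905c1f0403b80700)

noncomputable def ea4 : ℕ := (nat_lit 0x51d43225b0d29531de490611160da220530550560380)

def wa4 : List (List ℕ) := [[0,6],[2,1,6,2],[3,6,2,6,3],[3,6,3,6,3],[6,3,6,3,1],[6,5,5,6,4],[3,6,3,2,6,3],[8,5,8,5,5,3],[8,5,6,1,2,8],[4,
  8,3,2,4,8],[5,6,2,8,3,8,5],[8,1,8,3,4,4,2],[2,1,6,3,6,3,2],[8,5,2,8,2,6,4],[8,1,2,8,5,3,5,2]]

noncomputable def La4 (e : ℕ) : Lv := ⟨14, 16, wa4, (get2 4 pa4), (get2 11 ea4), 4, e⟩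

theorem ka4_0 : ∀ x < 16, (La4 0).chk act 23 x = true :=
  forall_lt_add (a := 0) (b := 16) (fun _ h => absurd h (Nat.not_lt_zero _)) (by decide +kernel)

theorem oka4 (e : ℕ) : LvOk act 23 [3,16,18,1,0] (La4 e) :=
  show LvOk act 23 [3,16,18,1,0] (La4 0) from ⟨by decide +kernel, ka4_0⟩

noncomputable def tra : ℕ := (nat_lit 0x814735aa4925190089a5980)

noncomputable def nxa (z : ℕ) : List ℕ := force ((get2 4 tra) z) fun j => [j]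

noncomputable def Cc : List Lv := [La0 1, La1 2, La2 3, La3 9, La4 4]

theorem sc_0 : ∀ x < 23, sieve act 9 4 0 nxa (testZ act [5,4,3,2,1,0] 9 23) Cc x = true :=
  forall_lt_add (a := 0) (b := 23) (fun _ h => absurd h (Nat.not_lt_zero _)) (by decide +kernel)

theorem tpc (h : M23P.G) (hh : h * y 9 = y 9 ^ 1 * h) : ∃ acc, h = WW y acc ∧ (testZ act [5,4,3,2,1,0] 9 23) acc = true :=
  mdl.transp (o := 23) (Ls := Cc) (.cons (oka0 _) (.cons (oka1 _) (.cons (oka2 _) (.cons (oka3 _) (.cons (oka4 _) (.nil)))))) (by decide +kernel) sc_0 hh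

noncomputable def pb0 : ℕ := (nat_lit 0x15a41d0415250c04e27848cf02dd5)

noncomputable def eb0 : ℕ := (nat_lit 0xc87510625229c122010ea7b0e11af1dc5348416532c350098511202ac0)

def wb0 : List (List ℕ) := [[1],[7,4,8,5],[0],[4,8,5,7],[6],[3],[2],[0,2],[3,0],[2,1],[0,6],[2,3],[1,6],[4,8,5],[2,1,3],[2,3,0],[4,8,5,
  6]]

noncomputable def Lb0 (e : ℕ) : Lv := ⟨11, 22, wb0, (get2 5 pb0), (get2 11 eb0), 1, e⟩

theorem kb0_0 : ∀ x < 22, (Lb0 0).chk act 23 x = true :=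
  forall_lt_add (a := 0) (b := 22) (fun _ h => absurd h (Nat.not_lt_zero _)) (by decide +kernel)

theorem okb0 (e : ℕ) : LvOk act 23 [3] (Lb0 e) :=
  show LvOk act 23 [3] (Lb0 0) from ⟨by decide +kernel, kb0_0⟩

noncomputable def pb1 : ℕ := (nat_lit 0x28ef61825181a9039022457004a74)

noncomputable def eb1 : ℕ := (nat_lit 0xf09c230c5104a08a01a2cc029b60985a41a8d226041c778681620380)

def wb1 : List (List ℕ) := [[3,7],[6,4,3,8,4],[5,8,3,5,6],[2,6,2],[1,7,0],[6,3,6],[3,6,0,2],[2,1,6,3],[8,3,7,8],[6,2,3,6],[6,2,1,7,6],[1,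
  6,3,6,0],[2,6,4,8,5,2],[8,1,8,3,0,4],[1,7,6,7,0,6,1],[6,3,8,3,7,8,3,6]]

noncomputable def Lb1 (e : ℕ) : Lv := ⟨14, 21, wb1, (get2 5 pb1), (get2 11 eb1), 2, e⟩

theorem kb1_0 : ∀ x < 21, (Lb1 0).chk act 23 x = true :=
  forall_lt_add (a := 0) (b := 21) (fun _ h => absurd h (Nat.not_lt_zero _)) (by decide +kernel)

theorem okb1 (e : ℕ) : LvOk act 23 [11,3] (Lb1 e) :=
  show LvOk act 23 [11,3] (Lb1 0) from ⟨by decide +kernel, kb1_0⟩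

noncomputable def pb2 : ℕ := (nat_lit 0x18e84d2b50105010716845201ccf)

noncomputable def eb2 : ℕ := (nat_lit 0x916435004c2001438e7d4a818f2e24b471021218228548c50cc1580)

def wb2 : List (List ℕ) := [[8,1,7,0,8],[6,0,7,4,8,5,0],[1,7,0],[6,2,1,7,6],[2,6,4,8,5,2],[3,5,1,8,0,4],[4,8,6,3,6,5],[7,3,6,3,7,0,6],[6,
  1,7,3,6,3,7],[1,7,6,7,0,6,1],[7,5,1,8,0,4,3,7],[7,3,8,3,0,6,3,8],[7,1,8,5,5,6,8,2],[3,6,7,0,2,6,2,3],[0,7,5,1,
  8,0,4,7,1],[6,7,5,1,8,0,4,7,6]]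

noncomputable def Lb2 (e : ℕ) : Lv := ⟨22, 20, wb2, (get2 5 pb2), (get2 11 eb2), 3, e⟩

theorem kb2_0 : ∀ x < 20, (Lb2 0).chk act 23 x = true :=
  forall_lt_add (a := 0) (b := 20) (fun _ h => absurd h (Nat.not_lt_zero _)) (by decide +kernel)

theorem okb2 (e : ℕ) : LvOk act 23 [14,11,3] (Lb2 e) :=
  show LvOk act 23 [14,11,3] (Lb2 0) from ⟨by decide +kernel, kb2_0⟩

noncomputable def pb3 : ℕ := (nat_lit 0x2000000004)

noncomputable def eb3 : ℕ := (nat_lit 0x120420340)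

def wb3 : List (List ℕ) := [[3,2,6,2,1,7,6,3],[3,6,7,0,2,6,2,3]]

noncomputable def Lb3 (e : ℕ) : Lv := ⟨13, 3, wb3, (get2 2 pb3), (get2 11 eb3), 9, e⟩

theorem kb3_0 : ∀ x < 3, (Lb3 0).chk act 23 x = true :=
  forall_lt_add (a := 0) (b := 3) (fun _ h => absurd h (Nat.not_lt_zero _)) (by decide +kernel)

theorem okb3 (e : ℕ) : LvOk act 23 [22,14,11,3] (Lb3 e) :=
  show LvOk act 23 [22,14,11,3] (Lb3 0) from ⟨by decide +kernel, kb3_0⟩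

noncomputable def pb4 : ℕ := (nat_lit 0x136008d00c07b2a5940f0e)

noncomputable def eb4 : ℕ := (nat_lit 0x11a039e530b492720a640650f310c1905a0280aa0440)

def wb4 : List (List ℕ) := [[8,1,7,0,8],[2,8,1,7,0,8,2],[8,6,2,1,7,6,8],[0,2,8,3,7,8,2,1],[6,3,8,3,7,8,3,6],[6,2,8,3,7,8,2,6],[2,8,6,2,1,
  7,6,8,2],[8,6,1,1,7,6,7,0,8],[8,3,6,1,3,7,0,6,3,8],[2,0,2,8,3,7,8,2,1,2],[2,6,3,8,3,7,8,3,6,2],[2,6,2,8,3,7,8,
  2,6,2],[0,7,4,8,6,3,6,5,7,1],[8,7,3,8,3,2,8,5,7,6,5,8,1],[6,4,8,5,5,1,7,0,4,4,8,5,6]]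

noncomputable def Lb4 (e : ℕ) : Lv := ⟨17, 16, wb4, (get2 4 pb4), (get2 11 eb4), 4, e⟩

theorem kb4_0 : ∀ x < 16, (Lb4 0).chk act 23 x = true :=
  forall_lt_add (a := 0) (b := 16) (fun _ h => absurd h (Nat.not_lt_zero _)) (by decide +kernel)

theorem okb4 (e : ℕ) : LvOk act 23 [13,22,14,11,3] (Lb4 e) :=
  show LvOk act 23 [13,22,14,11,3] (Lb4 0) from ⟨by decide +kernel, kb4_0⟩

noncomputable def trb : ℕ := (nat_lit 0x2310363949285a01aa40698)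

noncomputable def nxb (z : ℕ) : List ℕ := force ((get2 4 trb) z) fun j => [j]

noncomputable def Ct : List Lv := [Lb0 9, Lb1 7, Lb2 5, Lb3 4, Lb4 3]

theorem st_0 : ∀ x < 23, sieve act 10 5 3 nxb (testO act [5,4,3,2,1,0] cw vw v0w 10 1 0 [1,5] rels) Ct x = true :=
  forall_lt_add (a := 0) (b := 23) (fun _ h => absurd h (Nat.not_lt_zero _)) (by decide +kernel)

theorem tpt (h : M23P.G) (hh : h * y 10 = y 10 ^ 5 * h) : ∃ acc, h = WW y acc ∧ (testO act [5,4,3,2,1,0] cw vw v0w 10 1 0 [1,5] rels) acc = true :=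
  mdl.transp (o := 11) (Ls := Ct) (.cons (okb0 _) (.cons (okb1 _) (.cons (okb2 _) (.cons (okb3 _) (.cons (okb4 _) (.nil)))))) (by decide +kernel) st_0 hh

theorem rel : relOk act 23 [5,4,3,2,1,0] cw vw hw 9 10 23 3 5 0 rels = true := by decide +kernel

theorem top : Subgroup.closure {W y cw, y 10, W y vw} = ⊤ :=
  mdl.top_of (us := [[8,7,5,2,8,7,4,3,6,3,2,5,2,0],[10],[1,4,2,3,6,2,3,7],[1,2,4,2,3,6,3,5,7,8,2,4,7,8],[6,7,2,8],[7,3,2,6,3,2,5,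
  0]])
    (defs := [[5,0,5,5,0,4,0,2,2,4,4],[1,1,5,5,3,1,3,2,2,3,2],[1,0,5,4,5,0,1,5,1,0,0,5,3,3,5,0,5,5,0,4,0,2,2,4,4],[2,2,3,1,
  0,2,1,3,3,2,1,2,3,5,0,5,5,0,4,0,2,2,4,4],[2,2,3,1,0,2,1,3,3,2,1,2,3,5,5,3,2,2,3,5,5],[2,2,0,5,5,0,2,2,0,5,4,5,
  0,0,4,5,3,4,0,5,5],[1,2,0,0,5,0,0,0,2,1,0,4,2,2,1,0,2,4],[5,1,2,3,1,5,3,1,3,1,1,5,5,3,5,4,5,4,0,5,4,5,0,0,4,5,
  3,4,0,5,5,5,0,5,5,0,4,0,2,2,4,4],[5,3,1,3,5,5,0,0,1,0,2,0,1,0,0,4,4,0,5,5,0,1,5,0,5,3,2,0,0,1,1,5,5,3,1,3,2,2,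
  3,2]])
    (by decide +kernel) (by decide +kernel) ⟨rfl, rfl, rfl⟩

theorem data : OutData (W y cw) (y 10) (W y vw) (W y v0w) 1 :=
  mdl.outData (by norm_num) rel (by decide +kernel) top (mdl.cent tpc) tpt

theorem out : Nat.card (Cfsg.Out M23P.G) = 1 := data.one

end Cfsg.Agent.Known.M23O
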