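import Cfsg.Agent.Known.Bridge
import Cfsg.Agent.Known.P.M23

/-! Pointwise tables and a base for `M23P.G` in degree 23 (generated certificate, helper25): letters `y`,
action `act`, `hy`, `base`, `mdl`. -/

set_option maxRecDepth 100000
set_option exponentiation.threshold 100000

namespace Cfsg.Agent.Known.M23T

open Cfsg.Agent.Comp

noncomputable def t0 : ℕ := (nat_lit 0x35135bdd63160aa1ea964a2418820)

theorem h0 : TabOf 23 5 t0 (Spor.ev (Spor.PP M23P.nets) [0])⁻¹ :=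
  tabOf_of_chk (L := 5) M23P.ok _ (by decide +kernel)

noncomputable def t1 : ℕ := (nat_lit 0x412ba18ad946c79b11553dc418820)

theorem h1 : TabOf 23 5 t1 (Spor.ev (Spor.PP M23P.nets) [1])⁻¹ :=
  tabOf_of_chk (L := 5) M23P.ok _ (by decide +kernel)

noncomputable def t2 : ℕ := (nat_lit 0x2e957b6289ba44b1cd0524ac18820)

theorem h2 : TabOf 23 5 t2 (Spor.ev (Spor.PP M23P.nets) [2])⁻¹ :=
  tabOf_of_chk (L := 5) M23P.ok _ (by decide +kernel)

noncomputable def t3 : ℕ := (nat_lit 0x21474922b3398d85676a3cb218820)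

theorem h3 : TabOf 23 5 t3 (Spor.ev (Spor.PP M23P.nets) [3])⁻¹ :=
  tabOf_of_chk (L := 5) M23P.ok _ (by decide +kernel)

noncomputable def t4 : ℕ := (nat_lit 0x3a4644285aa62469e7662de350820)

theorem h4 : TabOf 23 5 t4 (Spor.ev (Spor.PP M23P.nets) [4])⁻¹ :=
  tabOf_of_chk (L := 5) M23P.ok _ (by decide +kernel)

noncomputable def t5 : ℕ := (nat_lit 0x21f14d5b22d96730dd35520c20820)

theorem h5 : TabOf 23 5 t5 (Spor.ev (Spor.PP M23P.nets) [5])⁻¹ :=
  tabOf_of_chk (L := 5) M23P.ok _ (by decide +kernel)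

noncomputable def t6 : ℕ := (nat_lit 0x5aa57196d7ce0c89d0954a8219020)

theorem h6 : TabOf 23 5 t6 (Spor.ev (Spor.PP M23P.nets) [6])⁻¹ :=
  tabOf_of_chk (L := 5) M23P.ok _ (by decide +kernel)

noncomputable def t7 : ℕ := (nat_lit 0x22b4335cb4c644829f63ccac18440)

theorem h7 : TabOf 23 5 t7 (Spor.ev (Spor.PP M23P.nets) [7])⁻¹ :=
  tabOf_of_chk (L := 5) M23P.ok _ (by decide +kernel)

noncomputable def t8 : ℕ := (nat_lit 0x26b49aa112b98d1cac8389e459801)

theorem h8 : TabOf 23 5 t8 (Spor.ev (Spor.PP M23P.nets) [8])⁻¹ :=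
  tabOf_of_chk (L := 5) M23P.ok _ (by decide +kernel)

noncomputable def tabs : List ℕ := [t0, t1, t2, t3, t4, t5, t6, t7, t8]

def wds : List (List ℕ) := [[0],[1],[2],[3],[4],[5],[6],[7],[8]]

noncomputable scoped instance inst : MulAction M23P.G ℕ := actOf M23P.φ

scoped instance fin : Finite M23P.G := Nat.finite_of_card_ne_zero (by rw [M23P.card]; decide)

noncomputable def y (i : ℕ) : M23P.G := (Spor.ev M23P.g (nthL [0] wds i))⁻¹

noncomputable def act (i : ℕ) : ℕ → ℕ := get2 5 (nthL t0 tabs i)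

theorem hy : ActBy y (PtN 23) act :=
  actBy_tabs M23P.rep (.cons h0 (.cons h0 (.cons h1 (.cons h2 (.cons h3 (.cons h4 (.cons h5 (.cons h6 (.cons h7 (.cons h8 (.nil))))))))))) (by decide +kernel)

theorem f0 : FixLe M23P.G (PtN 23) [0] 23 :=
  FixLe.nil.stepW (isCanon_PtN _) hy 0 23 [[7,8],[0]] 23 ⟨_, rfl, by decide⟩ (by decide +kernel)

theorem f1 : FixLe M23P.G (PtN 23) [1,0] 506 :=
  f0.stepW (isCanon_PtN _) hy 1 22 [[6,7],[1,3,4]] 23 ⟨_, rfl, by decide⟩ (by decide +kernel)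

theorem f2 : FixLe M23P.G (PtN 23) [2,1,0] 10626 :=
  f1.stepW (isCanon_PtN _) hy 2 21 [[2,6],[8,5,8]] 23 ⟨_, rfl, by decide⟩ (by decide +kernel)

theorem f3 : FixLe M23P.G (PtN 23) [3,2,1,0] 212520 :=
  f2.stepW (isCanon_PtN _) hy 3 20 [[4],[0,3]] 23 ⟨_, rfl, by decide⟩ (by decide +kernel)

theorem f4 : FixLe M23P.G (PtN 23) [4,3,2,1,0] 3400320 :=
  f3.stepW (isCanon_PtN _) hy 4 16 [[3],[2],[1]] 23 ⟨_, rfl, by decide⟩ (by decide +kernel)

theorem f5 : FixLe M23P.G (PtN 23) [5,4,3,2,1,0] 10200960 :=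
  f4.stepW (isCanon_PtN _) hy 5 3 [[1]] 23 ⟨_, rfl, by decide⟩ (by decide +kernel)

theorem base : IsBase M23P.G (PtN 23) [5,4,3,2,1,0] := f5.isBase M23P.card le_rfl

theorem mdl : Mdl M23P.φ 23 9 10200960 y act [5,4,3,2,1,0] :=
  mdl_of_tabs M23P.rep hy base (by decide) M23P.card (by decide)

end Cfsg.Agent.Known.M23T
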