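import Cfsg.Agent.Known.M24Tab
import Cfsg.Agent.Golay.Mathieu

/-! `Cfsg.M24` is isomorphic to its model (helper25): `equiv`. -/

namespace Cfsg.Agent.Known.M24T

open Cfsg.Agent.Comp Cfsg.Agent.Golay

def xs : List ℕ := [608167165260361641911015062699608096,725895487971383339971559185675552800,
  561475773312554808336860583768983584,772944516003414818434737759861180448,
  523378918131612263012374457071274016,349593569526104252598356501914028064,
  694045536618238686251586527369201696,981737719767249052369456315699891232,
  967415563219785829743497253673672192,388271534190469620667551391282798628]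

theorem equiv : Nonempty (Cfsg.M24 ≃* M24P.G) := by
  obtain ⟨x, -, hx⟩ := exists_actBy (isAct_point EG 5 31) (codes24 (L := 608167165260361641911015062699608096 :: xs) (by decide +kernel))
  exact mdl.equiv_of_actBy (isCanon_PtC EG) hx (nthL 0 [0,1,2,3,4,5,6,7,8,9,10,11,12,13,14,15,16,17,18,19,20,21,22,23])
    (fun i _ => exists_PtC EG (B := [nthL 0 [0,1,2,3,4,5,6,7,8,9,10,11,12,13,14,15,16,17,18,19,20,21,22,23] i]) (by revert i; decide +kernel) _ List.mem_cons_self)
    (by decide +kernel) (by decide +kernel) (by decide) card_M24

end Cfsg.Agent.Known.M24T
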