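import Cfsg.Agent.Known.M24Tab
import Cfsg.Agent.Known.Out

/-! The outer automorphism group of `M24P.G` (generated certificate, helper25). -/

set_option maxRecDepth 100000
set_option exponentiation.threshold 100000
set_option Elab.async false

namespace Cfsg.Agent.Known.M24O

open Cfsg.Agent.Comp

noncomputable def t10 : ℕ := (nat_lit 0x7cc642d4d255a2e43162a41203b437)

theorem h10 : TabOf 24 5 t10 (Spor.ev (Spor.PP M24P.nets) [0,5,9])⁻¹ :=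
  tabOf_of_chk (L := 5) M24P.ok _ (by decide +kernel)

noncomputable def t11 : ℕ := (nat_lit 0x7496f392e1b546a6a690144b3430c0)

theorem h11 : TabOf 24 5 t11 (Spor.ev (Spor.PP M24P.nets) [0,8])⁻¹ :=
  tabOf_of_chk (L := 5) M24P.ok _ (by decide +kernel)

noncomputable def tabs : List ℕ := [M24T.t0, M24T.t1, M24T.t2, M24T.t3, M24T.t4, M24T.t5, M24T.t6, M24T.t7, M24T.t8, M24T.t9, t10, t11]

def wds : List (List ℕ) := [[0],[1],[2],[3],[4],[5],[6],[7],[8],[9],[0,5,9],[0,8]]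

noncomputable def y (i : ℕ) : M24P.G := (Spor.ev M24P.g (nthL [0] wds i))⁻¹

noncomputable def act (i : ℕ) : ℕ → ℕ := get2 5 (nthL M24T.t0 tabs i)

theorem mdl : Mdl M24P.φ 24 10 244823040 y act [6,5,4,3,2,1,0] :=
  mdl_of_tabs M24P.rep (actBy_tabs M24P.rep (.cons M24T.h0 (.cons M24T.h0 (.cons M24T.h1 (.cons M24T.h2 (.cons M24T.h3 (.cons M24T.h4 (.cons M24T.h5 (.cons M24T.h6 (.cons M24T.h7 (.cons M24T.h8 (.cons M24T.h9 (.cons h10 (.cons h11 (.nil)))))))))))))) (by decide +kernel))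
    M24T.base (by decide) M24P.card (by decide)

def cw : List ℕ := [5,5,7,9,8,9,1,9,5,6,2,0,4,2,3]

def vw : List ℕ := [3,6,9,8,0,6,7,2]

def hw : List ℕ := [4,7,8,7,5,6,1,4,3,0]

def v0w : List ℕ := [3,6,9,8,0,6,7,2]

def rels : List (List ℕ) := [[2,1,1,0,2,1,1,0,2,1,1,0,2,1,1,0],[2,1,0,2,1,0,2,1,0,2,1,0,2,1,0,2,1,0,2,1,0]]

noncomputable def pa0 : ℕ := (nat_lit 0x3e1571cc5690626516154d2895a20)

noncomputable def ea0 : ℕ := (nat_lit 0x20683a8430e30420d50b13331e72cf49472ca690890b11a01b8468ec01015c0)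

def wa0 : List (List ℕ) := [[5],[8],[4],[6],[1],[3],[0],[2],[0,5],[6,2],[6,4],[5,0],[5,6],[3,2],[1,4],[2,0],[8,6,0]]

noncomputable def La0 (e : ℕ) : Lv := ⟨23, 23, wa0, (get2 5 pa0), (get2 11 ea0), 1, e⟩

theorem ka0_0 : ∀ x < 23, (La0 0).chk act 24 x = true :=
  forall_lt_add (a := 0) (b := 23) (fun _ h => absurd h (Nat.not_lt_zero _)) (by decide +kernel)

theorem oka0 (e : ℕ) : LvOk act 24 [0] (La0 e) :=
  show LvOk act 24 [0] (La0 0) from ⟨by decide +kernel, ka0_0⟩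

noncomputable def pa1 : ℕ := (nat_lit 0x1cd28c2a50508d189ec5a92144dc0)

noncomputable def ea1 : ℕ := (nat_lit 0x22438010740e604804861018720239863ca68c1b1551a05b4958ea14823c0)

def wa1 : List (List ℕ) := [[8],[2,6,4,1],[0,5,6,2],[7],[5,2,4],[5,5,3],[5,8,4],[4,7,5],[0,8,1],[0,4,6],[4,0,2],[4,6,5],[9,0,2,9],[9,2,1,
  9],[1,8,0,6],[6,9,3,9]]

noncomputable def La1 (e : ℕ) : Lv := ⟨15, 22, wa1, (get2 5 pa1), (get2 11 ea1), 2, e⟩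

theorem ka1_0 : ∀ x < 22, (La1 0).chk act 24 x = true :=
  forall_lt_add (a := 0) (b := 22) (fun _ h => absurd h (Nat.not_lt_zero _)) (by decide +kernel)

theorem oka1 (e : ℕ) : LvOk act 24 [23,0] (La1 e) :=
  show LvOk act 24 [23,0] (La1 0) from ⟨by decide +kernel, ka1_0⟩

noncomputable def pa2 : ℕ := (nat_lit 0x21a711a8e04e012808c92d498bc60)

noncomputable def ea2 : ℕ := (nat_lit 0x44c72071864b4010b002a8a0d31e53885d87a112056124a08930d80280)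

def wa2 : List (List ℕ) := [[7],[0,2,8,5],[4,8,2,1],[8],[8,7,8],[0,8,1],[0,8,1,8],[5,1,7,4],[4,1,5,5],[0,8,1,7],[4,4,0,5],[9,0,9,1,4],[5,
  6,0,4,4],[9,4,8,5,9],[9,4,9,5,9],[6,8,3,8,6],[3,4,6,0,3],[4,4,0,5,7]]

noncomputable def La2 (e : ℕ) : Lv := ⟨10, 21, wa2, (get2 5 pa2), (get2 11 ea2), 3, e⟩

theorem ka2_0 : ∀ x < 21, (La2 0).chk act 24 x = true :=
  forall_lt_add (a := 0) (b := 21) (fun _ h => absurd h (Nat.not_lt_zero _)) (by decide +kernel)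

theorem oka2 (e : ℕ) : LvOk act 24 [15,23,0] (La2 e) :=
  show LvOk act 24 [15,23,0] (La2 0) from ⟨by decide +kernel, ka2_0⟩

noncomputable def pa3 : ℕ := (nat_lit 0x2e7191cc201540482047b86d40580)

noncomputable def ea3 : ℕ := (nat_lit 0xa9131681a503826348704fb16d29660c090f119c4a0428b00841b00)

def wa3 : List (List ℕ) := [[3,4,8,2,8,4],[4,8,2,8,1,7,8],[7,8,7],[0,8,1],[6,2,5,6,4],[5,2,0,6,0],[5,6,0,4,4],[6,1,2,6,5],[5,2,8,2,4],[3,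
  4,6,0,3],[2,6,2,3,6,2],[8,5,1,7,4,8],[7,8,7,0,8,1],[6,8,9,7,9,8,6],[5,0,0,4,6,1,4],[8,9,4,9,5,9,8],[6,2,7,8,7,
  2,6]]

noncomputable def La3 (e : ℕ) : Lv := ⟨12, 20, wa3, (get2 5 pa3), (get2 11 ea3), 4, e⟩

theorem ka3_0 : ∀ x < 20, (La3 0).chk act 24 x = true :=
  forall_lt_add (a := 0) (b := 20) (fun _ h => absurd h (Nat.not_lt_zero _)) (by decide +kernel)

theorem oka3 (e : ℕ) : LvOk act 24 [10,15,23,0] (La3 e) :=
  show LvOk act 24 [10,15,23,0] (La3 0) from ⟨by decide +kernel, ka3_0⟩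

noncomputable def pa4 : ℕ := (nat_lit 0x2000004000)

noncomputable def ea4 : ℕ := (nat_lit 0x1200e0980)

def wa4 : List (List ℕ) := [[7,8,7,2,3,6,2,3],[3,2,6,3,2,7,8,7]]

noncomputable def La4 (e : ℕ) : Lv := ⟨6, 3, wa4, (get2 2 pa4), (get2 11 ea4), 15, e⟩

theorem ka4_0 : ∀ x < 3, (La4 0).chk act 24 x = true :=
  forall_lt_add (a := 0) (b := 3) (fun _ h => absurd h (Nat.not_lt_zero _)) (by decide +kernel)

theorem oka4 (e : ℕ) : LvOk act 24 [12,10,15,23,0] (La4 e) :=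
  show LvOk act 24 [12,10,15,23,0] (La4 0) from ⟨by decide +kernel, ka4_0⟩

noncomputable def pa5 : ℕ := (nat_lit 0x6f150940030e02800dcb7a0)

noncomputable def ea5 : ℕ := (nat_lit 0xa9ab24a710c19612a2420710d60a61c0568291280380)

def wa5 : List (List ℕ) := [[5,2,8,2,4],[1,4,0,8,1,5,0],[8,9,4,8,5,9,8],[8,6,8,3,8,6,8],[3,5,2,8,2,4,3],[7,5,2,8,2,4,7],[7,1,4,0,8,1,5,0,
  7],[3,1,4,0,8,1,5,0,3],[4,4,0,5,8,5,1,7,4],[9,4,9,5,9,2,3,6,2,3,8],[0,8,2,8,5,8,7,0,8,1,8],[4,6,5,8,5,2,4,8,4,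
  6,5],[0,2,8,5,8,7,8,4,8,2,1],[0,8,1,6,2,5,6,4,0,8,1],[0,8,1,6,1,2,6,5,0,8,1]]

noncomputable def La5 (e : ℕ) : Lv := ⟨14, 16, wa5, (get2 4 pa5), (get2 11 ea5), 5, e⟩

theorem ka5_0 : ∀ x < 16, (La5 0).chk act 24 x = true :=
  forall_lt_add (a := 0) (b := 16) (fun _ h => absurd h (Nat.not_lt_zero _)) (by decide +kernel)

theorem oka5 (e : ℕ) : LvOk act 24 [6,12,10,15,23,0] (La5 e) :=
  show LvOk act 24 [6,12,10,15,23,0] (La5 0) from ⟨by decide +kernel, ka5_0⟩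

noncomputable def tra : ℕ := (nat_lit 0x1025184410640951ab398a80)

noncomputable def nxa (z : ℕ) : List ℕ := force ((get2 4 tra) z) fun j => [j]

noncomputable def Cc : List Lv := [La0 1, La1 2, La2 3, La3 4, La4 15, La5 5]

theorem sc_0 : ∀ x < 24, sieve act 10 5 0 nxa (testZ act [6,5,4,3,2,1,0] 10 23) Cc x = true :=
  forall_lt_add (a := 0) (b := 24) (fun _ h => absurd h (Nat.not_lt_zero _)) (by decide +kernel)

theorem tpc (h : M24P.G) (hh : h * y 10 = y 10 ^ 1 * h) : ∃ acc, h = WW y acc ∧ (testZ act [6,5,4,3,2,1,0] 10 23) acc = true :=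
  mdl.transp (o := 23) (Ls := Cc) (.cons (oka0 _) (.cons (oka1 _) (.cons (oka2 _) (.cons (oka3 _) (.cons (oka4 _) (.cons (oka5 _) (.nil))))))) (by decide +kernel) sc_0 hh

noncomputable def pb0 : ℕ := (nat_lit 0x2b59020d6f8a9c0489070d0d3902d5)

noncomputable def eb0 : ℕ := (nat_lit 0x14008987202309e150e81ad3ec354888ae2d63a49414532e04c2902a0ce2300)

def wb0 : List (List ℕ) := [[4],[5],[6],[1],[0],[4,0],[6,4],[5,5],[1,5],[6,1],[4,4],[4,1],[6,5],[6,1,5],[6,4,1],[6,4,4],[3,8,3,8],[0,9,6,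
  9]]

noncomputable def Lb0 (e : ℕ) : Lv := ⟨12, 23, wb0, (get2 5 pb0), (get2 11 eb0), 1, e⟩

theorem kb0_0 : ∀ x < 23, (Lb0 0).chk act 24 x = true :=
  forall_lt_add (a := 0) (b := 23) (fun _ h => absurd h (Nat.not_lt_zero _)) (by decide +kernel)

theorem okb0 (e : ℕ) : LvOk act 24 [2] (Lb0 e) :=
  show LvOk act 24 [2] (Lb0 0) from ⟨by decide +kernel, kb0_0⟩

noncomputable def pb1 : ℕ := (nat_lit 0x189935be4e525a0880283c0d5a00a4)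

noncomputable def eb1 : ℕ := (nat_lit 0x800c6a091116198490700da254b992f09c6a0138e52826008b8b61920280)

def wb1 : List (List ℕ) := [[8,3,8],[9,1,6,7],[7,6,0,9],[3],[2],[6,0,4],[8,2,8],[0,9,6,9],[9,6,9,1],[6,2,0,6],[0,6,5,0],[6,3,5,6],[6,8,7,
  8],[6,1,2,6]]

noncomputable def Lb1 (e : ℕ) : Lv := ⟨10, 22, wb1, (get2 5 pb1), (get2 11 eb1), 2, e⟩

theorem kb1_0 : ∀ x < 22, (Lb1 0).chk act 24 x = true :=
  forall_lt_add (a := 0) (b := 22) (fun _ h => absurd h (Nat.not_lt_zero _)) (by decide +kernel)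

theorem okb1 (e : ℕ) : LvOk act 24 [12,2] (Lb1 e) :=
  show LvOk act 24 [12,2] (Lb1 0) from ⟨by decide +kernel, kb1_0⟩

noncomputable def pb2 : ℕ := (nat_lit 0x68d8811cc1795605000e9249388214)

noncomputable def eb2 : ℕ := (nat_lit 0x1021c7486885079e836e5d48698b24c5505907111c3946b0530600240)

def wb2 : List (List ℕ) := [[3],[2],[3,2],[0,2,1],[7,3,7],[0,3,1],[1,2,0],[7,2,7],[7,2,7,3],[1,3,2,0],[0,3,2,1],[0,2,1,3],[1,2,0,3],[1,3,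
  2,0,3],[0,8,2,8,1],[0,7,2,7,1],[9,8,6,8,7,9],[0,5,6,8,3,8,5],[5,9,3,6,7,4,0]]

noncomputable def Lb2 (e : ℕ) : Lv := ⟨9, 21, wb2, (get2 5 pb2), (get2 11 eb2), 3, e⟩

theorem kb2_0 : ∀ x < 21, (Lb2 0).chk act 24 x = true :=
  forall_lt_add (a := 0) (b := 21) (fun _ h => absurd h (Nat.not_lt_zero _)) (by decide +kernel)

theorem okb2 (e : ℕ) : LvOk act 24 [10,12,2] (Lb2 e) :=
  show LvOk act 24 [10,12,2] (Lb2 0) from ⟨by decide +kernel, kb2_0⟩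

noncomputable def pb3 : ℕ := (nat_lit 0x41e00911d1325a06000b1cde22802a)

noncomputable def eb3 : ℕ := (nat_lit 0x31d32a05d43287135a7ac2418005c55c7b10f246048638641022d00)

def wb3 : List (List ℕ) := [[2,0,8,2,8,1,2],[7,8,4,8,7,4,6,0,9],[9,1,6,5,7,8,5,8,7],[0,8,2,8,1],[5,8,7,8,4],[0,8,3,8,1],[0,8,2,3,8,1],[4,
  6,3,0,6,3,2],[6,0,8,3,8,1,6],[2,3,6,1,3,6,5],[2,9,8,6,8,7,9,2],[2,6,1,8,3,8,0,2],[9,6,9,8,2,8,9,6,9],[7,8,1,9,
  5,8,2,8,2],[9,1,6,7,6,5,5,1,3],[2,8,2,8,4,9,0,8,7]]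

noncomputable def Lb3 (e : ℕ) : Lv := ⟨20, 20, wb3, (get2 5 pb3), (get2 11 eb3), 4, e⟩

theorem kb3_0 : ∀ x < 20, (Lb3 0).chk act 24 x = true :=
  forall_lt_add (a := 0) (b := 20) (fun _ h => absurd h (Nat.not_lt_zero _)) (by decide +kernel)

theorem okb3 (e : ℕ) : LvOk act 24 [9,10,12,2] (Lb3 e) :=
  show LvOk act 24 [9,10,12,2] (Lb3 0) from ⟨by decide +kernel, kb3_0⟩

noncomputable def pb4 : ℕ := (nat_lit 0x80000000040)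

noncomputable def eb4 : ℕ := (nat_lit 0x150460580)

def wb4 : List (List ℕ) := [[7,3,7,0,8,2,8,1,3],[3,0,8,2,8,1,7,3,7]]

noncomputable def Lb4 (e : ℕ) : Lv := ⟨22, 3, wb4, (get2 2 pb4), (get2 11 eb4), 6, e⟩

theorem kb4_0 : ∀ x < 3, (Lb4 0).chk act 24 x = true :=
  forall_lt_add (a := 0) (b := 3) (fun _ h => absurd h (Nat.not_lt_zero _)) (by decide +kernel)

theorem okb4 (e : ℕ) : LvOk act 24 [20,9,10,12,2] (Lb4 e) :=
  show LvOk act 24 [20,9,10,12,2] (Lb4 0) from ⟨by decide +kernel, kb4_0⟩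

noncomputable def pb5 : ℕ := (nat_lit 0xe00071860ba0d005942300cf)

noncomputable def eb5 : ℕ := (nat_lit 0x1d72d6684c710d24e544798d01501984204506403c0)

def wb5 : List (List ℕ) := [[8,4,9,5,8,6,8,4,9,5,8],[3,7,2,6,0,9,0,7,9,8,7,9],[9,4,3,1,8,4,9,0,6,3,2,6,8],[2,3,9,6,9,6,9,6,8,7,8,9,6,7],
  [7,8,4,9,5,8,6,8,4,9,5,8,7],[7,0,8,2,8,3,6,0,9,5,6,2,9,6],[0,8,2,8,3,6,0,9,5,6,2,9,6,7],[1,2,3,0,4,2,4,4,9,8,
  9,7,0,5,1],[2,3,6,1,3,6,5,2,7,8,1,9,5,8,2,8],[8,3,8,3,9,7,3,7,0,8,2,8,1,3,9,8],[2,0,8,2,8,1,2,3,7,6,0,9,0,6,0,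
  5],[4,6,3,0,6,3,2,9,6,9,8,2,3,8,9,6,9],[2,8,2,8,4,9,0,8,3,9,3,6,9,3,9,6,7],[0,3,1,8,4,9,5,8,6,8,4,9,5,8,0,3,
  1],[0,8,2,8,1,1,2,3,0,9,8,6,8,7,9,7,3,7]]

noncomputable def Lb5 (e : ℕ) : Lv := ⟨15, 16, wb5, (get2 4 pb5), (get2 11 eb5), 5, e⟩

theorem kb5_0 : ∀ x < 16, (Lb5 0).chk act 24 x = true :=
  forall_lt_add (a := 0) (b := 16) (fun _ h => absurd h (Nat.not_lt_zero _)) (by decide +kernel)

theorem okb5 (e : ℕ) : LvOk act 24 [22,20,9,10,12,2] (Lb5 e) :=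
  show LvOk act 24 [22,20,9,10,12,2] (Lb5 0) from ⟨by decide +kernel, kb5_0⟩

noncomputable def trb : ℕ := (nat_lit 0x59929421268160a9824670ba)

noncomputable def nxb (z : ℕ) : List ℕ := force ((get2 4 trb) z) fun j => [j]

noncomputable def Ct : List Lv := [Lb0 6, Lb1 1, Lb2 7, Lb3 2, Lb4 3, Lb5 8]

theorem st_0 : ∀ x < 24, sieve act 11 4 2 nxb (testO act [6,5,4,3,2,1,0] cw vw v0w 11 1 0 [1,5] rels) Ct x = true :=
  forall_lt_add (a := 0) (b := 24) (fun _ h => absurd h (Nat.not_lt_zero _)) (by decide +kernel)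

theorem tpt (h : M24P.G) (hh : h * y 11 = y 11 ^ 2 * h) : ∃ acc, h = WW y acc ∧ (testO act [6,5,4,3,2,1,0] cw vw v0w 11 1 0 [1,5] rels) acc = true :=
  mdl.transp (o := 11) (Ls := Ct) (.cons (okb0 _) (.cons (okb1 _) (.cons (okb2 _) (.cons (okb3 _) (.cons (okb4 _) (.cons (okb5 _) (.nil))))))) (by decide +kernel) st_0 hh

theorem rel : relOk act 24 [6,5,4,3,2,1,0] cw vw hw 10 11 23 1 2 0 rels = true := by decide +kernel

theorem top : Subgroup.closure {W y cw, y 11, W y vw} = ⊤ :=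
  mdl.top_of (us := [[5,5,7,9,8,9,1,9,5,6,2,0,4,2,3],[11],[3,6,9,8,0,6,7,2],[3,2,5,1,2,6,4,9,0,9,8,9,7,4,4],[8,1],[2,7,6,1,8,9,6,
  3]])
    (defs := [[2,0,5,4,5,0,1,2,3,1,2,1,2,3,2,1,3],[0,4,5,0,5,4,5,4,0,5,4,3,2,1,2,3,5],[5,5,0,5,5,3,1,2,3,3,5,1,1,2,3,3,2,2,
  0,2,0,4,5,0,5,4,5,4,0,5,4,3,2,1,2,3,5],[1,5,3,2,3,1,5,5,0,1,5,0,2,4,4,0,4,5,0,5,4,5,4,0,5,4,3,2,1,2,3,5],[4,5,
  3,2,2,0,0,2,2,0,2,1,5,3,2,3,1,5,5,0,1,5,0,2,4,4,2,0,5,4,5,0,1,2,3,1,2,1,2,3,2,1,3],[0,4,5,0,5,4,5,4,0,5,4,3,2,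
  1,2,3,5,1,1,5,3,2,4,3,2,2,4,0,5,0,2,4,5,3,5,5,3,3,5,5,0,2,1],[2,2,1,5,3,2,3,5,4,3,2,4,2,2,4,2,0,5,0,1,5,0,2,3,
  1,5,3,2,3,3,3,4,5,0,2,4,2,4,0,5,0,4,5,0,5,4,5,4,0,5,4,3,2,1,2,3,5],[1,1,5,0,1,2,4,5,3,2,4,2,0,0,0,5,4,5,5,4,0,
  1,2,0,2,1,0,1,1,0,2,2,4,2,2,1,0,2,1,2,3,3,2,2,0,2],[4,2,0,5,4,5,0,1,2,3,1,2,1,2,3,2,1,3],[5,4,0,5,0,2,3,2,3,3,
  3,4,3,2,4,3,2,3,5,1,5,5,1,5,0,4,5,0,5,4,5,4,0,5,4,3,2,1,2,3,5]])
    (by decide +kernel) (by decide +kernel) ⟨rfl, rfl, rfl⟩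

theorem data : OutData (W y cw) (y 11) (W y vw) (W y v0w) 1 :=
  mdl.outData (by norm_num) rel (by decide +kernel) top (mdl.cent tpc) tpt

theorem out : Nat.card (Cfsg.Out M24P.G) = 1 := data.one

end Cfsg.Agent.Known.M24O
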