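import Cfsg.Agent.Known.Bridge
import Cfsg.Agent.Known.P.M24

/-! Pointwise tables and a base for `M24P.G` in degree 24 (generated certificate, helper25): letters `y`,
action `act`, `hy`, `base`, `mdl`. -/

set_option maxRecDepth 100000
set_option exponentiation.threshold 100000

namespace Cfsg.Agent.Known.M24T

open Cfsg.Agent.Comp

noncomputable def t0 : ℕ := (nat_lit 0x7520f4cee6b450a69e4b654a418820)

theorem h0 : TabOf 24 5 t0 (Spor.ev (Spor.PP M24P.nets) [0])⁻¹ :=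
  tabOf_of_chk (L := 5) M24P.ok _ (by decide +kernel)

noncomputable def t1 : ℕ := (nat_lit 0x8bcd6925d5a5d674326d540a418820)

theorem h1 : TabOf 24 5 t1 (Spor.ev (Spor.PP M24P.nets) [1])⁻¹ :=
  tabOf_of_chk (L := 5) M24P.ok _ (by decide +kernel)

noncomputable def t2 : ℕ := (nat_lit 0x6c22e496b65d2ec7aa663a24418820)

theorem h2 : TabOf 24 5 t2 (Spor.ev (Spor.PP M24P.nets) [2])⁻¹ :=
  tabOf_of_chk (L := 5) M24P.ok _ (by decide +kernel)

noncomputable def t3 : ℕ := (nat_lit 0x94dd1b5e89354ac42a0b3bda418820)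

theorem h3 : TabOf 24 5 t3 (Spor.ev (Spor.PP M24P.nets) [3])⁻¹ :=
  tabOf_of_chk (L := 5) M24P.ok _ (by decide +kernel)

noncomputable def t4 : ℕ := (nat_lit 0x64cc92ac9172ad2456176bcf418820)

theorem h4 : TabOf 24 5 t4 (Spor.ev (Spor.PP M24P.nets) [4])⁻¹ :=
  tabOf_of_chk (L := 5) M24P.ok _ (by decide +kernel)

noncomputable def t5 : ℕ := (nat_lit 0x43544b320933cf793a8b2d67118820)

theorem h5 : TabOf 24 5 t5 (Spor.ev (Spor.PP M24P.nets) [5])⁻¹ :=
  tabOf_of_chk (L := 5) M24P.ok _ (by decide +kernel)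

noncomputable def t6 : ℕ := (nat_lit 0x85ab163e9791c931a8c8724ad58820)

theorem h6 : TabOf 24 5 t6 (Spor.ev (Spor.PP M24P.nets) [6])⁻¹ :=
  tabOf_of_chk (L := 5) M24P.ok _ (by decide +kernel)

noncomputable def t7 : ℕ := (nat_lit 0xbd136819d37c56a6b2a83c8a410c20)

theorem h7 : TabOf 24 5 t7 (Spor.ev (Spor.PP M24P.nets) [7])⁻¹ :=
  tabOf_of_chk (L := 5) M24P.ok _ (by decide +kernel)

noncomputable def t8 : ℕ := (nat_lit 0xba514512217986c5ced5138b269e00)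

theorem h8 : TabOf 24 5 t8 (Spor.ev (Spor.PP M24P.nets) [8])⁻¹ :=
  tabOf_of_chk (L := 5) M24P.ok _ (by decide +kernel)

noncomputable def t9 : ℕ := (nat_lit 0x4ac743be309394cb36e2998a0aa024)

theorem h9 : TabOf 24 5 t9 (Spor.ev (Spor.PP M24P.nets) [9])⁻¹ :=
  tabOf_of_chk (L := 5) M24P.ok _ (by decide +kernel)

noncomputable def tabs : List ℕ := [t0, t1, t2, t3, t4, t5, t6, t7, t8, t9]

def wds : List (List ℕ) := [[0],[1],[2],[3],[4],[5],[6],[7],[8],[9]]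

noncomputable scoped instance inst : MulAction M24P.G ℕ := actOf M24P.φ

scoped instance fin : Finite M24P.G := Nat.finite_of_card_ne_zero (by rw [M24P.card]; decide)

noncomputable def y (i : ℕ) : M24P.G := (Spor.ev M24P.g (nthL [0] wds i))⁻¹

noncomputable def act (i : ℕ) : ℕ → ℕ := get2 5 (nthL t0 tabs i)

theorem hy : ActBy y (PtN 24) act :=
  actBy_tabs M24P.rep (.cons h0 (.cons h0 (.cons h1 (.cons h2 (.cons h3 (.cons h4 (.cons h5 (.cons h6 (.cons h7 (.cons h8 (.cons h9 (.nil)))))))))))) (by decide +kernel)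

theorem f0 : FixLe M24P.G (PtN 24) [0] 24 :=
  FixLe.nil.stepW (isCanon_PtN _) hy 0 24 [[8],[5,9]] 24 ⟨_, rfl, by decide⟩ (by decide +kernel)

theorem f1 : FixLe M24P.G (PtN 24) [1,0] 552 :=
  f0.stepW (isCanon_PtN _) hy 1 23 [[5,6,8]] 24 ⟨_, rfl, by decide⟩ (by decide +kernel)

theorem f2 : FixLe M24P.G (PtN 24) [2,1,0] 12144 :=
  f1.stepW (isCanon_PtN _) hy 2 22 [[7],[5,6]] 24 ⟨_, rfl, by decide⟩ (by decide +kernel)

theorem f3 : FixLe M24P.G (PtN 24) [3,2,1,0] 255024 :=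
  f2.stepW (isCanon_PtN _) hy 3 21 [[6],[4]] 24 ⟨_, rfl, by decide⟩ (by decide +kernel)

theorem f4 : FixLe M24P.G (PtN 24) [4,3,2,1,0] 5100480 :=
  f3.stepW (isCanon_PtN _) hy 4 20 [[4],[2]] 24 ⟨_, rfl, by decide⟩ (by decide +kernel)

theorem f5 : FixLe M24P.G (PtN 24) [5,4,3,2,1,0] 81607680 :=
  f4.stepW (isCanon_PtN _) hy 5 16 [[3],[2],[1]] 24 ⟨_, rfl, by decide⟩ (by decide +kernel)

theorem f6 : FixLe M24P.G (PtN 24) [6,5,4,3,2,1,0] 244823040 :=
  f5.stepW (isCanon_PtN _) hy 6 3 [[1]] 24 ⟨_, rfl, by decide⟩ (by decide +kernel)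

theorem base : IsBase M24P.G (PtN 24) [6,5,4,3,2,1,0] := f6.isBase M24P.card le_rfl

theorem mdl : Mdl M24P.φ 24 10 244823040 y act [6,5,4,3,2,1,0] :=
  mdl_of_tabs M24P.rep hy base (by decide) M24P.card (by decide)

end Cfsg.Agent.Known.M24T
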