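import Cfsg.Agent.Known.ONOutB
import Cfsg.Agent.Known.ONOutC

/-! The outer automorphism group of `Cfsg.Spor.ON` (generated certificate, helper25). -/

set_option maxRecDepth 100000
set_option exponentiation.threshold 100000
set_option Elab.async false

namespace Cfsg.Agent.Known.ONO

open Cfsg.Agent.Comp

theorem rel : relOk act 122760 [4,0,32,120550,122640,122753,122752] cw vw hw 8 9 11 1 1 122752 rels = true := by decide +kernel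

theorem top : Subgroup.closure {W y cw, y 9, W y vw} = ⊤ :=
  mdl.top_of (us := [[6,0,6,5,7,4,1,6,5,3,4,5,6,0,4,5,6,7,4,5,3,4,5,3,6,4,5,4,3,6,7,5,6,5,4,2],[9],[5,2,1,5,1],[2,4,5,6,5,7,6,3,4,
  5,4,6,3,5,4,3,5,4,7,6,5,4,1,6,5,4,3,5,6,0,4,7,5,6,1,6],[4,0,3,0],[0,5,0,2,5]])
    (defs := [[4,0,2,3,2,3,3,2,0,4,2,3,1,0,4,0,5,3,3,5,3,5,0,5,3,5,0,2,3,1,3,2,0,5,5,1,3,2,3,1,2,0,2,0,5,0,5,4,4,0,5,0,5,0,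
  1,0,5,0,0,4,3,5,0,2,0,2,0,5,0,0,5,1,0,5,0,5,0,0,5,4,3,1,5,0,5,3,2,0,2,0,4,0,0,0,0,5,0,2,0,0,2,0,0,0,2,0,5,3,2,
  4,4,3,5,3,2,0],[3,5,0,2,0,1,1,5,0,2,3,5,3,3,3,5,3,3,5,3,2,3,3,3,3,1,3,5,3,5,0,2,3,2,4,0,1,2,3,3,2,3,2,3,4,2,3,
  3,2,3,5,3,5,3,2,0,1,3,3,2,3,4,3,2,3,2,3,1,1,2,3,2,3,5,3,5,4,0,5,0,4,2,2,3,5,0,4,0,5,3,2,0,2,3,2,0,2,0,0,2,3,1,
  3,4,0,5,1,3,5,0,0,5,0,5,3,1],[5,0,0,0,5,0,0,5,4,0,2,0,5,0,4,5,0,5,3,5,0,5,3,3,3,5,0,1,3,1,2,0,2,0,5,0,4,0,5,0,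
  0,4,2,3,5,0,4,0,2,3,2,0,0,5,0,0,5,4,0,2,0,5,0,4,5,0,5,3,5,0,5,3,3,3,5,0,1,3,1,2,0,2,0,5,0,4,0,5,0,0,4,2,3,5,0,
  4,0,2,3,2,3,5],[1,3,5,0,2,0,5,4,0,4,5,0,2,0,5,0,2,3,5,0,2,1,0,0,0,0,5,0,2,0,0,2,0,0,0,2,0,5,3,2,4,4,3,5,3,2,0,
  4,3,2,4,3,2,4,0,4,2,3,5,0,5,0,0,5,3,3,2,0,5,0,2,4,0,1,3,1,2,0,2,0,5,0,4,0,5,0,0,4,2,3,5,0,4,0,2,3,2,3,2],[1,1,
  3,5,0,2,0,5,4,0,5,3,3,3,5,0,0,0,5,3,5,1,3,2,3,2,0,0,5,0,0,5,4,0,2,0,5,0,4,5,0,5,3,5,0,5,3,3,3,5,0,1,3,1,2,0,2,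
  0,5,0,4,0,5,0,0,4,2,3,5,0,4,0,2,3,2,0,0,5,0,0,5,4,0,2,0,5,0,4,5,0,5,3,5,0,5,3,3,3,5,0,1,3,1,2,0,2,0,5,0,4,0,5,
  0,0,4,2,3,5,0,4,0,2,3,2,3,2],[3,5,0,2,0,2,0,5,0,0,5,1,0,5,0,5,0,0,5,4,3,1,5,0,5,3,2,0,2,0,4,0,0,0,0,5,0,2,0,0,
  2,0,0,0,2,0,5,3,2,4,4,3,5,3,2,0,5,5],[4,5,0,5,0,0,5,3,4,5,3,2,0,2,0,0,2,3,4,3,2,3,5,3,4,3,2,2,4,3,2,4,0,4,2,3,
  5,0,5,0,0,5,3,3,2,0,5,0,2,4,0,1,3,1,2,0,2,0,5,0,4,0,5,0,0,4,2,3,5,0,4,0,2,3,2,3,5],[5,5]])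
    (by decide +kernel) (by decide +kernel) ⟨rfl, rfl, rfl⟩

theorem data : OutData (W y cw) (y 9) (W y vw) (W y v0w) 1 :=
  mdl.outData (by norm_num) rel (by decide +kernel) top (mdl.cent tpc) tpt

theorem top0 : Subgroup.closure {W y cw, y 9, W y v0w} = ⊤ :=
  mdl.top_of (us := [[6,0,6,5,7,4,1,6,5,3,4,5,6,0,4,5,6,7,4,5,3,4,5,3,6,4,5,4,3,6,7,5,6,5,4,2],[9],[0,5,0,2,5],[2,4,5,6,5,7,6,3,4,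
  5,4,6,3,5,4,3,5,4,7,6,5,4,1,6,5,4,3,5,6,0,4,7,5,6,1,6],[4,0,3,0],[5,2,1,5,1]])
    (defs := [[4,0,5,3,5,3,3,5,0,4,5,3,1,0,4,0,2,3,3,2,3,5,3,5,3,2,0,5,3,1,3,5,0,5,5,1,3,5,3,1,5,0,5,0,2,0,4,5,4,3,5,0,2,0,
  1,0,2,0,0,4,5,0,0,0,5,3,4,4,5,3,5,0,5,5,3,5,0,5,4,0,5,0,0,2,4,0,4,5,5,0,1,1,2,3,2,3,2,3,2,0,2,3,4,2,3,5,0,2,4,
  0,2,0],[3,5,3,1,5,3,2,0,5,1,0,5,3,5,0,5,0,5,0,5,4,4,3,2,2,1,3,1,5,3,3,2,3,1,2,3,2,0,2,2,3,2,0,2,1,1,0,2,3,3,3,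
  2,1,3,3,5,3,4,3,5,3,2,0,1,2,1,3,5,3,2,3,2,4,0,2,0,4,2,2,3,2,0,4,0,2,3,5,0,2,0,2,0,5,0,0,5,3,1,3,4,0,2,1,3,2,0,
  0,2,0,2,3,1],[1,3,2,3,5,3,2,3,2,3,4,3,5,1,3,3,5,0,1,5,0,0,2,3,2,4,3,2,4,3,1,1,3,2,3,5,3,2,3,2,3,4,3,5,1,3,3,5,
  0,1,5,0,0,2,3,2,4,3,2,4,3,1,5,5],[1,3,2,0,5,0,5,4,3,2,4,3,2,0,2,0,5,3,2,0,5,1,0,0,0,0,2,0,5,0,0,5,0,0,0,5,0,2,
  3,5,4,4,3,2,3,5,0,1,3,2,3,5,3,2,3,2,3,4,3,5,1,3,3,5,0,1,5,0,0,2,3,2,4,3,2,4,3,1,1,3,2,3,5,3,2,3,2,3,4,3,5,1,3,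
  3,5,0,1,5,0,0,2,3,2,4,3,2,4,3,1,1,3,2,3,5,3,2,3,2,3,4,3,5,1,3,3,5,0,1,5,0,0,2,3,2,4,3,2,4,3,1,5,5],[1,3,2,3,5,
  0,5,3,4,4,4,0,5,3,2,3,1,5,1,0,2,1,3,2,3,2,3,2,3,2,3,5,3,2,3,2,3,4,3,5,1,3,3,5,0,1,5,0,0,2,3,2,4,3,2,4,3,1,1,3,
  2,3,5,3,2,3,2,3,4,3,5,1,3,3,5,0,1,5,0,0,2,3,2,4,3,2,4,3,1],[5,0,0,0,5,3,4,4,5,3,5,0,5,5,3,5,0,5,4,0,5,0,0,2,4,
  0,4,5,5,0,1,1,2,3,2,3,2,3,2,0,2,3,4,2,3,5,0,2,4,0,2,0,5,5],[5,5,4,5,0,2,0,0,2,3,2,4,3,5,0,2,3,3,2,3,4,3,5,3,2,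
  3,4,3,5,0,1,1,3,2,3,5,3,2,3,2,3,4,3,5,1,3,3,5,0,1,5,0,0,2,3,2,4,3,2,4,3,1,1,3,2,3,5,3,2,3,2,3,4,3,5,1,3,3,5,0,
  1,5,0,0,2,3,2,4,3,2,4,3,1,1,3,2,3,5,3,2,3,2,3,4,3,5,1,3,3,5,0,1,5,0,0,2,3,2,4,3,2,4,3,1],[5,5]])
    (by decide +kernel) (by decide +kernel) ⟨rfl, rfl, rfl⟩

def sw : List (List ℕ) := [[1,3,4,0,5,3,0,2,3,2,5],[5,2,3,2,1,3,5,1,4,3,0],[3,2,4,3,4,2],[0,4,0,2,7],[3,2,4,3],[0,3,4,5,4,5,3,0,2,5],[0,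
  6,0,6,2],[7]]

theorem sr_0 : ∀ x < 31, allL [4,0,32,120550,122640,122753,122752] (fun b => Nat.beq (actW (fun i => actW act (nthL [] sw i)) (nthL [] Spor.JONa.rels x) b) b) = true :=
  forall_lt_add (a := 0) (b := 31) (fun _ h => absurd h (Nat.not_lt_zero _)) (by decide +kernel)

theorem aut : ∃ σ : MulAut Cfsg.Spor.ON, σ (W y cw) = W y cw ^ 1 ∧ σ (y 9) = y 9 ∧ σ (W y vw) = W y v0w :=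
  mdl.exists_aut (lifts_of_ltOk Spor.ONM.lt Spor.ONM.rp) (fun _ => rfl) sw sr_0 (mdl.rel_spec (by norm_num) rel).2.1 (by decide) top0
    (by decide +kernel)

theorem out : Nat.card (Cfsg.Out Cfsg.Spor.ON) = 2 := data.two aut <|
  noninner_one (by norm_num) (by decide) (mdl.rel_spec (by norm_num) rel).2.1
    (mdl.rel_spec (by norm_num) rel).2.2.1 (cent_conj (mdl.rel_spec (by norm_num) rel).2.2.2.1 (mdl.cent tpc))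
    (mdl.ne (b := 4) (by decide +kernel))

end Cfsg.Agent.Known.ONO
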