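import Cfsg.Agent.Known.SchurModel
import Cfsg.Agent.Known.Cover
import Cfsg.Agent.Spor.Dce5

/-! Tails on a presentation (helper25). Words are in a free alphabet (`2 i` is generator `i`, `2 i + 1` its inverse).
`TC σ g bs a t`: lifts `a` of the generators and the tails `t` of the relators `bs` in a central extension `σ`;
`TC.ident` (identities among relators), `TC.sub` (subgroups with known multiplier), `sbnd_of_tails`;
`SBnd.of_sub`, `SBnd.of_prime`. -/

set_option autoImplicit false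

namespace Cfsg.Agent.Known

open Cfsg.Agent.Comp Subgroup
open Cfsg.Agent.Spor hiding allL
open scoped IsMulCommutative

def lv {G : Type*} [Group G] (a : ℕ → G) (x : ℕ) : G := if x % 2 = 0 then a (x / 2) else (a (x / 2))⁻¹

def nx (x : ℕ) : ℕ := if x % 2 = 0 then x + 1 else x - 1

def fr (w : List ℕ) : List ℕ :=
  List.rec (motive := fun _ => List ℕ) [] (fun x _ ih => List.rec (motive := fun _ => List ℕ) [x]
    (fun y t _ => bif' (Nat.beq y (nx x)) t (x :: y :: t)) ih) w

def invF (w : List ℕ) : List ℕ := (w.map nx).reverse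

def prodF (bs : List (List ℕ)) (c : List (List ℕ × ℕ × Bool)) : List ℕ :=
  c.flatMap fun p => invF p.1 ++ (bif p.2.2 then nthL [] bs p.2.1 else invF (nthL [] bs p.2.1)) ++ p.1

def sp {A : Type*} [CommGroup A] (t : ℕ → A) (l : List (ℕ × ℤ)) : A := (l.map fun p => t p.1 ^ p.2).prod

def coef (l : List (ℕ × ℤ)) (j : ℕ) : ℤ :=
  List.rec (motive := fun _ => ℤ) 0 (fun p _ ih => bif' (Nat.beq p.1 j) (p.2 + ih) ih) l

def scl (n : ℤ) (l : List (ℕ × ℤ)) : List (ℕ × ℤ) := l.map fun p => (p.1, n * p.2)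

def zeroL (N : ℕ) (l : List (ℕ × ℤ)) : Bool :=
  band (allL l fun p => Nat.blt p.1 N) (allLt N fun j => decide (coef l j = 0))

def expo (w : List ℕ) : List (ℕ × ℤ) := w.map fun x => (x / 2, if x % 2 = 0 then 1 else -1)

def comb (Ls : List (List (ℕ × ℤ))) (c : List (ℕ × ℤ)) : List (ℕ × ℤ) := c.flatMap fun p => scl p.2 (nthL [] Ls p.1)

def idL (cs : List (List (List ℕ × ℕ × Bool))) : List (List (ℕ × ℤ)) :=
  cs.map fun c => c.map fun p => (p.2.1, bif p.2.2 then 1 else -1)

def mkL (rs : List (ℕ × List ℕ)) (v : List (ℕ × ℤ)) : List (ℕ × ℤ × List ℕ) :=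
  v.map fun q => ((nthL (0, []) rs q.1).1, q.2, (nthL (0, []) rs q.1).2)

def subL (rs : List (ℕ × List ℕ)) (vs : List (List (ℕ × ℤ))) : List (List (ℕ × ℤ)) :=
  vs.map fun v => (mkL rs v).map fun p => (p.1, p.2.1)

def trL (tr : List ℕ) (ws : List (List ℕ)) : List (List ℕ) := ws.map fun w => w.map fun x => tr.getD x 0

section
variable {G : Type*} [Group G] (a : ℕ → G)

theorem lv_nx (x : ℕ) : lv a (nx x) = (lv a x)⁻¹ := by
  unfold lv nx
  by_cases h : x % 2 = 0
  · rw [if_pos h, if_pos h, if_neg (by omega), show (x + 1) / 2 = x / 2 by omega]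
  · rw [if_neg h, if_neg h, if_pos (by omega), show (x - 1) / 2 = x / 2 by omega, inv_inv]

theorem ev_fr (w : List ℕ) : ev (lv a) (fr w) = ev (lv a) w := by
  induction w with
  | nil => rfl
  | cons x w ih =>
    have e : fr (x :: w) = List.rec (motive := fun _ => List ℕ) [x]
      (fun y t _ => bif' (Nat.beq y (nx x)) t (x :: y :: t)) (fr w) := rfl
    rw [ev_cons, ← ih, e]
    cases fr w with
    | nil => rfl
    | cons y t =>
      show ev _ (bif' (Nat.beq y (nx x)) t (x :: y :: t)) = _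
      cases h : Nat.beq y (nx x)
      · rfl
      · rw [bif'_true, ev_cons, nbeq.1 h, lv_nx, inv_mul_cancel_right]

theorem ev_invF (w : List ℕ) : ev (lv a) (invF w) = (ev (lv a) w)⁻¹ := by
  induction w with
  | nil => simp [invF]
  | cons x w ih =>
    rw [invF, List.map_cons, List.reverse_cons, ev_append, ← invF, ih]; simp [lv_nx]

theorem map_lv {H : Type*} [Group H] (f : G →* H) (x : ℕ) : f (lv a x) = lv (fun i => f (a i)) x := by
  unfold lv; split_ifs <;> simp
end

section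
variable {A : Type*} [CommGroup A] (t : ℕ → A)

theorem sp_cons (p : ℕ × ℤ) (l : List (ℕ × ℤ)) : sp t (p :: l) = t p.1 ^ p.2 * sp t l := by simp [sp]

theorem sp_append (l l' : List (ℕ × ℤ)) : sp t (l ++ l') = sp t l * sp t l' := by simp [sp]

theorem sp_scl (n : ℤ) (l : List (ℕ × ℤ)) : sp t (scl n l) = sp t l ^ n := by
  induction l with
  | nil => simp [sp, scl]
  | cons p l ih => rw [scl, List.map_cons, sp_cons, ← scl, ih, sp_cons, mul_zpow, mul_comm n, zpow_mul]

theorem sp_norm {N : ℕ} {l : List (ℕ × ℤ)} (h : ∀ p ∈ l, p.1 < N) :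
    sp t l = ∏ j ∈ Finset.range N, t j ^ coef l j := by
  induction l with
  | nil => simp [sp, coef]
  | cons p l ih =>
    have e : ∀ j, t j ^ coef (p :: l) j = (if p.1 = j then t j ^ p.2 else 1) * t j ^ coef l j := fun j => by
      show t j ^ bif' (Nat.beq p.1 j) (p.2 + coef l j) (coef l j) = _
      cases h : Nat.beq p.1 j
      · rw [if_neg (nbeq_false.1 h), one_mul]; rfl
      · rw [if_pos (nbeq.1 h), ← zpow_add]; rfl
    rw [sp_cons, ih fun q hq => h q (List.mem_cons_of_mem _ hq), Finset.prod_congr rfl fun j _ => e j,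
      Finset.prod_mul_distrib, Finset.prod_ite_eq, if_pos (Finset.mem_range.2 (h p List.mem_cons_self))]

theorem sp_zero {N : ℕ} {l : List (ℕ × ℤ)} (h : zeroL N l = true) : sp t l = 1 := by
  simp only [zeroL, band_eq, Bool.and_eq_true, allL_iff, allLt_iff, nblt, decide_eq_true_eq] at h
  rw [sp_norm t h.1]
  exact Finset.prod_eq_one fun j hj => by rw [h.2 j (Finset.mem_range.1 hj), zpow_zero]

theorem sp_comb (Ls : List (List (ℕ × ℤ))) (c : List (ℕ × ℤ)) :
    sp t (comb Ls c) = sp (fun i => sp t (nthL [] Ls i)) c := by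
  induction c with
  | nil => rfl
  | cons p c ih => rw [comb, List.flatMap_cons, sp_append, ← comb, ih, sp_cons, sp_scl]

theorem sp_range {n : ℕ} {l : List (ℕ × ℤ)} (h : ∀ p ∈ l, p.1 < n) :
    sp t l = sp t ((List.range n).map fun i => (i, coef l i)) := by
  rw [sp_norm t h, sp, List.map_map, ← List.prod_toFinset _ List.nodup_range, List.toFinset_range]
  rfl

theorem map_sp {B : Type*} [CommGroup B] (f : A →* B) (l : List (ℕ × ℤ)) : f (sp t l) = sp (fun i => f (t i)) l := by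
  simp [sp, map_list_prod, Function.comp_def]

theorem sp_mem {S : Subgroup A} (h : ∀ i, t i ∈ S) (l : List (ℕ × ℤ)) : sp t l ∈ S :=
  list_prod_mem fun _ hx => by obtain ⟨p, -, rfl⟩ := List.mem_map.1 hx; exact zpow_mem (h _) _

theorem ev_comm1 (w : List ℕ) : ev t w = sp t (w.map fun x => (x, 1)) := by
  induction w with
  | nil => rfl
  | cons x w ih => rw [ev_cons, ih, List.map_cons, sp_cons, zpow_one, mul_comm]
end

theorem ev_lv_mul {Γ : Type*} [Group Γ] (a : ℕ → Γ) (c : ℕ → center Γ) (w : List ℕ) :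
    ev (lv fun i => a i * c i) w = ev (lv a) w * (sp c (expo w) : center Γ) := by
  induction w with
  | nil => simp [sp, expo]
  | cons x w ih =>
    have e : lv (fun i => a i * c i) x = lv a x * (c (x / 2) ^ (if x % 2 = 0 then 1 else -1 : ℤ) : center Γ) := by
      unfold lv
      split_ifs
      · simp
      · rw [mul_inv_rev, zpow_neg_one, coe_inv]; exact (mem_center_iff.1 (inv_mem (c _).2) _).symm
    rw [ev_cons, ih, e, ev_cons, show expo (x :: w) = _ :: expo w from rfl, sp_cons, mul_comm (c _ ^ _), coe_mul, mul_assoc,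
      ← mul_assoc (sp c (expo w)).1, ← mem_center_iff.1 (sp c (expo w)).2]
    simp only [mul_assoc]

theorem SBnd.mul_pow {K : Type} [Group K] [Finite K] {k : ℕ} (h : SBnd K k []) {X : Type*} [Group X] {ξ : X →* K}
    (hξ : Schur.IsCentralExt ξ) {z : X} (hz : z ∈ Schur.mul ξ) : z ^ k = 1 := by
  obtain ⟨B, _, _, hB⟩ := Schur.exists_hasSchurMultiplier.{0, 0} K
  obtain ⟨f, hf⟩ := Schur.exists_surj_mul hB hξ
  obtain ⟨Γ, _, _, σ, hσ, ⟨e⟩⟩ := hB.1
  obtain ⟨cs, h1, h2⟩ := h Γ σ hσ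
  cases h1
  obtain ⟨b, hb⟩ := hf ⟨z, hz⟩
  obtain ⟨b, rfl⟩ := e.surjective b
  have : b ^ k = 1 := Subtype.ext (by simpa using h2 b b.2)
  have := congrArg (fun u => (f (e u) : X)) this
  simpa [hb] using this

theorem sbnd_nil {G : Type} [Group G] {m : ℕ} (h : ∀ (Γ : Type) [Group Γ] (σ : Γ →* G), IsStemExtension σ →
    ∀ z ∈ σ.ker, z ^ m = 1) : SBnd G m [] := fun Γ _ σ hσ =>
  ⟨[], .nil, fun z hz => h Γ σ hσ z hz ▸ one_mem _⟩

theorem SBnd.of_sub {G K : Type} [Group G] [Group K] [Finite G] {ι : K →* G} (hι : Function.Injective ι) {k n : ℕ}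
    (h : SBnd K k []) (hn : ι.range.index = n) : SBnd G (n * k) [] := sbnd_nil fun Γ _ σ hσ z hz => by
  have h1 := pow_index_mem_commutator hσ ι.range hz
  rw [← map_subtype_commutator] at h1
  obtain ⟨u, h2, h3⟩ := h1
  have h4 : σ u = 1 := by rw [show (u : Γ) = _ from h3]; exact σ.ker.pow_mem hz _
  have := (h.congr (MonoidHom.ofInjective hι)).mul_pow (ξ := σ.subgroupComap ι.range)
    ⟨σ.subgroupComap_surjective_of_surjective _ hσ.1, fun v hv => mem_center_iff.2 fun w =>
      Subtype.ext (mem_center_iff.1 (hσ.2.1 (congrArg Subtype.val hv)) w)⟩ (z := u) ⟨Subtype.ext h4, h2⟩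
  rw [pow_mul, ← hn, ← h3]
  exact congrArg Subtype.val this

theorem SBnd.of_prime {G : Type} [Group G] [Finite G] {p m : ℕ} (hp : p.Prime) (h : Nat.card G = p * m) :
    SBnd G m [] := fun _ _ _ hσ => by
  haveI := Fact.mk hp
  obtain ⟨g, hg⟩ := exists_prime_orderOf_dvd_card' (G := G) p ⟨m, h⟩
  exact Bnd.of_cyclic hσ g hg h

theorem SBnd.of_card {G : Type} [Group G] [Finite G] {m : ℕ} (h : Nat.card G = m) : SBnd G m [] :=
  fun _ _ _ hσ => Bnd.of_cyclic hσ 1 orderOf_one (by rwa [one_mul])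

/-- lifts and tails. -/
structure TC {Γ G : Type} [Group Γ] [Group G] (σ : Γ →* G) (g : ℕ → G) (bs : List (List ℕ)) (m : ℕ) (a : ℕ → Γ)
    (t : ℕ → center Γ) : Prop where
  cen : Schur.IsCentralExt σ
  exp : ∀ z ∈ σ.ker, z ^ m = 1
  lift : ∀ i, σ (a i) = g i
  tail : ∀ j, ev (lv a) (nthL [] bs j) = t j
  ker : ∀ j, σ (t j) = 1

namespace TC
variable {Γ G : Type} [Group Γ] [Group G] {σ : Γ →* G} {g : ℕ → G} {bs : List (List ℕ)} {m : ℕ} {a : ℕ → Γ}
  {t : ℕ → center Γ} (T : TC σ g bs m a t)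
include T

theorem cop {l : List (ℕ × ℤ)} {k : ℕ} (hk : k.Coprime m) (h : sp t l ^ k = 1) : sp t l = 1 := by
  have h1 : sp t l ^ m = 1 := Subtype.ext (T.exp _ (sp_mem t (S := σ.ker.subgroupOf _) T.ker l))
  exact (pow_eq_one_iff_of_coprime hk).1 ⟨h, h1⟩

theorem ident (c : List (List ℕ × ℕ × Bool)) (h : fr (prodF bs c) = []) :
    sp t (c.map fun p => (p.2.1, bif p.2.2 then 1 else -1)) = 1 := by
  have : ev (lv a) (prodF bs c) = (sp t (c.map fun p => (p.2.1, bif p.2.2 then 1 else -1)) : center Γ) := by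
    clear h
    induction c with
    | nil => rfl
    | cons p c ih =>
      have e : ev (lv a) (bif p.2.2 then nthL [] bs p.2.1 else invF (nthL [] bs p.2.1)) =
          (t p.2.1 ^ (bif p.2.2 then 1 else -1 : ℤ) : center Γ) := by
        cases p.2.2 <;> simp [ev_invF, T.tail]
      rw [prodF, List.flatMap_cons, ev_append, ← prodF, ih, ev_append, ev_append, ev_invF, e, List.map_cons, sp_cons,
        mul_comm (t _ ^ _), coe_mul, ← mem_center_iff.1 (t p.2.1 ^ _).2, mul_inv_cancel_left]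
  rw [← ev_fr, h] at this
  exact Subtype.ext this.symm

theorem sub {K : Type} [Group K] [Finite K] {y : ℕ → K} {ι : K →* G} {n k : ℕ} {ws : List (List ℕ)}
    (hι : ∀ i < n, ι (y i) = ev (lv g) (ws.getD i [])) (hK : SBnd K k []) (hk : k.Coprime m)
    (l : List (ℕ × ℤ × List ℕ)) (h1 : ∀ r ∈ l.map (·.2.2), ev y r = 1)
    (h2 : band (allL l fun p => decide (fr (nthL [] bs p.1) = fr (renW ws p.2.2)))
      (zeroL n (l.flatMap fun p => p.2.2.map fun x => (x, p.2.1))) = true) :
    sp t (l.map fun p => (p.1, p.2.1)) = 1 := by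
  rw [band_eq, Bool.and_eq_true, allL_iff] at h2
  have h3 := h2.2
  simp only [zeroL, band_eq, Bool.and_eq_true, allL_iff, nblt] at h3
  let P : Subgroup (Γ × K) := (σ.comp (MonoidHom.fst _ _)).eqLocus (ι.comp (MonoidHom.snd _ _))
  let π : P →* K := (MonoidHom.snd _ _).comp P.subtype
  have hπ : Schur.IsCentralExt π := ⟨fun k => let ⟨u, hu⟩ := T.cen.surj (ι k); ⟨⟨(u, k), hu⟩, rfl⟩, fun v hv => by
    have h4 : v.1.2 = 1 := hv
    have h5 : σ v.1.1 = 1 := by rw [show σ v.1.1 = ι v.1.2 from v.2, h4, map_one]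
    exact mem_center_iff.2 fun w => Subtype.ext (Prod.ext (mem_center_iff.1 (T.cen.central h5) _) (by simp [h4]))⟩
  have hb : ∀ i, ∃ b : P, i < n → b.1 = (ev (lv a) (ws.getD i []), y i) := fun i => by
    by_cases hi : i < n
    · refine ⟨⟨(_, y i), ?_⟩, fun _ => rfl⟩
      show σ (ev _ _) = ι (y i)
      rw [hι i hi, map_ev]; congr 1; funext x; rw [map_lv, funext T.lift]
    · exact ⟨1, fun h => absurd h hi⟩
  choose b hb using hb
  let τ : σ.ker.subgroupOf (center Γ) →* P := MonoidHom.codRestrict ((MonoidHom.inl Γ K).comp ((center Γ).subtype.comp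
    (Subgroup.subtype _))) P fun v => by
      show σ v.1.1 = ι 1
      rw [map_one]; exact v.2
  let t' : ℕ → σ.ker.subgroupOf (center Γ) := fun j => ⟨t j, T.ker j⟩
  have key : ∀ p ∈ l, τ (t' p.1) = ev b p.2.2 := fun p hp => by
    have hl : ∀ x ∈ p.2.2, x < n := fun x hx => h3.1 (x, p.2.1) (List.mem_flatMap.2 ⟨p, hp, List.mem_map.2 ⟨x, hx, rfl⟩⟩)
    refine Subtype.ext (Prod.ext ?_ ?_)
    · have := map_ev ((MonoidHom.fst _ _).comp P.subtype) b p.2.2
      rw [ev_congr (g' := renG (lv a) ws) fun x hx => by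
        rw [renG, getL_eq_getD]; exact congrArg Prod.fst (hb x (hl x hx)), ev_renG, ← ev_fr,
        ← of_decide_eq_true (h2.1 p hp), ev_fr, T.tail] at this
      exact this.symm
    · have := map_ev π b p.2.2
      rw [ev_congr (g := fun x => π (b x)) (g' := y) fun x hx => congrArg Prod.snd (hb x (hl x hx)), h1 _ (List.mem_map_of_mem hp)] at this
      exact this.symm
  have h6 : Abelianization.of (τ (sp t' (l.map fun p => (p.1, p.2.1)))) = 1 := by
    rw [← sp_zero (fun i => Abelianization.of (b i)) h2.2, ← MonoidHom.comp_apply, map_sp]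
    clear h2 h3 h1
    induction l with
    | nil => rfl
    | cons p l ih =>
      rw [List.map_cons, sp_cons, ih fun q hq => key q (List.mem_cons_of_mem _ hq), List.flatMap_cons, sp_append,
        MonoidHom.comp_apply, key p List.mem_cons_self, map_ev, ev_comm1, ← sp_scl]
      simp [scl, Function.comp_def]
  refine T.cop hk ?_
  have := hK.mul_pow hπ (z := τ (sp t' (l.map fun p => (p.1, p.2.1)))) ⟨rfl, by
    rwa [← MonoidHom.mem_ker, Abelianization.ker_of] at h6⟩
  rw [← map_pow] at this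
  have h7 := congrArg (fun u : P => u.1.1) this
  rw [← show (Subgroup.subtype _) (sp t' (l.map fun p => (p.1, p.2.1))) = sp t _ from map_sp t' _ _, ← map_pow]
  exact Subtype.ext h7

theorem idents (cs : List (List (List ℕ × ℕ × Bool))) (h : allL cs (fun c => decide (fr (prodF bs c) = [])) = true) :
    ∀ L ∈ idL cs, sp t L = 1 := List.forall_mem_map.2 fun c hc => T.ident c (of_decide_eq_true (allL_iff.1 h c hc))

theorem subs {K : Type} [Group K] [Finite K] {y : ℕ → K} {ι : K →* G} {n k : ℕ} {ws : List (List ℕ)}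
    (hι : ∀ i < n, ι (y i) = ev (lv g) (ws.getD i [])) (hK : SBnd K k []) (hk : k.Coprime m)
    {rs : List (ℕ × List ℕ)} (h1 : ∀ r ∈ rs.map Prod.snd, ev y r = 1) (vs : List (List (ℕ × ℤ)))
    (h2 : allL vs (fun v => band (allL (mkL rs v) fun p => decide (fr (nthL [] bs p.1) = fr (renW ws p.2.2)))
      (zeroL n ((mkL rs v).flatMap fun p => p.2.2.map fun x => (x, p.2.1)))) = true) :
    ∀ L ∈ subL rs vs, sp t L = 1 := List.forall_mem_map.2 fun v hv => T.sub hι hK hk _ (fun r hr => by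
  obtain ⟨_, h3, rfl⟩ := List.mem_map.1 hr
  obtain ⟨q, -, rfl⟩ := List.mem_map.1 h3
  rcases nthL_mem_or (0, []) rs q.1 with h | h
  · exact h1 _ (List.mem_map_of_mem h)
  · show ev y (nthL (0, []) rs q.1).2 = 1
    rw [h]; rfl) (allL_iff.1 h2 v hv)

end TC

section
variable {G : Type} [Group G] {g : ℕ → G} {nl : ℕ} {tr : List ℕ} {g0 : ℕ → G}

theorem tr_of_inv {iv gi : List ℕ} (hi : InvOk g nl iv) (h : allLt nl (fun j => decide (if tr.getD j 0 % 2 = 0 then
      gi.getD (tr.getD j 0 / 2) 0 = j else gi.getD (tr.getD j 0 / 2) 0 < nl ∧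
        getL iv 0 (gi.getD (tr.getD j 0 / 2) 0) = j)) = true) :
    ∀ j < nl, g j = lv (fun i => g (gi.getD i 0)) (tr.getD j 0) := fun j hj => by
  have := of_decide_eq_true (allLt_iff.1 h j hj)
  unfold lv
  split_ifs at this ⊢
  · exact congrArg g this.symm
  · exact (congrArg g this.2).symm.trans (eq_inv_of_mul_eq_one_left (hi _ this.1).2)

theorem ev_tr (htr : ∀ j < nl, g j = lv g0 (tr.getD j 0)) {w : List ℕ} (hw : ∀ x ∈ w, x < nl) :
    ev (lv g0) (w.map fun x => tr.getD x 0) = ev g w := by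
  rw [ev_map]; exact ev_congr fun x hx => (htr x (hw x hx)).symm

theorem rels_tr (htr : ∀ j < nl, g j = lv g0 (tr.getD j 0)) {rels : List (List ℕ)}
    (hl : chkLet (List.range nl) rels = true) (hg : ∀ r ∈ rels, ev g r = 1) :
    ∀ r ∈ trL tr rels, ev (lv g0) r = 1 :=
  List.forall_mem_map.2 fun r hr => (ev_tr htr (lt_of_chkLet hl r hr)).trans (hg r hr)

theorem hom_tr (htr : ∀ j < nl, g j = lv g0 (tr.getD j 0)) {K : Type} [Group K] {y : ℕ → K} {ι : K →* G} {n : ℕ}
    {jl : List (List ℕ)} (h : ∀ x < n, ι (y x) = renG g jl x) (hl : chkLet (List.range nl) jl = true) :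
    ∀ i < n, ι (y i) = ev (lv g0) ((trL tr jl).getD i []) := fun i hi => by
  rw [h i hi, renG, getL_eq_getD, ← ev_tr htr (getL_eq_getD jl [] i ▸
    getL_prop (p := fun w => ∀ x ∈ w, x < nl) jl [] i (by simp) (lt_of_chkLet hl))]
  exact congrArg _ (List.getD_map _ [] (f := fun w => w.map fun x => tr.getD x 0)).symm

theorem rels_sub {K : Type} [Group K] {y : ℕ → K} {ι : K →* G} {n : ℕ} {ws rs : List (List ℕ)}
    (hι : ∀ i < n, ι (y i) = ev (lv g0) (ws.getD i [])) (hl : chkLet (List.range n) rs = true)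
    (h : ∀ r ∈ rs, ev y r = 1) : ∀ r ∈ rs.map (renW ws), ev (lv g0) r = 1 := List.forall_mem_map.2 fun r hr => by
  rw [← ev_renG, ← map_one ι, ← h r hr, map_ev]
  exact ev_congr fun x hx => by rw [hι x (lt_of_chkLet hl r hr x hx), renG, getL_eq_getD]
end

def finB (bs rels : List (List ℕ)) (tr : List ℕ) (n k : ℕ) (cs Ls : List (List (ℕ × ℤ)))
    (fs : List (ℕ × List (ℕ × ℤ))) : Bool :=
  band (decide (rels.map (fun r => fr (r.map fun x => tr.getD x 0)) = fs.map fun f => fr (nthL [] bs f.1)))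
    (allL fs fun f => band (allL (expo (nthL [] bs f.1)) fun p => Nat.blt p.1 n) (zeroL bs.length
      (scl k ((f.1, 1) :: comb cs ((List.range n).map fun i => (i, coef (expo (nthL [] bs f.1)) i))) ++ comb Ls f.2)))

theorem sbnd_of_tails {G : Type} [Group G] {g g0 : ℕ → G} {nl : ℕ} {rels : List (List ℕ)} (hL : Lifts g nl rels)
    (top : genL g (List.range nl) = ⊤) {tr : List ℕ} (htr : ∀ j < nl, g j = lv g0 (tr.getD j 0))
    {bs : List (List ℕ)} (hbs : ∀ r ∈ bs, ev (lv g0) r = 1) {u m n k : ℕ} (h0 : SBnd G (u * m) []) (hk : k.Coprime m)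
    {cs Ls : List (List (ℕ × ℤ))} {fs : List (ℕ × List (ℕ × ℤ))} (hf : finB bs rels tr n k cs Ls fs = true)
    (H : ∀ (Γ : Type) [Group Γ] (σ : Γ →* G) a t, TC σ g0 bs m a t → ∀ L ∈ Ls, sp t L = 1) : SBnd G u [] := by
  have main : ∀ (Γ : Type) [Group Γ] (σ : Γ →* G), IsStemExtension σ → (∀ z ∈ σ.ker, z ^ m = 1) →
      ∀ z ∈ σ.ker, z = 1 := fun Γ _ σ hσ hm z hz => by
    choose a ha using fun i => hσ.1 (g0 i)
    have k1 : ∀ j, σ (ev (lv a) (nthL [] bs j)) = 1 := fun j => by
      rw [map_ev, show (fun x => σ (lv a x)) = lv g0 from funext fun x => by rw [map_lv, funext ha]]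
      rcases nthL_mem_or [] bs j with h | h
      · exact hbs _ h
      · rw [h]; rfl
    let t : ℕ → center Γ := fun j => ⟨_, hσ.2.1 (k1 j)⟩
    have T : TC σ g0 bs m a t := ⟨Schur.isCentralExt_of_stem hσ, hm, ha, fun _ => rfl, k1⟩
    let c : ℕ → center Γ := fun i => sp t (nthL [] cs i)
    simp only [finB, band_eq, Bool.and_eq_true, decide_eq_true_eq, allL_iff, nblt] at hf
    obtain ⟨ψ, hψ⟩ := hL Γ (fun j => lv (fun i => a i * c i) (tr.getD j 0)) fun r hr => by
      obtain ⟨f, f1, f2⟩ := List.mem_map.1 (hf.1 ▸ List.mem_map_of_mem hr)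
      have h1 := sp_zero t (hf.2 f f1).2
      rw [sp_append, sp_comb t Ls, show (fun i => sp t (nthL [] Ls i)) = fun _ => 1 from funext fun i => by
        rcases nthL_mem_or [] Ls i with h | h
        · exact H Γ σ a t T _ h
        · rw [h]; rfl, mem_bot.1 (sp_mem (S := ⊥) _ (fun _ => one_mem _) f.2), mul_one, sp_scl, zpow_natCast] at h1
      have h2 := T.cop hk h1
      rw [sp_cons, zpow_one, sp_comb, ← sp_range _ (hf.2 f f1).1] at h2
      rw [← ev_map (lv _) fun j => tr.getD j 0, ← ev_fr, ← f2, ev_fr, ev_lv_mul, T.tail]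
      exact congrArg Subtype.val h2
    have h1 : ∀ x, σ (ψ x) = x := fun x => by
      have : genL g (List.range nl) ≤ (σ.comp ψ).eqLocus (MonoidHom.id G) := genL_le fun j hj => by
        show σ (ψ (g j)) = g j
        rw [hψ j (List.mem_range.1 hj), map_lv, htr j (List.mem_range.1 hj)]
        congr 1; funext i
        rw [map_mul, ha, show σ (c i) = 1 from sp_mem t (S := σ.ker.subgroupOf _) k1 _, mul_one]
      exact this (top ▸ mem_top x)
    have h2 : commutator Γ ≤ ψ.range := commutator_le.2 fun u _ v _ => by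
      have k : ∀ u : Γ, (ψ (σ u))⁻¹ * u ∈ center Γ := fun u => hσ.2.1 (by simp [h1])
      have := Schur.commutatorElement_mul_central (x := ψ (σ u)) (y := ψ (σ v)) (k u) (k v)
      rw [mul_inv_cancel_left, mul_inv_cancel_left, ← map_commutatorElement] at this
      exact ⟨_, this.symm⟩
    obtain ⟨x, rfl⟩ := h2 (hσ.2.2 hz)
    rw [← h1 x, show σ (ψ x) = 1 from hz, map_one]
  refine sbnd_nil fun Γ _ σ hσ z hz => ?_
  obtain ⟨cs, h1, h2⟩ := h0 Γ σ hσ
  cases h1
  let Z : Subgroup Γ :=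
    { carrier := {z | z ∈ σ.ker ∧ z ^ u = 1}
      one_mem' := ⟨one_mem _, one_pow _⟩
      mul_mem' := fun {x y} hx hy => ⟨mul_mem hx.1 hy.1, by
        rw [Commute.mul_pow (mem_center_iff.1 (hσ.2.1 hy.1) x), hx.2, hy.2, one_mul]⟩
      inv_mem' := fun hx => ⟨inv_mem hx.1, by rw [inv_pow, hx.2, inv_one]⟩ }
  haveI : Z.Normal := Schur.normal_of_le_center fun _ h => hσ.2.1 h.1
  let σ' : Γ ⧸ Z →* G := QuotientGroup.lift Z σ fun _ h => h.1
  have := main _ σ' ⟨fun x => let ⟨y, hy⟩ := hσ.1 x; ⟨y, hy⟩, ?_, ?_⟩ ?_ z hz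
  · exact ((QuotientGroup.eq_one_iff z).1 this).2
  · intro x hx
    obtain ⟨x, rfl⟩ := QuotientGroup.mk_surjective x
    refine mem_center_iff.2 fun y => ?_
    obtain ⟨y, rfl⟩ := QuotientGroup.mk_surjective y
    exact congrArg QuotientGroup.mk (mem_center_iff.1 (hσ.2.1 hx) y)
  · intro x hx
    obtain ⟨x, rfl⟩ := QuotientGroup.mk_surjective x
    have := mem_map_of_mem (QuotientGroup.mk' Z) (hσ.2.2 hx)
    rw [map_commutator_eq] at this
    exact commutator_mono le_top le_top this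
  · intro x hx
    obtain ⟨x, rfl⟩ := QuotientGroup.mk_surjective x
    refine (QuotientGroup.eq_one_iff (x ^ m)).2 ⟨pow_mem hx m, ?_⟩
    rw [← pow_mul, mul_comm]
    simpa using h2 x hx

end Cfsg.Agent.Known
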