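import Cfsg.Agent.Leech.Code
import Cfsg.Agent.Comp.F2
import Cfsg.Agent.Comp.Class
import Cfsg.Prelude.Def_Spor_Ru

/-! Real coordinates `nx`, the form `B` and codes (`PB`, `ofC`, `dotO`, `rawV`, `R4`, `red`) for the rank 28 Gaussian lattice
(helper25). -/

set_option autoImplicit false
set_option exponentiation.threshold 100000

namespace Cfsg.Agent.Known.RuL

open Cfsg.Spor Cfsg.Agent.Comp Finset
open Cfsg.Agent.Leech (sumLt sumLt_eq pack_eq_sum eq_pack mod_pred_eq)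

abbrev V := RuVec
abbrev LL := ↥ruLattice

def ix (p : ℕ) : RuIdx := (Fin.ofNat 7 (p / 8), Fin.ofNat 4 (p / 2))
def en (q : RuIdx) : ℕ := 8 * q.1 + 2 * q.2
/-- real coordinates. -/
def nx (x : V) (p : ℕ) : ℤ := if p % 2 = 0 then (x (ix p)).re else (x (ix p)).im
def ofR (f : ℕ → ℤ) : V := fun q => ⟨f (en q), f (en q + 1)⟩

theorem en_spec : ∀ q, ix (en q) = q ∧ ix (en q + 1) = q ∧ en q % 2 = 0 ∧ en q + 1 < 56 := by decide
theorem nx_en (x : V) (q) : nx x (en q) = (x q).re := by rw [nx, if_pos (en_spec q).2.2.1, (en_spec q).1]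
theorem nx_en' (x : V) (q) : nx x (en q + 1) = (x q).im := by
  rw [nx, if_neg (by have := en_spec q; omega), (en_spec q).2.1]
theorem exists_en : ∀ p < 56, ∃ q, p = en q ∨ p = en q + 1 := by decide
theorem nx_ofR (f : ℕ → ℤ) {p : ℕ} (hp : p < 56) : nx (ofR f) p = f p := by
  obtain ⟨q, rfl | rfl⟩ := exists_en p hp
  exacts [nx_en _ q, nx_en' _ q]
theorem ext_nx {x y : V} (h : ∀ p < 56, nx x p = nx y p) : x = y := funext fun q => by
  have := en_spec q
  exact Zsqrtd.ext (by rw [← nx_en, ← nx_en, h _ (by omega)]) (by rw [← nx_en', ← nx_en', h _ (by omega)])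

def nxH (p : ℕ) : V →+ ℤ := AddMonoidHom.mk' (nx · p) fun x y => by unfold nx; split_ifs <;> rfl
theorem nx_add (x y : V) (p) : nx (x + y) p = nx x p + nx y p := (nxH p).map_add x y
theorem nx_sub (x y : V) (p) : nx (x - y) p = nx x p - nx y p := (nxH p).map_sub x y
theorem nx_neg (x : V) (p) : nx (-x) p = -nx x p := (nxH p).map_neg x
theorem nx_zero (p) : nx 0 p = 0 := (nxH p).map_zero
theorem nx_smul (k : ℤ) (x : V) (p) : nx (k • x) p = k * nx x p := (nxH p).map_zsmul k x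
theorem nx_sum {ι : Type*} (s : Finset ι) (x : ι → V) (p) : nx (∑ i ∈ s, x i) p = ∑ i ∈ s, nx (x i) p := map_sum (nxH p) x s

theorem sum_en {M : Type*} [AddCommMonoid M] (F : ℕ → M) : ∑ p ∈ range 56, F p = ∑ q, (F (en q) + F (en q + 1)) := by
  simp only [sum_range_succ, Fintype.sum_prod_type, Fin.sum_univ_succ, en, range_zero, sum_empty, univ_eq_empty,
    Fin.val_succ, Fin.val_zero, zero_add, add_zero, add_assoc, Nat.reduceAdd, Nat.reduceMul]

def B (x y : V) : ℤ := ∑ p ∈ range 56, nx x p * nx y p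

theorem norm_eq (x : V) : ruNorm x = B x x := by
  rw [B, sum_en]; exact sum_congr rfl fun q _ => by rw [nx_en, nx_en', Zsqrtd.norm_def]; ring
theorem B_comm (x y : V) : B x y = B y x := sum_congr rfl fun _ _ => mul_comm _ _
theorem B_add (x y z : V) : B (x + y) z = B x z + B y z := by simp only [B, nx_add, add_mul, sum_add_distrib]
theorem B_neg (x y : V) : B (-x) y = -B x y := by simp only [B, nx_neg, neg_mul, sum_neg_distrib]
theorem B_zero (y : V) : B 0 y = 0 := by simp [B, nx_zero]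
theorem B_smul (k : ℤ) (x y : V) : B (k • x) y = k * B x y := by simp only [B, nx_smul, mul_sum, mul_assoc]
theorem B_sum {ι : Type*} (s : Finset ι) (x : ι → V) (y : V) : B (∑ i ∈ s, x i) y = ∑ i ∈ s, B (x i) y := by
  simp only [B, nx_sum, sum_mul]; exact sum_comm
theorem N_add (x y : V) : B (x + y) (x + y) = B x x + 2 * B x y + B y y := by
  rw [B_add, B_comm, B_add, B_comm y (x + y), B_add, B_comm y x]; ring
theorem N_smul (k : ℤ) (x : V) : B (k • x) (k • x) = k * k * B x x := by rw [B_smul, B_comm, B_smul, mul_assoc]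
theorem sq_le (x : V) {p : ℕ} (hp : p < 56) : nx x p * nx x p ≤ B x x :=
  single_le_sum (f := fun p => nx x p * nx x p) (fun _ _ => mul_self_nonneg _) (mem_range.2 hp)
theorem abs_le_of {x : V} {k : ℤ} (hk : 0 ≤ k) (h : B x x ≤ k * k) {p : ℕ} (hp : p < 56) : |nx x p| ≤ k :=
  abs_le_of_sq_le_sq' (by have := sq_le x hp; nlinarith) hk |> abs_le.2
theorem eq_zero {x : V} (h : B x x = 0) : x = 0 := ext_nx fun p hp => by
  have := abs_le_of le_rfl h.le hp
  rwa [abs_nonpos_iff, ← nx_zero p] at this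
theorem finite_le (n : ℤ) : {x : V | B x x ≤ n}.Finite :=
  ((Leech.finite_le (α := Fin 56) n).preimage (f := fun (x : V) (p : Fin 56) => nx x p)
    fun _ _ _ _ h => ext_nx fun p hp => congrFun h ⟨p, hp⟩).subset fun x hx => by
    rw [Set.mem_preimage, Set.mem_ofPred_eq, Leech.sqNorm_eq, dotInt, Fin.sum_univ_eq_sum_range fun p => nx x p * nx x p]
    exact hx

/-! ### codes -/

def ZF (f : ℕ → ℤ) : ℤ := ∑ p ∈ range 56, f p * 2 ^ (12 * p)
def OO : ℕ := (2 ^ 672 - 1) / 4095 * 4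
def MM : ℕ := 2 ^ 672 - 1
abbrev dg (a p : ℕ) : ℕ := get 12 4095 a p

theorem OO_eq (k : ℤ) : k * OO = ZF fun _ => k * 4 := by
  rw [show (OO : ℤ) = ZF fun _ => 4 by decide +kernel, ZF, ZF, mul_sum]; simp only [mul_assoc]
theorem MM_eq : MM + 1 = 2 ^ 672 := by decide +kernel
theorem ZF_add (f g : ℕ → ℤ) : ZF f + ZF g = ZF fun p => f p + g p := by simp only [ZF, add_mul, sum_add_distrib]
theorem ZF_nonneg {f : ℕ → ℤ} (h : ∀ p < 56, 0 ≤ f p) : 0 ≤ ZF f :=
  sum_nonneg fun p hp => mul_nonneg (h p (mem_range.1 hp)) (by positivity)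
theorem ZF_dg {a : ℕ} (ha : a < 2 ^ 672) : (a : ℤ) = ZF fun p => dg a p := by
  conv_lhs => rw [eq_pack (w := 12) (n := 56) rfl ha, pack_eq_sum fun _ _ => get_lt rfl _ _]
  push_cast; rfl

theorem of_ZF {a : ℕ} {f : ℕ → ℤ} (h : (a : ℤ) = ZF f) (hf : ∀ p < 56, 0 ≤ f p ∧ f p < 4096) :
    a < 2 ^ 672 ∧ ∀ p < 56, (dg a p : ℤ) = f p := by
  have h0 : ∀ p < 56, (f p).toNat < 2 ^ 12 := fun p hp => by have := hf p hp; omega
  have : a = pack 12 56 fun p => (f p).toNat := by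
    rw [pack_eq_sum h0, ← Nat.cast_inj (R := ℤ), h]; push_cast
    exact sum_congr rfl fun p hp => by rw [Int.toNat_of_nonneg (hf p (mem_range.1 hp)).1]
  subst this
  exact ⟨pack_lt h0, fun p hp => by rw [dg, get_pack rfl h0 hp, Int.toNat_of_nonneg (hf p hp).1]⟩

/-- `a` codes the vector `x` with entries in `[-4, 4]`. -/
def PB (a : ℕ) (x : V) : Prop := a < 2 ^ 672 ∧ ∀ p < 56, (dg a p : ℤ) = nx x p + 4 ∧ dg a p ≤ 8

theorem PB.eq {a : ℕ} {x : V} (h : PB a x) : (a : ℤ) = ZF (nx x) + OO := by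
  rw [ZF_dg h.1, ← one_mul (OO : ℤ), OO_eq, ZF_add]
  exact sum_congr rfl fun p hp => by simp only [(h.2 p (mem_range.1 hp)).1, one_mul]
theorem PB_of {a : ℕ} {x : V} (h : (a : ℤ) = ZF (nx x) + OO) (hx : B x x ≤ 16) : PB a x := by
  rw [← one_mul (OO : ℤ), OO_eq, ZF_add] at h
  have hb (p) (hp : p < 56) := abs_le.1 (abs_le_of (k := 4) (by norm_num) hx hp)
  obtain ⟨h1, h2⟩ := of_ZF h fun p hp => by have := hb p hp; omega
  exact ⟨h1, fun p hp => by have := hb p hp; have := h2 p hp; omega⟩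
theorem PB.func {a : ℕ} {x y : V} (h : PB a x) (h' : PB a y) : x = y :=
  ext_nx fun p hp => add_right_cancel ((h.2 p hp).1.symm.trans (h'.2 p hp).1)
theorem PB.canon {a b : ℕ} {x : V} (h : PB a x) (h' : PB b x) : a = b := Nat.cast_inj.1 (h.eq.trans h'.eq.symm)
theorem PB.mod {a : ℕ} {x : V} (h : PB a x) : ((a % 4095 : ℕ) : ℤ) = ∑ p ∈ range 56, nx x p + 224 := by
  rw [mod_pred_eq (w := 12) (n := 56) rfl h.1
    ((sum_le_card_nsmul _ _ 8 fun p hp => (h.2 p (mem_range.1 hp)).2).trans_lt (by decide))]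
  push_cast
  rw [sum_congr rfl fun p hp => (h.2 p (mem_range.1 hp)).1, sum_add_distrib]; rfl
theorem PB.le {a : ℕ} {x : V} (h : PB a x) : a ≤ 2 * OO := by
  rw [← Nat.cast_le (α := ℤ), ZF_dg h.1, Nat.cast_mul, OO_eq]
  exact sum_le_sum fun p hp => mul_le_mul_of_nonneg_right (by have := (h.2 p (mem_range.1 hp)).2; dsimp only; omega) (by positivity)

def ofC (a : ℕ) : V := ofR fun p => (dg a p : ℤ) - 4
def okV (a : ℕ) : Bool := band (Nat.ble a MM) (allLt 56 fun p => Nat.ble (dg a p) 8)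

theorem okV_spec {a : ℕ} (h : okV a = true) : PB a (ofC a) := by
  simp only [okV, band_eq, Bool.and_eq_true, nble, allLt_iff] at h
  exact ⟨by have := MM_eq; omega, fun p hp => ⟨by rw [ofC, nx_ofR _ hp, sub_add_cancel], h.2 p hp⟩⟩

/-- inner product plus 896. -/
def dotO (a b : ℕ) : ℕ := Nat.sub (Nat.add (sumLt 56 fun p => Nat.mul (dg a p) (dg b p)) 1792)
  (Nat.mul 4 (Nat.add (Nat.mod a 4095) (Nat.mod b 4095)))

theorem PB.dot {a b : ℕ} {x y : V} (h : PB a x) (h' : PB b y) : (dotO a b : ℤ) = B x y + 896 := by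
  have h1 : ((∑ p ∈ range 56, dg a p * dg b p : ℕ) : ℤ) =
      B x y + 4 * ∑ p ∈ range 56, nx x p + 4 * ∑ p ∈ range 56, nx y p + ∑ _p ∈ range 56, 16 := by
    push_cast
    simp only [B, mul_sum, ← sum_add_distrib]
    exact sum_congr rfl fun p hp => by rw [(h.2 p (mem_range.1 hp)).1, (h'.2 p (mem_range.1 hp)).1]; ring
  have h2 : ∑ _p ∈ range 56, (-16 : ℤ) ≤ B x y := sum_le_sum fun p hp => by
    have := h.2 p (mem_range.1 hp); have := h'.2 p (mem_range.1 hp)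
    have : -4 ≤ nx x p ∧ nx x p ≤ 4 ∧ -4 ≤ nx y p ∧ nx y p ≤ 4 := by omega
    nlinarith
  have := h.mod; have := h'.mod
  simp only [sum_const, card_range, nsmul_eq_mul] at h1 h2
  rw [dotO, sumLt_eq]
  show ((∑ p ∈ range 56, dg a p * dg b p + 1792 - 4 * (a % 4095 + b % 4095) : ℕ) : ℤ) = _
  omega

abbrev cl (c p : ℕ) : ℕ := get 672 MM c p

/-- four times the code of the image. -/
def rawV (c a : ℕ) : ℕ := Nat.sub (Nat.add (sumLt 56 fun p => Nat.mul (dg a p) (cl c p)) (Nat.mul 228 OO))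
  (Nat.add (Nat.mul OO (Nat.mod a 4095)) (Nat.mul 4 (Nat.mod c MM)))

theorem ZF_lin (x : V) (C : ℕ → V) :
    ZF (nx (∑ p ∈ range 56, nx x p • C p)) = ∑ p ∈ range 56, nx x p * ZF (nx (C p)) := by
  simp only [ZF, nx_sum, nx_smul, sum_mul, mul_sum, mul_assoc]; exact sum_comm

theorem rawV_spec {c a : ℕ} {C : ℕ → V} {x y : V} (hc : c < 2 ^ (672 * 56)) (hC : ∀ p < 56, PB (cl c p) (C p))
    (h : PB a x) (hy : y = ∑ p ∈ range 56, nx x p • C p) (hb : B y y ≤ 256) : (rawV c a : ℤ) = ZF (nx y) + 4 * OO := by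
  have h1 : ((∑ p ∈ range 56, dg a p * cl c p : ℕ) : ℤ) = ZF (nx y) + OO * ∑ p ∈ range 56, nx x p +
      4 * ∑ p ∈ range 56, ZF (nx (C p)) + ∑ _p ∈ range 56, (4 * OO : ℤ) := by
    rw [hy, ZF_lin]; push_cast
    simp only [mul_sum, ← sum_add_distrib]
    exact sum_congr rfl fun p hp => by rw [(h.2 p (mem_range.1 hp)).1, (hC p (mem_range.1 hp)).eq]; ring
  have h2 : ((c % MM : ℕ) : ℤ) = ∑ p ∈ range 56, ZF (nx (C p)) + ∑ _p ∈ range 56, (OO : ℤ) := by
    rw [mod_pred_eq (n := 56) MM_eq hc ((sum_le_card_nsmul _ _ _ fun p hp => (hC p (mem_range.1 hp)).le).trans_lt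
      (by decide +kernel)), ← sum_add_distrib]
    push_cast
    exact sum_congr rfl fun p hp => (hC p (mem_range.1 hp)).eq
  have h3 : 0 ≤ ZF (nx y) + 4 * OO := by
    rw [OO_eq, ZF_add]
    exact ZF_nonneg fun p hp => by have := abs_le.1 (abs_le_of (k := 16) (by norm_num) hb hp); omega
  have h5 : ((OO * (a % 4095) : ℕ) : ℤ) = OO * ∑ p ∈ range 56, nx x p + 224 * OO := by rw [Nat.cast_mul, h.mod]; ring
  simp only [sum_const, card_range, nsmul_eq_mul] at h1 h2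
  rw [rawV, sumLt_eq]
  show ((∑ p ∈ range 56, dg a p * cl c p + 228 * OO - (OO * (a % 4095) + 4 * (c % MM)) : ℕ) : ℤ) = _
  omega

/-! ### reduction modulo 4 -/

def M3 : ℕ := (2 ^ 672 - 1) / 4095 * 3

def R4 (a : ℕ) (x : V) : Prop := a < 2 ^ 672 ∧ ∀ p < 56, (4 : ℤ) ∣ dg a p - nx x p ∧ dg a p ≤ 8

theorem PB.r4 {a : ℕ} {x : V} (h : PB a x) : R4 a x := ⟨h.1, fun p hp => by have := h.2 p hp; omega⟩

theorem R4.step {a r c : ℕ} {x y : V} (h : R4 a x) (h' : R4 r y) (hc : c < 4) :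
    R4 (Nat.land (Nat.add a (Nat.mul c r)) M3) (x + (c : ℤ) • y) := by
  obtain ⟨h1, h2⟩ := of_ZF (a := a + c * r) (f := fun p => dg a p + c * dg r p) (by
    push_cast; rw [ZF_dg h.1, ZF_dg h'.1, ← ZF_add]; simp only [ZF, mul_sum, mul_assoc]) fun p hp => by
      have := h.2 p hp; have := Nat.mul_le_mul hc.le (h'.2 p hp).2; omega
  refine ⟨Nat.and_le_left.trans_lt h1, fun p hp => ?_⟩
  have e : dg (Nat.land (a + c * r) M3) p = dg (a + c * r) p % 4 := by
    rw [← Nat.and_two_pow_sub_one_eq_mod _ 2, show 2 ^ 2 - 1 = dg M3 p by revert p; decide +kernel]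
    exact Nat.eq_of_testBit_eq fun i => by
      simp only [Nat.land_eq, testBit_get (w := 12) rfl, Nat.testBit_and]; cases decide (i < 12) <;> rfl
  obtain ⟨k, hk⟩ := (h'.2 p hp).1
  have := h2 p hp; have := h.2 p hp
  have : (c : ℤ) * dg r p = c * nx y p + 4 * (c * k) := by rw [show (dg r p : ℤ) = nx y p + 4 * k by omega]; ring
  rw [nx_add, nx_smul, show Nat.add a (Nat.mul c r) = a + c * r from rfl, e]; omega

/-- rows: pivot, divisor, row, generator. -/
abbrev Row := ℕ × ℕ × ℕ × ℕ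

def stp (e : Row) (b : ℕ) : ℕ :=
  Nat.land (Nat.add b (Nat.mul (Nat.mod (Nat.div (Nat.mul 3 (dg b e.1)) e.2.1) 4) e.2.2.1)) M3

def red (l : List Row) (a : ℕ) : ℕ := List.rec (motive := fun _ => ℕ) a (fun e _ ih => force ih (stp e)) l

theorem red_spec {K : AddSubgroup V} {l : List Row} (hl : ∀ e ∈ l, ∃ y ∈ K, R4 e.2.2.1 y) {a : ℕ} {x : V} (h : R4 a x) :
    ∃ y ∈ K, R4 (red l a) (x + y) := by
  induction l with
  | nil => exact ⟨0, zero_mem _, by rwa [add_zero]⟩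
  | cons e l ih =>
    obtain ⟨y, hy, h1⟩ := ih fun e he => hl e (List.mem_cons_of_mem _ he)
    obtain ⟨z, hz, h2⟩ := hl e List.mem_cons_self
    have := h1.step h2 (Nat.mod_lt (3 * dg (red l a) e.1 / e.2.1) (by decide))
    rw [add_assoc] at this
    refine ⟨_, add_mem hy (zsmul_mem hz ((3 * dg (red l a) e.1 / e.2.1 % 4 : ℕ) : ℤ)), ?_⟩
    rw [show red (e :: l) a = _ from force_eq (red l a) (stp e)]; exact this

def chkR (l : List Row) : Bool :=
  List.rec (motive := fun _ => Bool) true (fun e l ih => band (Nat.beq e.2.2.1 (red l e.2.2.2)) ih) l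

theorem chkR_spec {K : AddSubgroup V} {l : List Row} (hl : ∀ e ∈ l, ∃ y ∈ K, R4 e.2.2.2 y) (h : chkR l = true) :
    ∀ e ∈ l, ∃ y ∈ K, R4 e.2.2.1 y := by
  induction l with
  | nil => exact fun _ h => nomatch h
  | cons e l ih =>
    have h' : band (Nat.beq e.2.2.1 (red l e.2.2.2)) (chkR l) = true := h
    rw [band_eq, Bool.and_eq_true, nbeq] at h'
    have := ih (fun e he => hl e (List.mem_cons_of_mem _ he)) h'.2
    obtain ⟨x, hx, h1⟩ := hl e List.mem_cons_self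
    obtain ⟨y, hy, h2⟩ := red_spec this h1
    exact List.forall_mem_cons.2 ⟨⟨_, add_mem hx hy, h'.1 ▸ h2⟩, this⟩

def e4C (p : ℕ) : ℕ := Nat.add OO (Nat.shiftLeft 4 (Nat.mul 12 p))
def e4 (p : ℕ) : V := ofR fun q => if p = q then 4 else 0

theorem PB_e4 : ∀ p < 56, PB (e4C p) (e4 p) := by unfold PB; decide +kernel
theorem sum_e4 (x : V) : ∑ p ∈ range 56, nx x p • e4 p = (4 : ℤ) • x := ext_nx fun q hq => by
  simp only [nx_sum, nx_smul, e4, nx_ofR _ hq]; simp [hq, mul_comm]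
theorem B_e4 (x : V) {p : ℕ} (hp : p < 56) : B (e4 p) x = 4 * nx x p := by
  rw [B, sum_congr rfl fun q hq => by rw [e4, nx_ofR _ (mem_range.1 hq)]]; simp [hp]
theorem N_e4 {p : ℕ} (hp : p < 56) : B (e4 p) (e4 p) = 16 := by rw [B_e4 _ hp, e4, nx_ofR _ hp, if_pos rfl]; rfl

theorem mem_of_red {K : AddSubgroup V} {l : List Row} (hl : ∀ e ∈ l, ∃ y ∈ K, R4 e.2.2.1 y) (h4 : ∀ p < 56, e4 p ∈ K)
    {a : ℕ} {x : V} (h : R4 a x) (h0 : red l a = 0) : x ∈ K := by
  obtain ⟨y, hy, h1⟩ := red_spec hl h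
  have : x + y = (4 : ℤ) • ofR fun p => nx (x + y) p / 4 := ext_nx fun p hp => by
    have := (h1.2 p hp).1
    rw [h0, dg, get_zero] at this
    rw [nx_smul, nx_ofR _ hp]; omega
  rw [← add_sub_cancel_right x y, this, ← sum_e4]
  exact sub_mem (sum_mem fun p hp => zsmul_mem (h4 p (mem_range.1 hp)) _) hy

/-- code modulo 4. -/
def cd (x : V) : ℕ := pack 12 56 fun p => (nx x p % 4).toNat

theorem R4_cd (x : V) : R4 (cd x) x := by
  have h0 : ∀ p < 56, (nx x p % 4).toNat < 2 ^ 12 := fun p _ => by omega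
  exact ⟨pack_lt h0, fun p hp => by rw [dg, cd, get_pack rfl h0 hp]; omega⟩

end Cfsg.Agent.Known.RuL
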