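import Cfsg.Agent.Known.RuC

/-! The short vectors of the rank 28 Gaussian lattice (helper25): `VL`, `short`. -/

set_option autoImplicit false
set_option exponentiation.threshold 100000
set_option maxRecDepth 100000

namespace Cfsg.Agent.Known.RuL

open Cfsg.Spor Cfsg.Agent.Comp Finset

def par (x : V) (p : ℕ) : Bool := decide (nx x p % 2 = 1)
def hz (x : V) (p : ℕ) : Bool := decide (2 ≤ nx x p % 4)

theorem par_mem {x : V} (hx : x ∈ ruLattice) : ∃ s, mk2 (par x) = lin ds s := by
  refine ind (P := fun x => ∃ s, mk2 (par x) = lin ds s) ⟨0, by decide +kernel⟩ ?_ (fun x h => ?_)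
    (fun p hp => ⟨0, by revert p; decide +kernel⟩) (fun e he => ?_) hx
  · rintro x - y - ⟨s, hs⟩ ⟨t, ht⟩
    refine ⟨s ^^^ t, ?_⟩
    rw [lin_xor, ← hs, ← ht, mk2_xor]
    congr 1; funext p
    rw [par, par, par, nx_add]
    rcases Int.emod_two_eq_zero_or_one (nx x p) with h | h <;> rcases Int.emod_two_eq_zero_or_one (nx y p) with h' | h' <;>
      simp [h, h', Int.add_emod]
  · rwa [show par (-x) = par x from funext fun p => by rw [par, par, nx_neg, Int.neg_emod_two]]
  · obtain ⟨s, -, h⟩ := (by decide +kernel : ∀ e ∈ rows, ∃ s ∈ ss, mk2 (par (ofC e.2.2.2)) = lin ds s) e he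
    exact ⟨s, h⟩

theorem allX_two {P : ℕ → Bool} {l : List ℕ} {a b : ℕ} (h0 : allX P l 0 = true) (h1 : allX P l b = true) (h2 : allX P l a = true)
    (h3 : allX P l (Nat.xor b a) = true) : allX P (a :: b :: l) 0 = true := by
  show band (band (allX P l 0) (force (b ^^^ 0) (allX P l))) (force (a ^^^ 0) fun a =>
    band (allX P l a) (force (Nat.xor b a) (allX P l))) = true
  simp only [force_eq, Nat.xor_zero, h0, h1, h2, h3]; rfl

theorem leaf_lin (s : ℕ) : leaf (lin ds s) = true := by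
  have h := allX_spec (allX_two chk0 chk1 chk2 chk3) s
  rwa [Nat.xor_zero, show nthL 0 ds 0 :: nthL 0 ds 1 :: ds.drop 2 = ds by decide +kernel] at h

theorem rg_eq : rg = List.range 56 := by decide

theorem y_spec : ∀ j < 19, ∃ e ∈ rows, y1 j = msk 6 56 (par (ofC e.2.2.2)) ∧ y2 j = msk 6 56 (hz (ofC e.2.2.2)) ∧
    ∀ p < 56, (col p).testBit (56 + j) = par (ofC e.2.2.2) p := by decide +kernel

theorem col_spec : ∀ p < 56, col p < 2 ^ 75 ∧ ∀ k < 56, (col p).testBit k = decide (p = k) := by decide +kernel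

theorem mul_mod4 (a b : ℤ) : 4 ∣ a * b - ((decide (a % 2 = 1) && decide (b % 2 = 1)).toNat +
    2 * (decide (a % 2 = 1) && decide (2 ≤ b % 4)).toNat + 2 * ((decide (2 ≤ a % 4)).toNat * (decide (b % 2 = 1)).toNat) : ℕ) := by
  have h : 4 ∣ a * b - a % 4 * (b % 4) := Int.ModEq.dvd (Int.ModEq.mul (Int.mod_modEq a 4) (Int.mod_modEq b 4))
  rw [← Int.emod_emod_of_dvd a (by decide : (2 : ℤ) ∣ 4), ← Int.emod_emod_of_dvd b (by decide : (2 : ℤ) ∣ 4)]
  have h1 : a % 4 = 0 ∨ a % 4 = 1 ∨ a % 4 = 2 ∨ a % 4 = 3 := by omega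
  have h2 : b % 4 = 0 ∨ b % 4 = 1 ∨ b % 4 = 2 ∨ b % 4 = 3 := by omega
  generalize a * b = c at *
  rcases h1 with h1 | h1 | h1 | h1 <;> rcases h2 with h2 | h2 | h2 | h2 <;> rw [h1, h2] at h ⊢ <;> simp <;> omega

theorem sq_ge (a : ℤ) : ((decide (a % 2 = 1)).toNat + 4 * (decide (2 ≤ a % 4) && !decide (a % 2 = 1)).toNat : ℕ) ≤ a * a := by
  by_cases h : a % 2 = 1
  · have : 1 ≤ a ∨ a ≤ -1 := by omega
    rcases this with _ | _ <;> simp [h] <;> nlinarith
  · by_cases h' : 2 ≤ a % 4
    · have : 2 ≤ a ∨ a ≤ -2 := by omega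
      rcases this with _ | _ <;> simp [h, h'] <;> nlinarith
    · simpa [h, h'] using mul_self_nonneg a

theorem wt_eq (x : V) : wt (mk2 (par x)) = ∑ p ∈ range 56, (par x p).toNat := by
  rw [← msk_mod, ← mk2_shift]; rfl

theorem wt_le (x : V) : ((wt (mk2 (par x)) + 4 * ∑ p ∈ range 56, (hz x p && !par x p).toNat : ℕ) : ℤ) ≤ B x x := by
  rw [wt_eq, mul_sum, ← sum_add_distrib, Nat.cast_sum]
  exact sum_le_sum fun p _ => sq_ge _

theorem ta_eq (a : ℕ) : ta a = msk 1 19 (fun j => tb ((a >>> 64 &&& y1 j) % 63 / 2 + (a >>> 64 &&& y2 j) % 63) 0) <<< 56 := rfl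

theorem bits {x : V} (hx : x ∈ ruLattice) (k : ℕ) : ((msk 1 56 (hz x)).testBit k).toNat =
    (∑ p ∈ range 56, (hz x p).toNat * ((col p).testBit k).toNat + ((ta (mk2 (par x))).testBit k).toNat) % 2 := by
  rw [tb_msk1, ta_eq, Nat.testBit_shiftLeft, tb_msk1]
  rcases lt_or_ge k 56 with hk | hk
  · rw [sum_eq_single_of_mem k (mem_range.2 hk) fun p hp hn => by simp [(col_spec p (mem_range.1 hp)).2 k hk, hn],
      (col_spec k hk).2 k hk, decide_eq_false (not_le.2 hk), decide_eq_true hk, decide_eq_true rfl]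
    cases hz x k <;> rfl
  obtain ⟨j, rfl⟩ := Nat.exists_eq_add_of_le hk
  rw [Nat.add_sub_cancel_left, decide_eq_false (not_lt.2 hk), decide_eq_true hk]
  rcases lt_or_ge j 19 with hj | hj
  · obtain ⟨e, he, h1, h2, h3⟩ := y_spec j hj
    have h4 := dvd_sum fun p (_ : p ∈ range 56) => mul_mod4 (nx x p) (nx (ofC e.2.2.2) p)
    have h5 := B4 hx (gen_mem e he)
    rw [sum_sub_distrib, ← Nat.cast_sum, sum_add_distrib, sum_add_distrib, ← mul_sum, ← mul_sum] at h4
    rw [sum_congr rfl fun p hp => by rw [h3 p (mem_range.1 hp)], h1, h2, mk2_shift, msk_and, msk_and, msk_mod, msk_mod, tb_eq,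
      Nat.testBit_zero, decide_eq_true hj]
    unfold B par hz at *
    generalize ∑ p ∈ range 56, (decide (nx x p % 2 = 1) && decide (nx (ofC e.2.2.2) p % 2 = 1)).toNat = u at *
    generalize ∑ p ∈ range 56, (decide (nx x p % 2 = 1) && decide (2 ≤ nx (ofC e.2.2.2) p % 4)).toNat = v at *
    by_cases h6 : (u / 2 + v) % 2 = 1 <;> simp only [h6, decide_true, decide_false, Bool.and_self, Bool.false_and,
      Bool.and_false, Bool.toNat_true, Bool.toNat_false] <;> omega
  · rw [sum_eq_zero fun p hp => by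
      rw [Nat.testBit_lt_two_pow ((col_spec p (mem_range.1 hp)).1.trans_le (Nat.pow_le_pow_right (by decide) (by omega)))]; rfl,
      decide_eq_false (not_lt.2 hj)]
    rfl

theorem mem_elim0 {E' E F' F : List ℕ} {b t : ℕ} (hE : E'.Sublist E) (hb : E'.length ≤ b) (hF : F'.Sublist F) (hl : F.length ≤ 99)
    (h : xorL F' (xorL E' t) < 2 ^ (1 * 56)) : xorL F' (xorL E' t) ∈ elim E b t F (fun v => v) [] :=
  mem_elim hE hb hF (fun _ _ => rfl) .slnil (fun _ h => nomatch h) ((Nat.zero_add _).trans_le hl) rfl h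

theorem sols_eq (a : ℕ) : sols a = elim (if (16 - wt a) / 4 = 0 then [] else ((List.range 56).filter fun p => !tb a p).map col)
    ((16 - wt a) / 4) (ta a) (((List.range 56).filter (tb a)).map col) (fun v => v) [] := by
  rw [sols, force_eq, sup, filterL_eq, filterL_eq, mapL_eq, mapL_eq, rg_eq, bif'_eq]
  simp only [nbeq]; rfl

theorem mem_sols {x : V} (hx : x ∈ ruLattice) (h : B x x ≤ 16) : msk 1 56 (hz x) ∈ sols (mk2 (par x)) := by
  have f1 : (List.range 56).filter (tb (mk2 (par x))) = (List.range 56).filter (par x) :=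
    List.filter_congr fun p hp => by rw [tb_eq, tb_mk2 _ (List.mem_range.1 hp)]
  have f2 : (List.range 56).filter (fun p => !tb (mk2 (par x)) p) = (List.range 56).filter (fun p => !par x p) :=
    List.filter_congr fun p hp => by rw [tb_eq, tb_mk2 _ (List.mem_range.1 hp)]
  have hl : (((List.range 56).filter fun p => hz x p && !par x p).map col).length ≤ (16 - wt (mk2 (par x))) / 4 := by
    have := wt_le x
    have h2 := sum_flt 56 (fun p => hz x p && !par x p) fun _ => 1
    simp only [mul_one, List.map_const', List.sum_replicate, smul_eq_mul] at h2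
    rw [List.length_map]; omega
  have e : msk 1 56 (hz x) = xorL (((List.range 56).filter fun p => hz x p && par x p).map col)
      (xorL (((List.range 56).filter fun p => hz x p && !par x p).map col) (ta (mk2 (par x)))) := by
    refine Nat.eq_of_testBit_eq fun k => (by decide : ∀ a b : Bool, a.toNat = b.toNat → a = b) _ _ ?_
    rw [tb_xorL, tb_xorL, List.map_map, List.map_map, sum_flt, sum_flt, Nat.add_mod_mod, ← add_assoc, ← sum_add_distrib, bits hx,
      sum_congr (s₁ := range 56) (f := fun p => (hz x p).toNat * ((col p).testBit k).toNat) rfl fun p _ => ?_]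
    simp only [Function.comp]
    cases hz x p <;> cases par x p <;> simp
  have s1 (f : ℕ → Bool) : (((List.range 56).filter fun p => hz x p && f p).map col).Sublist (((List.range 56).filter f).map col) := by
    rw [← List.filter_filter]; exact List.filter_sublist.map col
  have hu : msk 1 56 (hz x) < 2 ^ (1 * 56) := pack_lt fun _ _ => toNat_lt (by decide) _
  rw [sols_eq, f1, f2]
  refine e ▸ mem_elim0 ?_ hl (s1 _) ?_ (e ▸ hu)
  · split_ifs with h0
    · rw [List.eq_nil_of_length_eq_zero (Nat.le_zero.1 (hl.trans_eq h0))]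
    · exact s1 _
  · rw [List.length_map]; exact (List.length_filter_le _ _).trans (by simp)

def vec (a u : ℕ) : V := ofR fun p => bif' (tb a p) (bif' (tb u p) (-1) 1) 0

/-- the vectors of norm 16. -/
noncomputable def VL : List V :=
  (List.range 56).flatMap (fun p => [e4 p, -e4 p]) ++ As.flatMap fun a => (sols a).map (vec a)

theorem short {x : V} (hx : x ∈ ruLattice) (h0 : x ≠ 0) (h : B x x ≤ 16) : B x x = 16 ∧ x ∈ VL := by
  obtain ⟨s, hs⟩ := par_mem hx
  have l := leaf_lin s
  have hw := wt_le x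
  have hm := mem_sols hx h
  simp only [← hs, leaf, bor_eq, Bool.or_eq_true, nblt, nbeq, allL_iff, memL_iff] at l
  rcases l with l | l | l | l
  · omega
  · have hu := nbeq.1 (allL_iff.1 chkz _ (l ▸ hm))
    obtain ⟨p, hp, hn⟩ : ∃ p < 56, nx x p ≠ 0 := by
      by_contra! hn
      exact h0 (ext_nx fun p hp => (hn p hp).trans (nx_zero p).symm)
    have h1 := tb_mk2 (par x) hp
    have h2 := tb_msk1 56 (hz x) p
    simp only [l, hu, Nat.zero_testBit, par, hz, hp, decide_true, Bool.true_and, Bool.false_eq, decide_eq_false_iff_not] at h1 h2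
    have h3 := sq_le x hp
    have h4 := abs_le.1 (abs_le_of (k := 4) (by norm_num) h hp)
    have h5 : nx x p = 4 ∨ nx x p = -4 := by omega
    have h6 : B x x = 16 := by rcases h5 with e | e <;> rw [e] at h3 <;> omega
    refine ⟨h6, List.mem_append_left _ (List.mem_flatMap.2 ⟨p, List.mem_range.2 hp, List.mem_pair.2 (h5.imp (fun e => ?_) fun e => ?_)⟩)⟩
    · refine add_neg_eq_zero.1 (eq_zero ?_)
      rw [N_add, B_neg, B_comm x (-_), B_comm _ (-_), B_neg, B_neg, B_e4 x hp, N_e4 hp]; omega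
    · refine eq_neg_of_add_eq_zero_left (eq_zero ?_)
      rw [N_add, B_comm x (e4 p), B_e4 x hp, N_e4 hp]; omega
  · exact absurd (l _ hm) Bool.false_ne_true
  · have h1 := nbeq.1 (allL_iff.1 (by decide +kernel : allL As (fun a => Nat.beq (wt a) 16) = true) _ l)
    have h2 : B x x = 16 := by omega
    refine ⟨h2, List.mem_append_right _ (List.mem_flatMap.2 ⟨_, l, List.mem_map.2 ⟨_, hm, ext_nx fun p hp => ?_⟩⟩)⟩
    have h3 := (sum_eq_sum_iff_of_le (s := range 56) (f := fun p => ((par x p).toNat : ℤ)) (g := fun p => nx x p * nx x p)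
      fun p _ => le_trans (by push_cast; exact le_add_of_nonneg_right (by positivity)) (sq_ge (nx x p))).1
      (by rw [← Nat.cast_sum, ← wt_eq, h1]; exact h2.symm) p (mem_range.2 hp)
    rw [vec, nx_ofR _ hp, tb_eq, tb_eq, tb_mk2 _ hp, tb_msk1, decide_eq_true hp, Bool.true_and, hz]
    by_cases h4 : nx x p % 2 = 1
    · simp only [par, h4, decide_true, Bool.toNat_true, Nat.cast_one] at h3 ⊢
      rcases Int.eq_one_or_neg_one_of_mul_eq_one h3.symm with e | e <;> rw [e] <;> rfl
    · simp only [par, h4, decide_false, Bool.toNat_false, Nat.cast_zero] at h3 ⊢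
      exact (mul_self_eq_zero.1 h3.symm).symm

theorem min16 {x : V} (hx : x ∈ ruLattice) (h0 : x ≠ 0) : 16 ≤ B x x :=
  (le_total _ _).elim id fun h => (short hx h0 h).1.ge

end Cfsg.Agent.Known.RuL
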