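import Cfsg.Agent.Known.RuB

/-! Codes for the automorphisms of the rank 28 Gaussian lattice (helper25): `RC`, `actV`, `okC`, the scalar `σ`. -/

set_option autoImplicit false
set_option exponentiation.threshold 100000
set_option maxRecDepth 100000

namespace Cfsg.Agent.Known.RuL

open Cfsg.Spor Cfsg.Agent.Comp Finset MulAction

abbrev CG := ↥fourRu

def hom (g : CG) : LL →+ LL := AddMonoidHom.mk' (g • ·) g.2.1
theorem act_I (g : CG) (x : LL) : g • ruI x = ruI (g • x) := g.2.2.1 x
theorem N_act (g : CG) (x : LL) : B (g • x : LL) (g • x : LL) = B x x := by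
  rw [← norm_eq, ← norm_eq]; exact g.2.2.2 x
theorem B_act (g : CG) (x y : LL) : B (g • x : LL) (g • y : LL) = B x y := by
  have h := N_act g (x + y)
  rw [show g • (x + y) = g • x + g • y from g.2.1 x y, AddSubgroup.coe_add, AddSubgroup.coe_add, N_add, N_add, N_act, N_act] at h
  omega
theorem ext_act {g h : CG} (e : ∀ x : LL, g • x = h • x) : g = h := Subtype.ext (Equiv.ext e)

theorem finite_shell (n : ℤ) : {x : LL | B x x = n}.Finite :=
  ((finite_le n).preimage Subtype.val_injective.injOn).subset fun _ hx => le_of_eq hx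

theorem bij_of_norm (f : LL →+ LL) (hn : ∀ x, B (f x) (f x) = B x x) : Function.Bijective f := by
  have hi : Function.Injective f := (injective_iff_map_eq_zero f).2 fun x hx =>
    Subtype.ext (eq_zero (by rw [← hn, hx]; exact B_zero _))
  refine ⟨hi, fun y => ?_⟩
  obtain ⟨x, -, e⟩ := (((finite_shell (B y y)).injOn_iff_bijOn_of_mapsTo (f := f)
    fun x hx => (hn x).trans hx).1 hi.injOn).surjOn (show y ∈ _ from rfl)
  exact ⟨x, e⟩

noncomputable def mkR (f : LL →+ LL) (hi : ∀ x, f (ruI x) = ruI (f x)) (hn : ∀ x, B (f x) (f x) = B x x) : CG :=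
  ⟨Equiv.ofBijective f (bij_of_norm f hn), f.map_add, hi, fun x => by rw [norm_eq, norm_eq]; exact hn x⟩

def E4 (p : ℕ) : LL := ⟨e4 p, (lt_or_ge p 56).elim (e4_mem p) fun h =>
  (ext_nx fun q hq => by rw [e4, nx_ofR _ hq, if_neg (by omega), nx_zero] : 0 = e4 p) ▸ zero_mem _⟩

theorem PV_E4 {p : ℕ} (hp : p < 56) : PV (e4C p) (E4 p) := ⟨PB_e4 p hp, N_e4 hp⟩

theorem eq_one_of_fix {g : CG} (h : ∀ p < 56, g • E4 p = E4 p) : g = 1 := ext_act fun x => Subtype.ext (ext_nx fun p hp => by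
  have := B_act g (E4 p) x
  rw [h p hp, show (E4 p : V) = e4 p from rfl, B_e4 _ hp, B_e4 _ hp] at this; rw [one_smul]; omega)

instance instFiniteCG : Finite CG := by
  have := (finite_shell 16).to_subtype
  exact Finite.of_injective (fun (g : CG) (p : Fin 56) => (⟨g • E4 p, (N_act _ _).trans (N_e4 p.2)⟩ : {x : LL | B x x = 16}))
    fun g h e => (inv_mul_eq_one.1 (eq_one_of_fix fun p hp => by
      rw [mul_smul, show g • E4 p = h • E4 p from congrArg Subtype.val (congrFun e ⟨p, hp⟩), inv_smul_smul])).symm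

/-- `c` codes `g`. -/
def RC (c : ℕ) (g : CG) : Prop := c < 2 ^ (672 * 56) ∧ ∀ p < 56, PB (cl c p) (g • E4 p : LL)

theorem sum_cols (g : CG) (x : LL) : (4 : ℤ) • ((g • x : LL) : V) = ∑ p ∈ range 56, nx x p • ((g • E4 p : LL) : V) := by
  have h : ∑ p ∈ range 56, nx x p • E4 p = (4 : ℤ) • x := Subtype.ext (by rw [AddSubgroup.coe_zsmul, ← sum_e4]; simp [E4])
  have := congrArg (fun y => (hom g y : V)) h
  simp only [map_sum, map_zsmul, AddSubgroup.coe_zsmul, AddSubgroup.val_finsetSum] at this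
  exact this.symm

def actV (c a : ℕ) : ℕ := Nat.shiftRight (rawV c a) 2

theorem ZF_smul (k : ℤ) (x : V) : ZF (nx (k • x)) = k * ZF (nx x) := by simp only [ZF, nx_smul, mul_sum, mul_assoc]

theorem isActV : IsAct RC PV actV := fun c g a x hc ha => by
  have hn := (N_act g x).trans ha.2
  have h := rawV_spec hc.1 hc.2 ha.1 (sum_cols g x) (by rw [N_smul, hn]; decide)
  rw [ZF_smul] at h
  refine ⟨PB_of ?_ hn.le, hn⟩
  show ((rawV c a >>> 2 : ℕ) : ℤ) = _
  rw [Nat.shiftRight_eq_div_pow]; omega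

theorem PV.func {a : ℕ} {x y : LL} (h : PV a x) (h' : PV a y) : x = y := Subtype.ext (h.1.func h'.1)

theorem gsmul (z : GaussianInt) (v : V) : z • v = z.re • v + z.im • gI • v :=
  funext fun q => Zsqrtd.ext (by simp [gI, sub_eq_add_neg]) (by simp [gI])

/-- `c` codes an automorphism. -/
def okC (c : ℕ) : Bool :=
  band (Nat.blt c (2 ^ (672 * 56))) (band (allLt 56 fun p => inL (cl c p))
    (band (allLt 56 fun j => allLt j fun i => Nat.beq (dotO (cl c i) (cl c j)) 896)
    (band (allLt 28 fun q => allLt 56 fun p => decide (nx (ofC (cl c (2 * q + 1))) p = nx (gI • ofC (cl c (2 * q))) p))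
    (allL rows fun e => band (Nat.beq (Nat.mod (rawV c e.2.2.2) 4) 0) (inL (actV c e.2.2.2))))))

theorem inL_mem {a : ℕ} (h : inL a = true) : ∃ hm : ofC a ∈ ruLattice, PV a ⟨_, hm⟩ := by
  obtain ⟨x, hx⟩ := inL_spec h
  simp only [inL, band_eq, Bool.and_eq_true] at h
  obtain ⟨x, hm⟩ := x
  obtain rfl : ofC a = x := (okV_spec h.1).func hx.1
  exact ⟨hm, hx⟩

theorem okC_spec {c : ℕ} (h : okC c = true) : ∃ g, RC c g := by
  simp only [okC, band_eq, Bool.and_eq_true, nblt, allLt_iff, allL_iff, nbeq, decide_eq_true_eq] at h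
  obtain ⟨h1, h2, h3, h5, h4⟩ := h
  let C : ℕ → V := fun p => ofC (cl c p)
  choose hm hC using fun p hp => inL_mem (h2 p hp)
  have hd (i) (hi : i < 56) (j) (hj : j < 56) : B (C i) (C j) = if i = j then 16 else 0 := by
    wlog hij : i ≤ j generalizing i j
    · rw [B_comm, this j hj i hi (by omega)]; simp only [eq_comm]
    split_ifs with e
    · exact e ▸ (hC i hi).2
    · have : _ = B (C i) (C j) + 896 := (hC i hi).1.dot (hC j hj).1
      have := h3 j hj i (by omega)
      omega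
  let F : V →+ V := AddMonoidHom.mk' (fun x => ∑ p ∈ range 56, nx x p • C p) fun x y => by simp [nx_add, add_smul, sum_add_distrib]
  have eF (x : V) : F x = ∑ p ∈ range 56, nx x p • C p := rfl
  have hF (x : V) : B (F x) (F x) = 16 * B x x := by
    have e (y : V) : B (F x) y = ∑ p ∈ range 56, nx x p * B (C p) y := by
      simp only [eF, B_sum, B_smul]
    rw [e, B, mul_sum]
    refine sum_congr rfl fun p hp => ?_
    rw [B_comm, e, sum_congr rfl fun q hq => by rw [hd q (mem_range.1 hq) p (mem_range.1 hp)]]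
    simp only [mul_ite, mul_zero, sum_ite_eq', hp, if_true]; ring
  have hG (x : V) : F x = ∑ q, x q • C (en q) := (eF x).trans <| (sum_en _).trans (sum_congr rfl fun q _ => by
    have := en_spec q
    have e := ext_nx (h5 (en q / 2) (by omega))
    rw [show 2 * (en q / 2) = en q by omega] at e
    rw [nx_en, nx_en', gsmul, ← e])
  have h4' (p) (hp : p < 56) : (4 : ℤ) • C p = F (e4 p) := by
    rw [eF, sum_congr rfl fun q hq => by rw [e4, nx_ofR _ (mem_range.1 hq)]]; simp [hp]
  have hM (x : LL) : ∃ y ∈ ruLattice, (4 : ℤ) • y = F x := by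
    refine ind (P := fun x => ∃ y ∈ ruLattice, (4 : ℤ) • y = F x) ⟨0, zero_mem _, by simp⟩ ?_ ?_
      (fun p hp => ⟨_, hm p hp, h4' p hp⟩) (fun e he => ?_) x.2
    · rintro x - y - ⟨a, ha, e⟩ ⟨b, hb, e'⟩
      exact ⟨_, add_mem ha hb, by rw [smul_add, e, e', map_add]⟩
    · rintro x ⟨a, ha, e⟩
      exact ⟨_, neg_mem ha, by rw [smul_neg, e, map_neg]⟩
    obtain ⟨y, hy⟩ := inL_spec (h4 e he).2
    have hb : B (F (ofC e.2.2.2)) (F (ofC e.2.2.2)) ≤ 16 * 16 := by rw [hF, N_gen e he]
    have hb' : B ((4 : ℤ) • (y : V)) ((4 : ℤ) • (y : V)) ≤ 16 * 16 := by rw [N_smul, hy.2]; decide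
    have e1 := rawV_spec h1 (fun p hp => (hC p hp).1) (gen_pb e he) (eF _) hb
    have e2 : (rawV c e.2.2.2 : ℤ) = ZF (nx ((4 : ℤ) • (y : V))) + 4 * OO := by
      have e3 : rawV c e.2.2.2 % 4 = 0 := (h4 e he).1
      have e4 : actV c e.2.2.2 = rawV c e.2.2.2 / 4 := Nat.shiftRight_eq_div_pow _ 2
      have e5 := hy.1.eq
      rw [ZF_smul]; omega
    rw [OO_eq, ZF_add] at e1 e2
    refine ⟨y, y.2, ext_nx fun p hp => add_right_cancel (((of_ZF e2 fun p hp => ?_).2 p hp).symm.trans
      ((of_ZF e1 fun p hp => ?_).2 p hp))⟩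
    · have := abs_le.1 (abs_le_of (by norm_num) hb' hp); omega
    · have := abs_le.1 (abs_le_of (by norm_num) hb hp); omega
  choose f hf e using hM
  have inj4 {x y : V} (h : (4 : ℤ) • x = (4 : ℤ) • y) : x = y := smul_right_injective V (by norm_num) h
  refine ⟨mkR (AddMonoidHom.mk' (fun x => ⟨f x, hf x⟩) fun x y => Subtype.ext (inj4 ?_)) (fun x => Subtype.ext (inj4 ?_))
    fun x => ?_, h1, fun p hp => ?_⟩
  · simp only [AddSubgroup.coe_add, smul_add, e, map_add]
  · show (4 : ℤ) • f (ruI x) = (4 : ℤ) • gI • f x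
    rw [smul_comm, e, e, hG, hG, smul_sum]
    exact sum_congr rfl fun q _ => mul_smul _ _ _
  · have := hF x
    rw [← e, N_smul] at this
    change B (f x) (f x) = _; omega
  · show PB _ (f (E4 p))
    exact (inj4 ((h4' p hp).trans (e (E4 p)).symm) : C p = f (E4 p)) ▸ (hC p hp).1

/-- multiplication by `i`. -/
noncomputable def σ : CG := mkR (AddMonoidHom.mk' ruI fun x y => Subtype.ext (smul_add gI (x : V) y)) (fun _ => rfl) fun x => by
  rw [← norm_eq, ← norm_eq]
  exact sum_congr rfl fun q _ => (Zsqrtd.norm_mul gI _).trans (one_mul _)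

theorem σ_mem : σ ∈ Subgroup.center CG := Subgroup.mem_center_iff.2 fun g => ext_act fun x => act_I g x

theorem σ_pow (k : ℕ) (x : LL) : ((σ ^ k • x : LL) : V) = gI ^ k • (x : V) := by
  induction k with
  | zero => simp
  | succ k ih => rw [pow_succ', mul_smul, pow_succ', mul_smul, ← ih]; rfl

theorem order_σ : orderOf σ = 2 ^ (1 + 1) := orderOf_eq_prime_pow
  (fun h => absurd (congrArg (nx · 0) (h ▸ σ_pow (2 ^ 1) (E4 0))) (by decide +kernel))
  (ext_act fun x => Subtype.ext ((σ_pow _ x).trans (by rw [show gI ^ 2 ^ (1 + 1) = 1 by decide, one_smul, one_smul])))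

end Cfsg.Agent.Known.RuL
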