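import Cfsg.Agent.Known.RuA

/-! Gaussian elimination over `F₂` with a budget (helper25): `pick`, `elim`, `mem_elim`, `msk`, `allX`. -/

set_option autoImplicit false
set_option exponentiation.threshold 100000

namespace Cfsg.Agent.Known.RuL

open Cfsg.Agent.Comp Finset
open Cfsg.Agent.Leech (mod_pred_eq)

def xorL (l : List ℕ) (t : ℕ) : ℕ := l.foldr (· ^^^ ·) t

theorem xorL_cons (c : ℕ) (l : List ℕ) (t : ℕ) : xorL (c :: l) t = c ^^^ xorL l t := rfl

theorem xorL_xor (l : List ℕ) (a t : ℕ) : xorL l (a ^^^ t) = a ^^^ xorL l t := by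
  induction l with
  | nil => rfl
  | cons c l ih => rw [xorL_cons, xorL_cons, ih, ← Nat.xor_assoc, Nat.xor_comm c, Nat.xor_assoc]

theorem xorL_lt {n t : ℕ} {l : List ℕ} (h : ∀ k ∈ l, k < 2 ^ n) (ht : xorL l t < 2 ^ n) : t < 2 ^ n := by
  induction l with
  | nil => exact ht
  | cons c l ih =>
    refine ih (fun k hk => h k (List.mem_cons_of_mem _ hk)) ?_
    rw [← Nat.xor_xor_cancel_left c (xorL l t)]
    exact Nat.xor_lt_two_pow (h c List.mem_cons_self) ht

theorem map_xorL {r : ℕ → ℕ} (hr : ∀ x y, r (x ^^^ y) = r x ^^^ r y) (l : List ℕ) (t : ℕ) :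
    r (xorL l t) = xorL (l.map r) (r t) := by
  induction l with
  | nil => rfl
  | cons c l ih => rw [xorL_cons, hr, ih]; rfl

theorem tb_xorL (k : ℕ) (l : List ℕ) (t : ℕ) : ((xorL l t).testBit k).toNat =
    ((l.map fun c => (c.testBit k).toNat).sum + (t.testBit k).toNat) % 2 := by
  induction l with
  | nil => cases h : t.testBit k <;> simp [xorL, h]
  | cons c l ih =>
    rw [xorL_cons, Nat.testBit_xor, List.map_cons, List.sum_cons]
    revert ih; cases c.testBit k <;> cases (xorL l t).testBit k <;> simp <;> omega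

def TT : ℕ := 2 ^ 56

def low (t : ℕ) : List ℕ := bif' (Nat.blt t TT) [t] []

theorem mem_low {t : ℕ} (h : t < 2 ^ 56) : t ∈ low t := by
  rw [low, nblt.2 (show t < TT from h)]; exact List.mem_cons_self

/-- the numbers below `TT` among the sums of `t` and at most `b` members of `E`. -/
def pick (E : List ℕ) : ℕ → ℕ → List ℕ := List.rec (motive := fun _ => ℕ → ℕ → List ℕ) (fun _ t => low t)
  (fun e _ ih b t => Nat.rec (motive := fun _ => List ℕ) (low t)
    (fun c _ => appendL (ih (Nat.succ c) t) (force (Nat.xor e t) (ih c))) b) E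

theorem pick_succ (e : ℕ) (E : List ℕ) (c t : ℕ) : pick (e :: E) (c + 1) t = pick E (c + 1) t ++ pick E c (e ^^^ t) :=
  (appendL_eq _ _).trans (congrArg _ (force_eq _ _))

theorem mem_pick {E' E : List ℕ} (h : E'.Sublist E) : ∀ {b t : ℕ}, E'.length ≤ b → xorL E' t < 2 ^ 56 →
    xorL E' t ∈ pick E b t := by
  induction h with
  | slnil => exact fun _ h => mem_low h
  | cons e _ ih =>
    rintro (_ | c) t hb h
    · obtain rfl := List.eq_nil_of_length_eq_zero (Nat.le_zero.1 hb)
      exact mem_low h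
    · exact pick_succ .. ▸ List.mem_append_left _ (ih hb h)
  | cons_cons e _ ih =>
    rintro (_ | c) t hb h
    · exact absurd hb (Nat.not_succ_le_zero _)
    · rw [xorL_cons, ← xorL_xor] at h ⊢
      exact pick_succ .. ▸ List.mem_append_right _ (ih (Nat.le_of_succ_le_succ hb) h)

def rd (c h v : ℕ) : ℕ := bif' (tb v h) (Nat.xor c v) v

theorem rd_xor (c h x y : ℕ) : rd c h (x ^^^ y) = rd c h x ^^^ rd c h y := by
  simp only [rd, tb_eq, Nat.testBit_xor, Nat.xor_eq]
  cases x.testBit h <;> cases y.testBit h <;> refine Nat.eq_of_testBit_eq fun i => ?_ <;>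
    simp only [Bool.xor_false, Bool.xor_true, Bool.not_false, Bool.not_true, bif'_true, bif'_false, Nat.testBit_xor] <;>
    cases c.testBit i <;> cases x.testBit i <;> cases y.testBit i <;> rfl

def bindL {α β : Type} (l : List α) (f : α → List β) : List β :=
  List.rec (motive := fun _ => List β) [] (fun a _ ih => appendL (f a) ih) l

theorem bindL_eq {α β : Type} (l : List α) (f : α → List β) : bindL l f = l.flatMap f := by
  induction l with
  | nil => rfl
  | cons a l ih => rw [List.flatMap_cons, ← ih]; exact appendL_eq _ _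

def pv (c : ℕ) : ℕ := Nat.add 56 (Nat.log2 (Nat.shiftRight c 56))

theorem tb_pv {c : ℕ} (h : ¬c < 2 ^ 56) : c.testBit (pv c) = true :=
  (Nat.testBit_shiftRight c).symm.trans (Nat.testBit_log2 (by rw [Nat.shiftRight_eq_div_pow]; omega))

/-- the numbers below `TT` among the sums of `t`, at most `b` members of `E` and members of `F`. -/
def elim (E : List ℕ) (b t : ℕ) (F : List ℕ) : (ℕ → ℕ) → List ℕ → List ℕ :=
  List.rec (motive := fun _ => (ℕ → ℕ) → List ℕ → List ℕ)
    (fun r K => forceL (mapL r E) fun E' => force (r t) fun t' => bindL (pick E' b t') (pick K 99))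
    (fun c _ ih r K => force (r c) fun c' => bif' (Nat.blt c' TT) (ih r (c' :: K))
      (force (pv c') fun h => ih (fun v => force (r v) (rd c' h)) K)) F

theorem elim_cons (E : List ℕ) (b t c : ℕ) (F : List ℕ) (r : ℕ → ℕ) (K : List ℕ) : elim E b t (c :: F) r K =
    if r c < 2 ^ 56 then elim E b t F r (r c :: K) else elim E b t F (fun v => rd (r c) (pv (r c)) (r v)) K := by
  show force (r c) (fun c' => bif' (Nat.blt c' TT) (elim E b t F r (c' :: K))
    (force (pv c') fun h => elim E b t F (fun v => force (r v) (rd c' h)) K)) = _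
  simp only [force_eq, bif'_eq, nblt]; rfl

theorem mem_elim {E' E F' F : List ℕ} {b t : ℕ} (hE : E'.Sublist E) (hb : E'.length ≤ b) (hF : F'.Sublist F) :
    ∀ {r : ℕ → ℕ} {K' K : List ℕ}, (∀ x y, r (x ^^^ y) = r x ^^^ r y) → K'.Sublist K → (∀ k ∈ K, k < 2 ^ 56) →
      K.length + F.length ≤ 99 → ∀ {u}, u = xorL K' (r (xorL F' (xorL E' t))) → u < 2 ^ 56 → u ∈ elim E b t F r K := by
  have hl (c : ℕ) {s : ℕ} (hs : s < 2 ^ 56) : s.testBit (pv c) = false :=
    Nat.testBit_lt_two_pow (hs.trans_le (Nat.pow_le_pow_right (by decide) (Nat.le_add_right _ _)))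
  induction hF with
  | slnil =>
    rintro r K' K hr hK hk hn u rfl hu
    have h1 := xorL_lt (fun k h => hk k (hK.subset h)) hu
    show _ ∈ forceL (mapL r E) fun E' => force (r t) fun t' => bindL (pick E' b t') (pick K 99)
    rw [forceL_eq, force_eq, bindL_eq, mapL_eq, List.mem_flatMap]
    refine ⟨_, ?_, mem_pick hK (hK.length_le.trans hn) hu⟩
    rw [show xorL [] (xorL E' t) = xorL E' t from rfl, map_xorL hr] at h1 ⊢
    exact mem_pick (hE.map r) (by rwa [List.length_map]) h1
  | cons c _ ih =>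
    rintro r K' K hr hK hk hn u rfl hu
    rw [elim_cons]; rw [List.length_cons] at hn
    split_ifs with hc
    · exact ih hr (hK.cons _) (List.forall_mem_cons.2 ⟨hc, hk⟩) (by rw [List.length_cons]; omega) rfl hu
    · refine ih (fun x y => by rw [hr, rd_xor]) hK hk (by omega) ?_ hu
      rw [rd, tb_eq, hl (r c) (xorL_lt (fun k h => hk k (hK.subset h)) hu)]; rfl
  | cons_cons c _ ih =>
    rintro r K' K hr hK hk hn u rfl hu
    rw [elim_cons]; rw [List.length_cons] at hn
    rw [xorL_cons, hr] at hu ⊢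
    split_ifs with hc
    · exact ih hr (hK.cons_cons _) (List.forall_mem_cons.2 ⟨hc, hk⟩) (by rw [List.length_cons]; omega) (xorL_xor ..) hu
    · refine ih (fun x y => by rw [hr, rd_xor]) hK hk (by omega) ?_ hu
      have := hl (r c) (xorL_lt (fun k h => hk k (hK.subset h)) hu)
      rw [Nat.testBit_xor, tb_pv hc, Bool.true_xor, Bool.not_eq_false'] at this
      rw [rd, tb_eq, this]; rfl

def msk (w n : ℕ) (f : ℕ → Bool) : ℕ := pack w n fun p => (f p).toNat

theorem toNat_lt {w : ℕ} (hw : 0 < w) (b : Bool) : b.toNat < 2 ^ w :=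
  (Bool.toNat_lt b).trans_le (Nat.pow_le_pow_right (by decide) hw : 2 ^ 1 ≤ _)

theorem testBit_msk {w : ℕ} (hw : 0 < w) (n : ℕ) (f : ℕ → Bool) (k : ℕ) :
    (msk w n f).testBit k = (decide (k % w = 0 ∧ k / w < n) && f (k / w)) := by
  have hm : 2 ^ w - 1 + 1 = 2 ^ w := Nat.sub_add_cancel Nat.one_le_two_pow
  have := testBit_get hm (msk w n f) (k / w) (k % w)
  rw [Nat.div_add_mod, decide_eq_true (Nat.mod_lt _ hw), Bool.true_and] at this
  rw [← this, msk]
  by_cases h : k / w < n
  · rw [get_pack hm (fun _ _ => toNat_lt hw _) h]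
    cases f (k / w)
    · simp
    · rw [Bool.eq_iff_iff]; simp [h, Nat.testBit_one_eq_true_iff_self_eq_zero]
  · rw [get_pack_of_le hm (fun _ _ => toNat_lt hw _) (not_lt.1 h)]; simp [h]

theorem msk_mod (f : ℕ → Bool) : msk 6 56 f % 63 = ∑ p ∈ range 56, (f p).toNat := by
  have e : ∑ p ∈ range 56, get 6 63 (msk 6 56 f) p = ∑ p ∈ range 56, (f p).toNat :=
    sum_congr rfl fun p hp => get_pack rfl (fun _ _ => toNat_lt (by decide) _) (mem_range.1 hp)
  rw [mod_pred_eq (w := 6) (n := 56) (a := msk 6 56 f) rfl (pack_lt fun _ _ => toNat_lt (by decide) _)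
    (e.trans_lt ((sum_le_card_nsmul _ _ 1 fun p _ => Bool.toNat_le _).trans_lt (by decide))), e]

theorem msk_and (f g : ℕ → Bool) : msk 6 56 f &&& msk 6 56 g = msk 6 56 fun p => f p && g p :=
  Nat.eq_of_testBit_eq fun k => by
    simp only [Nat.testBit_and, testBit_msk (w := 6) (by decide)]; cases decide (k % 6 = 0 ∧ k / 6 < 56) <;> simp

/-- both masks in one number. -/
def mk2 (f : ℕ → Bool) : ℕ := msk 6 56 f <<< 64 ^^^ msk 1 56 f

theorem tb_msk1 (n : ℕ) (f : ℕ → Bool) (k : ℕ) : (msk 1 n f).testBit k = (decide (k < n) && f k) := by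
  rw [testBit_msk (by decide)]; simp [Nat.mod_one]

theorem mk2_xor (f g : ℕ → Bool) : mk2 f ^^^ mk2 g = mk2 fun p => f p ^^ g p :=
  Nat.eq_of_testBit_eq fun k => by
    simp only [mk2, Nat.testBit_xor, Nat.testBit_shiftLeft, testBit_msk (w := 6) (by decide), tb_msk1]
    cases decide (k ≥ 64) <;> cases decide ((k - 64) % 6 = 0 ∧ (k - 64) / 6 < 56) <;> cases decide (k < 56) <;>
      cases f k <;> cases g k <;> simp

theorem mk2_shift (f : ℕ → Bool) : mk2 f >>> 64 = msk 6 56 f := Nat.eq_of_testBit_eq fun k => by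
  simp [mk2, tb_msk1, show ¬64 + k < 56 by omega]

theorem tb_mk2 (f : ℕ → Bool) {p : ℕ} (hp : p < 56) : (mk2 f).testBit p = f p := by
  simp [mk2, tb_msk1, hp, show ¬p ≥ 64 by omega]

def allX (P : ℕ → Bool) (l : List ℕ) : ℕ → Bool :=
  List.rec (motive := fun _ => ℕ → Bool) P (fun d _ ih a => band (ih a) (force (Nat.xor d a) ih)) l

theorem allX_spec {P : ℕ → Bool} {l : List ℕ} : ∀ {a}, allX P l a = true → ∀ s, P (lin l s ^^^ a) = true := by
  induction l with
  | nil => exact fun h s => (Nat.zero_xor _).symm ▸ h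
  | cons d l ih =>
    intro a h s
    have h' : band (allX P l a) (force (d ^^^ a) (allX P l)) = true := h
    rw [force_eq, band_eq, Bool.and_eq_true] at h'
    rw [lin_cons]
    split_ifs
    · rw [Nat.xor_comm d, Nat.xor_assoc]; exact ih h'.2 _
    · rw [Nat.zero_xor]; exact ih h'.1 _

theorem sum_flt (n : ℕ) (f : ℕ → Bool) (g : ℕ → ℕ) :
    (((List.range n).filter f).map g).sum = ∑ p ∈ range n, (f p).toNat * g p := by
  induction n with
  | zero => rfl
  | succ n ih => rw [List.range_succ, List.filter_append, List.map_append, List.sum_append, ih, sum_range_succ]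
                 cases h : f n <;> simp [h]

end Cfsg.Agent.Known.RuL
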