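import Cfsg.Agent.Known.S62Tab
import Cfsg.Agent.Known.MatRep2
import Cfsg.Agent.Classical.SpSimple

/-! PSp(6,2) is isomorphic to its model (helper25): `equiv`. -/

set_option maxRecDepth 100000
set_option exponentiation.threshold 100000

namespace Cfsg.Agent.Known.S62T

open Cfsg.Agent.Comp Matrix

def As : List (List ℕ) := [[1,4161,64,4681,73,36937],[32777,36936,4616,4104,576,33345],[1,8,64,512,4096,32768]]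

def Ls : List (List (List ℕ)) := [[[1,1,0,1,1,1],[0,0,0,1,1,1],[0,1,1,1,1,1],[0,0,0,1,0,0],[0,1,0,1,0,1],[0,0,0,0,0,1]],[[1,0,0,0,0,1],[1,1,1,
  1,0,0],[0,1,0,0,1,1],[0,0,1,0,1,1],[0,1,1,1,0,0],[1,1,0,0,0,1]]]

noncomputable def vt : ℕ := (nat_lit 0x9249249209241249009209248209201248009049241209041241009009240209001240008249209208241209008209208208201208008049201208041201008009200208001200001249049201241049001209048201201048001049041201041041001009040201001040000249009200241009000209008200201008000049001200041001000009000200001)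

theorem pts : chkPts 3 7 2 6 As 2 0 63 (get2 18 vt) = true := by decide +kernel

def us : List (List ℕ) := [[8,5,9,4,8,3,7,8,4,7,6,0],[1,9,5,9,7,8,2,3,8,5,7,3]]

theorem mdl2 : Mdl S62P.φ 63 2 1451520 (fun j => W y (nthL [] us j)) (fun j => actW act (nthL [] us j)) [31,15,7,3,0,1] :=
  mdl.words us [[1,1,1,1,1,1,0,1,1,0,1,1,0,1,1,1,1,1,1,1,1,1,1,1,1,0,1,1,1,1,1,1,1,1,1,1,1,1,0,1],[0,1,1,0,1,1,1,1,1,1,1,1,1,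
  1,1,1,0],[1,1,1,1,1,1,1,1,1,1,1,1,0,1,1,1,1,1,1,0,1,0,1,1],[1,0,1,1,1,1,1,1],[0,1,0,1,0,1,1,0,1,0,1,1,1,1,1,1,
  0,1,1,1,1,1,1,1,1,1,1,1,1,0,1,1,1,1,1,1,0,1,1,1,1,1,1,0,1,1,1,1,1,1,1,1,1,1,1,1,0,1,1,1,1,1,1,0,1,0,1,1,0,1,1,
  0,1,1,1,1,1,1,1,1,1,1,1,1,0],[1,1,1,1,1,1,0,1,0,1,1,0,1,0,1,1,1,1,1,1,0,1,1,1,1,1,1,1,1,1,1,1,1,0,1,1,1,1,1,1,
  0,1,1,0,1,1,1,1,1,1,1,1,1,1,1,1,1,1,1,1,1,1,0,1,1,1,1,1,1,0,1,0,1,1,0,1,1,0,1,1,1,1,1,1,1,1,1,1,1,1,0,1,1,1,1,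
  1,1,0,1,1,0,1,1,0,1,1,1,1,1,1,1,1,1,1,1,1,0,1,1,1,1,1,1,1,1,1,1,1,1,0,1],[1,1,1,1,1,1,1,1,1,1,1,1,1,1,1,1,1,1,
  0,1,1,1,1,1,1,0,1,1,1,1,1,1,1,1,1,1,1,1,0,1,1,1,1,1,1,0,1,0,1,0,1,1,0,1,0,1,1,1,1,1,1,0,1,1,1,1,1,1,1,1,1,1,1,
  1,0,1,1,1,1,1,1,0,1],[1,1,1,1,1,1,1,1,1,1,1,1,1,1,1,1,1,1,0,1,0,1,1,1,1,1,1,0,1,1,1,1,1,1,0,1,1,1,1,1,1,0,1,0,
  1,1,1,1,1,1,1,1,1,1,1,1,1,1,1,1,1,1,1,1,1,1,1,1,1,1,1,1,1,1,1,1,1,1,1,1,0,1,1,1,1,1,1,0,1,1,1,1,1,1,1,1,1,1,1,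
  1,0,1,1,1,1,1,1,0,1,1,1,1,1,1,0,1,1,1,1,1,1,0,1,1,1,1,1,1,1,1,1,1,1,1,0,1,1,1,1,1,1,0,1,0,1,1,0,1,1,0,1,1,1,1,
  1,1,1,1,1,1,1,1,0,1,1,1,1,1,1,1,1,1,1,1,1,0,1],[1,1,1,1,1,1,0,1,1,1,1,1,1,1,1,1,1,1,1,0,1,1,0,1,0,1,1,1,1,1,1,
  0,1,0],[0,1,1,1,1,1,1,0,1,1,1,0,1,0,1,1,1,0,1,0,1,1,1,1,1,1,0,1,1,0,1,0,1,1,1,1,1,1,0,1,1,1,1,1,1,1,1,1,1,1,1,
  0,1,1,1,1,1,1,0,1,0,1,1,1,1,1,1,1,1,1,1,1,1,0,1,1,1,1,1,1,0,1,1,0,1,1,0,1,1,1,1,1,1,1,1,1,1,1,1,0,1,1,1,1,1,1,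
  1,1,1,1,1,1,0,1]] (by decide +kernel)

theorem acts0 : ∀ j < 1, chkAct 3 7 2 6 As 2 0 63 (get2 18 vt) j (actW act (nthL [] us j)) = true :=
  forall_lt_add (a := 0) (b := 1) (fun _ h => absurd h (Nat.not_lt_zero _)) (by decide +kernel)

theorem acts : ∀ j < 2, chkAct 3 7 2 6 As 2 0 63 (get2 18 vt) j (actW act (nthL [] us j)) = true :=
  forall_lt_add (a := 1) (b := 1) acts0 (by decide +kernel)

theorem cen : Subgroup.center S62P.G = ⊥ :=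
  mdl.center_eq_bot 1 [[1,7,9,3,9,8]]
    [[],[0,1,2,5,7,5,8,0,9,1,5,9],[8,9,4,0,9,6,7,4,7,3,2,1],[1,4,7,5,8,3,4,9,1,5,9],[9,2,9,3,8,6,7,4,7,5,3],[2,3,
  7,5,8,7,3,9,1,5,9]] (by decide +kernel)

theorem mr : Spor.MatRep (matOf (Nat.cast : ℕ → ZMod 2) (finSumFinEquiv (m := 3) (n := 3)) Ls) 3 7 2 6 As 2 (reindexRingEquiv (ZMod 2) (finSumFinEquiv (m := 3) (n := 3))).toMonoidHom :=
  matRep_prime' (finSumFinEquiv (m := 3) (n := 3)) (by decide +kernel) (by decide +kernel)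

theorem equiv {F : Type*} [Field F] [Fintype F] (hF : Fintype.card F = 2) : Nonempty (PSp 3 F ≃* S62P.G) := by
  obtain ⟨e⟩ := exists_ringEquiv (ZMod 2) F ((ZMod.card 2).trans hF.symm)
  have h := Classical.card_PSp_mul (F := F) (m := 3) (by decide)
  simp only [Finset.prod_range_succ, Finset.prod_range_zero, Nat.card_eq_fintype_card (α := F), hF] at h
  exact mdl2.equiv_quot' (mrep_Sp e mr (by decide +kernel)) pts acts cen (by norm_num at h; omega)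

end Cfsg.Agent.Known.S62T
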