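import Cfsg.Agent.Known.Bridge
import Cfsg.Agent.Known.P.S62

/-! Pointwise tables and a base for `S62P.G` in degree 63 (generated certificate, helper25): letters `y`,
action `act`, `hy`, `base`, `mdl`. -/

set_option maxRecDepth 100000
set_option exponentiation.threshold 100000

namespace Cfsg.Agent.Known.S62T

open Cfsg.Agent.Comp

noncomputable def t0 : ℕ := (nat_lit 0x3ae78dfef7cef2c70bf6d74ceaa689eeb6cae28607e69648de75c6da6585d65544d24503ce34c2ca2481c61440c2040)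

theorem h0 : TabOf 63 6 t0 (Spor.ev (Spor.PP S62P.nets) [0])⁻¹ :=
  tabOf_of_chk (L := 6) S62P.ok _ (by decide +kernel)

noncomputable def t1 : ℕ := (nat_lit 0x3cefef78dfae74cf6d70bf2c6eb6caeaa689e69648e28607dc6de7585da6544d65503d244e34c2ca2481c61440c2040)

theorem h1 : TabOf 63 6 t1 (Spor.ev (Spor.PP S62P.nets) [1])⁻¹ :=
  tabOf_of_chk (L := 6) S62P.ok _ (by decide +kernel)

noncomputable def t2 : ℕ := (nat_lit 0x3ef7cefae78df6d74cf2c70be89eaa6caeeb607e28648e69585da65c6de7503d24544d654e34c2ca2481c61440c2040)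

theorem h2 : TabOf 63 6 t2 (Spor.ev (Spor.PP S62P.nets) [2])⁻¹ :=
  tabOf_of_chk (L := 6) S62P.ok _ (by decide +kernel)

noncomputable def t3 : ℕ := (nat_lit 0x3ef7cefae78df3d35dafc31cabb2dba7a29aa69648e28607de75c6da6585d351558f41148b30d3872092861440c2040)

theorem h3 : TabOf 63 6 t3 (Spor.ev (Spor.PP S62P.nets) [3])⁻¹ :=
  tabOf_of_chk (L := 6) S62P.ok _ (by decide +kernel)

noncomputable def t4 : ℕ := (nat_lit 0x39eb7e3dfbbf34cf6d70bf2c689eaa6caeeb659a392189f81a6585de75c6d351558f41148720928b30d3861440c2040)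

theorem h4 : TabOf 63 6 t4 (Spor.ev (Spor.PP S62P.nets) [4])⁻¹ :=
  tabOf_of_chk (L := 6) S62P.ok _ (by decide +kernel)

noncomputable def t5 : ℕ := (nat_lit 0x38dfae7cefef76d74cf2c70bedbabb29aa7a1f8218a392599d79b71969760f4114935155881ca24c2ce3461440c2040)

theorem h5 : TabOf 63 6 t5 (Spor.ev (Spor.PP S62P.nets) [5])⁻¹ :=
  tabOf_of_chk (L := 6) S62P.ok _ (by decide +kernel)

noncomputable def t6 : ℕ := (nat_lit 0x1e75c6d85da6565544d03d246caeeb6aa689e48e69628607fef7cef8dfae76d74cf0bf2c4c2ce34a2481c40c6142040)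

theorem h6 : TabOf 63 6 t6 (Spor.ev (Spor.PP S62P.nets) [6])⁻¹ :=
  tabOf_of_chk (L := 6) S62P.ok _ (by decide +kernel)

noncomputable def t7 : ℕ := (nat_lit 0x19697637e39e8f4114b1cafc2caeeb4e34c2e69648c40c615b71d7bdfbbf15593533d35daaa689c81ca2607e2842040)

theorem h7 : TabOf 63 6 t7 (Spor.ev (Spor.PP S62P.nets) [7])⁻¹ :=
  tabOf_of_chk (L := 6) S62P.ok _ (by decide +kernel)

noncomputable def t8 : ℕ := (nat_lit 0x2f6b163a3f845cd5ecd5f13f89807880a429e62e436b1ad1347766fd53b597c99c12dd0e4e8cc943b85b2121f2a806a)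

theorem h8 : TabOf 63 6 t8 (Spor.ev (Spor.PP S62P.nets) [8])⁻¹ :=
  tabOf_of_chk (L := 6) S62P.ok _ (by decide +kernel)

noncomputable def t9 : ℕ := (nat_lit 0x4c9d9cbe5683602b67d1e4497b42d10989ee96f01a253734af0f941cd8bb83a14ef16a7157cce9ea03c6347e22c6b5)

theorem h9 : TabOf 63 6 t9 (Spor.ev (Spor.PP S62P.nets) [9])⁻¹ :=
  tabOf_of_chk (L := 6) S62P.ok _ (by decide +kernel)

noncomputable def tabs : List ℕ := [t0, t1, t2, t3, t4, t5, t6, t7, t8, t9]

def wds : List (List ℕ) := [[0],[1],[2],[3],[4],[5],[6],[7],[8],[9]]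

noncomputable scoped instance inst : MulAction S62P.G ℕ := actOf S62P.φ

scoped instance fin : Finite S62P.G := Nat.finite_of_card_ne_zero (by rw [S62P.card]; decide)

noncomputable def y (i : ℕ) : S62P.G := (Spor.ev S62P.g (nthL [0] wds i))⁻¹

noncomputable def act (i : ℕ) : ℕ → ℕ := get2 6 (nthL t0 tabs i)

theorem hy : ActBy y (PtN 63) act :=
  actBy_tabs S62P.rep (.cons h0 (.cons h0 (.cons h1 (.cons h2 (.cons h3 (.cons h4 (.cons h5 (.cons h6 (.cons h7 (.cons h8 (.cons h9 (.nil)))))))))))) (by decide +kernel)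

theorem f0 : FixLe S62P.G (PtN 63) [1] 63 :=
  FixLe.nil.stepW (isCanon_PtN _) hy 1 63 [[9],[4,8]] 63 ⟨_, rfl, by decide⟩ (by decide +kernel)

theorem f1 : FixLe S62P.G (PtN 63) [0,1] 1890 :=
  f0.stepW (isCanon_PtN _) hy 0 30 [[3,8],[2,7]] 63 ⟨_, rfl, by decide⟩ (by decide +kernel)

theorem f2 : FixLe S62P.G (PtN 63) [3,0,1] 22680 :=
  f1.stepW (isCanon_PtN _) hy 3 12 [[4,7],[0],[2]] 63 ⟨_, rfl, by decide⟩ (by decide +kernel)

theorem f3 : FixLe S62P.G (PtN 63) [7,3,0,1] 181440 :=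
  f2.stepW (isCanon_PtN _) hy 7 8 [[3],[4],[5]] 63 ⟨_, rfl, by decide⟩ (by decide +kernel)

theorem f4 : FixLe S62P.G (PtN 63) [15,7,3,0,1] 725760 :=
  f3.stepW (isCanon_PtN _) hy 15 4 [[2],[1]] 63 ⟨_, rfl, by decide⟩ (by decide +kernel)

theorem f5 : FixLe S62P.G (PtN 63) [31,15,7,3,0,1] 1451520 :=
  f4.stepW (isCanon_PtN _) hy 31 2 [[0]] 63 ⟨_, rfl, by decide⟩ (by decide +kernel)

theorem base : IsBase S62P.G (PtN 63) [31,15,7,3,0,1] := f5.isBase S62P.card le_rfl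

theorem mdl : Mdl S62P.φ 63 10 1451520 y act [31,15,7,3,0,1] :=
  mdl_of_tabs S62P.rep hy base (by decide) S62P.card (by decide)

end Cfsg.Agent.Known.S62T
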