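import Cfsg.Agent.Known.SL29Tab
import Cfsg.Agent.Known.MatRep2

/-! SL(2,9) is isomorphic to its model (helper25): `equiv`. -/

set_option maxRecDepth 100000
set_option exponentiation.threshold 100000

namespace Cfsg.Agent.Known.SL29T

open Cfsg.Agent.Comp Matrix

def As : List (List ℕ) := [[66560,33792,2081,65570],[2050,65600,1,32],[1,32,1024,32768]]

def Ls : List (List (List ℕ)) := [[[0,4],[7,2]],[[2,1],[2,0]]]

noncomputable def vt : ℕ := (nat_lit 0x1084210841108401082210821108201080210801108001044210441104401042210421104201040210401104001004210041100401002210021100201000210001100000884208841088400882208821088200880208801088000844208441084400842208421084200840208401084000804208041080400802208021080200800208001080000084200841008400082200821008200080200801008000044200441004400042200421004200040200401004000004200041000400002200021000200000200001)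

theorem pts : chkPts 5 31 3 4 As 2 0 80 (get2 20 vt) = true := by decide +kernel

def us : List (List ℕ) := [[3,5,1,5,0],[3,1,5,5,0,3]]

theorem mdl2 : Mdl SL29P.φ 80 2 720 (fun j => W y (nthL [] us j)) (fun j => actW act (nthL [] us j)) [8,0] :=
  mdl.words us [[1,0,0,1,0,0,1,1,0,1,1],[1,0,0,1,0,1,1,0,1,1],[0,0,1,0,1,1,0,0,1,1,0],[0,0,1,0,1,0,0,1,1,0],[1,1,0,1,0,0,1,1,
  0,0,1,1,0],[0,0,1,0,1,1,1,1,0,1,1,0,0,1]] (by decide +kernel)

theorem acts0 : ∀ j < 1, chkAct 5 31 3 4 As 2 0 80 (get2 20 vt) j (actW act (nthL [] us j)) = true :=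
  forall_lt_add (a := 0) (b := 1) (fun _ h => absurd h (Nat.not_lt_zero _)) (by decide +kernel)

theorem acts : ∀ j < 2, chkAct 5 31 3 4 As 2 0 80 (get2 20 vt) j (actW act (nthL [] us j)) = true :=
  forall_lt_add (a := 1) (b := 1) acts0 (by decide +kernel)

theorem mr : Spor.MatRep (matOf F9.dec (Equiv.refl (Fin 2)) Ls) 5 31 3 (2 * 2) As 2 (phiR F9.reg (Equiv.refl (Fin 2))) :=
  matRep_phiR' F9.reg_inj (Equiv.refl (Fin 2)) (by decide +kernel) (by decide +kernel)

theorem equiv {F : Type*} [Field F] [Fintype F] (hF : Fintype.card F = 9) : Nonempty (SpecialLinearGroup (Fin 2) F ≃* SL29P.G) := by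
  obtain ⟨e⟩ := exists_ringEquiv F9 F (F9.card.trans hF.symm)
  exact mdl2.equiv_mat' (mrep_SL e mr (det_of_chk mr 3 (by decide +kernel) (by decide +kernel))) pts acts
    (by rw [Classical.card_SL2, Nat.card_eq_fintype_card, hF])

end Cfsg.Agent.Known.SL29T
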