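import Cfsg.Agent.Known.Bridge
import Cfsg.Agent.Known.P.SL29

/-! Pointwise tables and a base for `SL29P.G` in degree 80 (generated certificate, helper25): letters `y`,
action `act`, `hy`, `base`, `mdl`. -/

set_option maxRecDepth 100000
set_option exponentiation.threshold 100000

namespace Cfsg.Agent.Known.SL29T

open Cfsg.Agent.Comp

noncomputable def t0 : ℕ := (nat_lit 0x992e549911e7ce9b12345830e13e80fdb356ef1dbd72e1d3364d182f62b562e4a911ab54a54274c74f9e3470da04484893245cc982858a8c1634488143c7100e182840608080)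

theorem h0 : TabOf 80 7 t0 (Spor.ev (Spor.PP SL29P.nets) [0])⁻¹ :=
  tabOf_of_chk (L := 7) SL29P.ok _ (by decide +kernel)

noncomputable def t1 : ℕ := (nat_lit 0x93223cf9d3664b951624685061bf7d01c3a72d5bb676f5e3268cd7b160b172d509d325488d5aa526cd1c428111e3a7ca942c48893305cc8814247101e2c68c0e182840608080)

theorem h1 : TabOf 80 7 t1 (Spor.ev (Spor.PP SL29P.nets) [1])⁻¹ :=
  tabOf_of_chk (L := 7) SL29P.ok _ (by decide +kernel)

noncomputable def t2 : ℕ := (nat_lit 0x972a6488f2674d9f061c27d01fc48d15d3970ddb357af1dad58b99b268c17b1469522956a93284e70d9a448501f3c74c173254a16244498e203c58d18205090e182840608080)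

theorem h2 : TabOf 80 7 t2 (Spor.ev (Spor.PP SL29P.nets) [2])⁻¹ :=
  tabOf_of_chk (L := 7) SL29P.ok _ (by decide +kernel)

noncomputable def t3 : ℕ := (nat_lit 0x8f2644d9f3a54c96fdf408b12342830dbb66af5e3b74e5c2f62c162e5ac9a334e994244695529567cf1d386cd224280b993050b15224c90f1c4060b1a2440a0e182840608080)

theorem h3 : TabOf 80 7 t3 (Spor.ev (Spor.PP SL29P.nets) [3])⁻¹ :=
  tabOf_of_chk (L := 7) SL29P.ok _ (by decide +kernel)

noncomputable def t4 : ℕ := (nat_lit 0x272d9066a7c5c6480dd9c110d51990bc7404e5a72c00e11332330e876c946443411e2b130581792a07be5a527a002e653424dcf058a8c6bd360a129151d8987e9884d5c55d21)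

theorem h4 : TabOf 80 7 t4 (Spor.ev (Spor.PP SL29P.nets) [4])⁻¹ :=
  tabOf_of_chk (L := 7) SL29P.ok _ (by decide +kernel)

noncomputable def t5 : ℕ := (nat_lit 0x3ae42329c651bf15209ac843533c0e808298a04d362cbe59869344a57c0cfb85104622761974724d401c94558c41eae00848e811e9e5d98542f48ad922d3c36130a2a8c38db7)

theorem h5 : TabOf 80 7 t5 (Spor.ev (Spor.PP SL29P.nets) [5])⁻¹ :=
  tabOf_of_chk (L := 7) SL29P.ok _ (by decide +kernel)

noncomputable def tabs : List ℕ := [t0, t1, t2, t3, t4, t5]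

def wds : List (List ℕ) := [[0],[1],[2],[3],[4],[5]]

noncomputable scoped instance inst : MulAction SL29P.G ℕ := actOf SL29P.φ

scoped instance fin : Finite SL29P.G := Nat.finite_of_card_ne_zero (by rw [SL29P.card]; decide)

noncomputable def y (i : ℕ) : SL29P.G := (Spor.ev SL29P.g (nthL [0] wds i))⁻¹

noncomputable def act (i : ℕ) : ℕ → ℕ := get2 7 (nthL t0 tabs i)

theorem hy : ActBy y (PtN 80) act :=
  actBy_tabs SL29P.rep (.cons h0 (.cons h0 (.cons h1 (.cons h2 (.cons h3 (.cons h4 (.cons h5 (.nil)))))))) (by decide +kernel)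

theorem f0 : FixLe SL29P.G (PtN 80) [0] 80 :=
  FixLe.nil.stepW (isCanon_PtN _) hy 0 80 [[4],[0]] 80 ⟨_, rfl, by decide⟩ (by decide +kernel)

theorem f1 : FixLe SL29P.G (PtN 80) [8,0] 720 :=
  f0.stepW (isCanon_PtN _) hy 8 9 [[2],[0]] 80 ⟨_, rfl, by decide⟩ (by decide +kernel)

theorem base : IsBase SL29P.G (PtN 80) [8,0] := f1.isBase SL29P.card le_rfl

theorem mdl : Mdl SL29P.φ 80 6 720 y act [8,0] :=
  mdl_of_tabs SL29P.rep hy base (by decide) SL29P.card (by decide)

end Cfsg.Agent.Known.SL29T
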