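import Cfsg.Agent.Known.SL29Tab
import Cfsg.Agent.Known.Pack

/-! Upper bound for the Schur multiplier of `SL29P.G` (generated certificate, helper25): `sb`. -/

set_option maxRecDepth 100000

namespace Cfsg.Agent.Known.SL29T

open Cfsg.Agent.Comp

def D2 : PcData := ⟨1, 4,
  [[2],[3],[3],[]],
  [[],[[1,2]],[[2],[2,3]],[[3],[3],[3]]],
  []⟩

noncomputable def T2_0 : List ((ℕ × ℕ × List ℕ × List ℕ) × List (ℕ × ℕ)) := decTests
  [nat_lit 0xa010004,nat_lit 0x2388f00b08020003,nat_lit 0x85020004,nat_lit 0xcc19c02883406a0981c03907040008,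
  nat_lit 0xc6020004,nat_lit 0x9e13e01581608030004,nat_lit 0xd6020004,nat_lit 0x2f05f00a809c1c03907040006,
  nat_lit 0x95020004,nat_lit 0x603101706030003,nat_lit 0xe6020004,nat_lit 0xf00f1002808040003]

theorem hT2_0 : relOK D2 13 16 T2_0 = true := by decide +kernel

noncomputable def L2 : LinCert := LinCert.dec []
  [nat_lit 0x4c2640408010003,nat_lit 0x623140508010003,nat_lit 0x2b0ad00a08020003,nat_lit 0x582d01406030003]
  []
  [nat_lit 0x402010001,nat_lit 0x502010001,nat_lit 0xa02020001,nat_lit 0x1402030001,nat_lit 0xb02020001,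
  nat_lit 0xb58644603010007,nat_lit 0x91103030002,nat_lit 0x2802040001,nat_lit 0x2902040001,
  nat_lit 0xbbd0c03020004]

theorem hL2 : linOK D2 13 ([T2_0].flatMap fun c => c.map fun s => s.2) L2 = true := by
  decide +kernel

def xw2 : List (List ℕ) := [[3,4,4,0,3],[0,5,5,1],[2,0,5,2,1],[4,2,4,2]]

noncomputable def a2 (i : ℕ) : ℕ → ℕ := actW act (nthL [] xw2 i)

theorem r2_0 : ∀ j < 4, D2.relJ (eqB a2 [8,0]) j = true :=
  forall_lt_add (a := 0) (b := 4) (fun _ h => absurd h (Nat.not_lt_zero _)) (by decide +kernel)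

theorem f2' : D2.relF (eqB a2 [8,0]) = true := by decide +kernel

theorem o2 : D2.ordOK a2 [[0],[1]] [0] 80 18 = true := by decide +kernel

theorem sb2 : SBnd SL29P.G 45 [] :=
  sbnd_of_act (isCanon_PtN 80) (hy.words xw2) base D2 (by decide +kernel) r2_0 f2' SL29P.card
    (by decide +kernel) (exists_PtN (by decide +kernel)) o2 (List.forall_mem_cons.2 ⟨hT2_0, List.forall_mem_nil _⟩) hL2 (by decide +kernel)

def D3 : PcData := ⟨2, 2,
  [[],[]],
  [[],[[1]]],
  []⟩

noncomputable def T3_0 : List ((ℕ × ℕ × List ℕ × List ℕ) × List (ℕ × ℕ)) := decTests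
  [nat_lit 0xb010004,nat_lit 0x7339c0d08010003]

theorem hT3_0 : relOK D3 12 12 T3_0 = true := by decide +kernel

noncomputable def L3 : LinCert := LinCert.dec []
  [nat_lit 0x422140408010003,nat_lit 0x3d8f700a08020003]
  [(nat_lit 0x152b0506010003, 3, nat_lit 0x402010001)]
  [nat_lit 0x402010001,nat_lit 0xa02020001,nat_lit 0x502010001]

theorem hL3 : linOK D3 12 ([T3_0].flatMap fun c => c.map fun s => s.2) L3 = true := by
  decide +kernel

def xw3 : List (List ℕ) := [[0,2],[0,3]]

noncomputable def a3 (i : ℕ) : ℕ → ℕ := actW act (nthL [] xw3 i)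

theorem r3_0 : ∀ j < 2, D3.relJ (eqB a3 [8,0]) j = true :=
  forall_lt_add (a := 0) (b := 2) (fun _ h => absurd h (Nat.not_lt_zero _)) (by decide +kernel)

theorem f3' : D3.relF (eqB a3 [8,0]) = true := by decide +kernel

theorem o3 : D3.ordOK a3 [[0],[1]] [8] 80 11 = true := by decide +kernel

theorem sb3 : SBnd SL29P.G 80 [3] :=
  sbnd_of_act (isCanon_PtN 80) (hy.words xw3) base D3 (by decide +kernel) r3_0 f3' SL29P.card
    (by decide +kernel) (exists_PtN (by decide +kernel)) o3 (List.forall_mem_cons.2 ⟨hT3_0, List.forall_mem_nil _⟩) hL3 (by decide +kernel)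

def xwc : List (List ℕ) := [[1,5]]

theorem sb : SBnd SL29P.G 1 [3] :=
  ((sb2.append sb3).append
    (sbnd_of_cyclic (isCanon_PtN 80) (hy.words xwc) base 0 5 0 (by norm_num) (b := 0) ⟨_, rfl, by decide⟩
      (by decide +kernel) SL29P.card (m := 144) (by decide +kernel))).of_eq (by decide +kernel) rfl

end Cfsg.Agent.Known.SL29T
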