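import Cfsg.Agent.Known.Sz8Tab
import Cfsg.Agent.Known.MatRep2
import Cfsg.Agent.Sz.Structure

/-! Sz(8) is isomorphic to its model (helper25): `equiv`. -/

set_option maxRecDepth 100000
set_option exponentiation.threshold 100000

namespace Cfsg.Agent.Known.Sz8T

open Cfsg.Agent.Comp Matrix

def As : List (List ℕ) := [[18691714514945,18760686632976,17665200558336,73015496720,1099796844800,17596749512721,1103823376656,
  17592202887441,1168500588801,68989026576,1103807713553,17592472310017],[1,16,256,4353,65537,1048592,16847121,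
  269549825,4296085505,73031290881,1099529519120,17592455598336],[16,256,17,65536,1048576,69632,268435456,
  4294967296,285212672,1099511627776,17592186044416,1168231104512]]

def Ls : List (List (List ℕ)) := [[[1,2,6,6],[2,5,1,6],[1,4,5,2],[6,1,2,1]],[[1,5,7,1],[0,1,3,3],[0,0,1,5],[0,0,0,1]]]

noncomputable def vt : ℕ := (nat_lit 0x1111111010001111110100001111101001001111100111001111011001001111010111001111001010001111000100001110111010001110110101001110101011001110100100001110011101001110010010001110001100001110000011001101111001001101110101001101101110001101100010001101011001001101010101001101001110001101000010001100111011001100110110001100101110001100100011001100011111001100010010001100001010001100000111001011111001001011110011001011101001001011100011001011011100001011010110001011001100001011000110001010111101001010110110001010101111001010100100001010011100001010010111001010001110001010000101001001111011001001110011001001101111001001100111001001011101001001010101001001001001001001000001001000111101001000110100001000101011001000100010001000011111001000010110001000001001001000000000000000000001)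

theorem pts : chkPts 4 15 2 12 As 2 6 65 (get2 48 vt) = true := by decide +kernel

def us : List (List ℕ) := [[0,4,3,4,3,0,3,0,2,0,0,0],[2,2,0,3,0]]

theorem mdl2 : Mdl Sz8P.φ 65 2 29120 (fun j => W y (nthL [] us j)) (fun j => actW act (nthL [] us j)) [2,1,0] :=
  mdl.words us [[0,1,1,1,1,1,1,0,1,0,1,1,1,1,1,1,0,1,1,0,1,1,1,1,1,1,0,1,0,1],[1,1,1,0,1,1,1,0,1,1,0,1,1,1,1,1,1,0,1,1,0,1,1,
  1,0,1,1,0],[0,1,0,1,1,1,0,1,1,1,0,1,1,1,0,1,0,1,1,1,0,1,1,1,1,1,1,0,1,1,1,0,1,1,1,0,1,1,0,1,1,1,1,1,1,0,1,1,0,
  1,1,1,0,1,1,0],[0,1,1,1,1,1,1,0,1,0,1,1,1,1,1,1,0,1,1,0,1,1,1,1,1,1,0,1,0,1,0,1,1,0,1,0,1,1,1,0,1,0,1,0,1,0,1,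
  1,1,0],[0,1,1,1,0,1,0,1,1,1,0,1,0,1,1,1,0,1,1,1,0,1,1,1,0,1,1,0,1,1,1,0,1,0,1,1,1,0,1,1,1,0,1,1,0,1,1,1,0,1,1,
  1,0,1,1]] (by decide +kernel)

theorem acts0 : ∀ j < 1, chkAct 4 15 2 12 As 2 6 65 (get2 48 vt) j (actW act (nthL [] us j)) = true :=
  forall_lt_add (a := 0) (b := 1) (fun _ h => absurd h (Nat.not_lt_zero _)) (by decide +kernel)

theorem acts : ∀ j < 2, chkAct 4 15 2 12 As 2 6 65 (get2 48 vt) j (actW act (nthL [] us j)) = true :=
  forall_lt_add (a := 1) (b := 1) acts0 (by decide +kernel)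

theorem mr : Spor.MatRep (matOf F8.dec (Equiv.refl (Fin 4)) Ls) 4 15 2 (4 * 3) As 2 (phiR F8.reg (Equiv.refl (Fin 4))) :=
  matRep_phiR' F8.reg_inj (Equiv.refl (Fin 4)) (by decide +kernel) (by decide +kernel)

theorem equiv {F : Type*} [Field F] [Fintype F] (hF : Fintype.card F = 8) : Nonempty (Lie.Sz F 4 ≃* Sz8P.G) := by
  obtain ⟨e⟩ := exists_ringEquiv F8 F (F8.card.trans hF.symm)
  let := Sz.titsOfCard (m := 1) le_rfl hF
  let := Sz.lieRep (Sz.titsOfCard_θ (m := 1) le_rfl hF)
  exact mdl2.equiv_mat' (mrep_Sz e (Sz.titsOfCard_θ (m := 1) le_rfl hF) mr (isUnit_of_chk mr 3 (by decide +kernel))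
    (by decide +kernel)) pts acts ((Sz.card_G (F := F)).trans (by rw [Nat.card_eq_fintype_card, hF]; norm_num))

end Cfsg.Agent.Known.Sz8T
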