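import Cfsg.Agent.Known.Sz8Tab
import Cfsg.Agent.Known.Pack

/-! Upper bound for the Schur multiplier of `Sz8P.G` (generated certificate, helper25): `sb`. -/

set_option maxRecDepth 100000

namespace Cfsg.Agent.Known.Sz8T

open Cfsg.Agent.Comp

def D2 : PcData := ⟨1, 6,
  [[3,5],[3,4],[5],[],[],[]],
  [[],[[1,5]],[[2,4,5],[2,3]],[[3],[3],[3]],[[4],[4],[4],[4]],[[5],[5],[5],[5],[5]]],
  []⟩

noncomputable def T2_0 : List ((ℕ × ℕ × List ℕ × List ℕ) × List (ℕ × ℕ)) := decTests
  [nat_lit 0x84b030004,nat_lit 0x703902f06030003,nat_lit 0x88b030004,nat_lit 0x12024805807040003,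
  nat_lit 0x86020004,nat_lit 0x9012802306b09a1c02885306050008,nat_lit 0xe6020004,nat_lit 0xa40a6005107050003,
  nat_lit 0x68c030004,nat_lit 0xea0758011805308050004,nat_lit 0x46020004,
  nat_lit 0x3081860041812009404e02781440a60540805000a,nat_lit 0xb010004,
  nat_lit 0x71038c0081023813c0a005408050007,nat_lit 0x85020004,nat_lit 0x50028400a102301280e007408050007,
  nat_lit 0xa010004,nat_lit 0xea0eb002602f08040004,nat_lit 0xc6020004,
  nat_lit 0x640cc028c3606e09e1c43987406050009,nat_lit 0x97020004,nat_lit 0xaa0ab004702d08040004,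
  nat_lit 0xd6020004,nat_lit 0x5702bc00a403401a40a00b208050007,nat_lit 0xe7020004,nat_lit 0xa0581105204050004,
  nat_lit 0x96020004,nat_lit 0xf81f40220270500a41604d07040008,nat_lit 0x95020004,nat_lit 0xc833009c2b06040004,
  nat_lit 0x80b030004,nat_lit 0x13827402e08030003]

theorem hT2_0 : relOK D2 16 25 T2_0 = true := by decide +kernel

noncomputable def L2 : LinCert := LinCert.dec []
  [nat_lit 0x2e0b900a08020003,nat_lit 0x1c3a0b05020003,nat_lit 0x7c3f01406030003,nat_lit 0x18c31c01508030003,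
  nat_lit 0x7e3f40508010003,nat_lit 0xce403010003]
  [(nat_lit 0x18030401708030003, 2, nat_lit 0x602010001), (nat_lit 0x142c1604030003, 2, nat_lit 0x639484214a5230a9295204010010)]
  [nat_lit 0x1502030001,nat_lit 0x1402030001,nat_lit 0x402010001,nat_lit 0x502010001,nat_lit 0xa02020001,
  nat_lit 0xb02020001,nat_lit 0x1702030001,nat_lit 0x1602030001,nat_lit 0x798428610410618610c18a1862803030012,
  nat_lit 0x599a0288081428304081032210406082005020013,nat_lit 0xf5e1802030004,nat_lit 0xdaf02040002,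
  nat_lit 0x2ee10a18410d58a186280303000d,nat_lit 0x2b2b03040002,
  nat_lit 0x2a4a090490102c5890c2060b3a28a0a104005020014,nat_lit 0xde802040002,
  nat_lit 0x12c702c280a0582c120804020122306060180a0a006030012,nat_lit 0x2b02040001,
  nat_lit 0x1320510102850a102040a3420a08104004030012,nat_lit 0x46c0a202050636a080810400403000d,
  nat_lit 0xb15268282a0b0502810070482c1022068641a0b0a806030013]

theorem hL2 : linOK D2 16 ([T2_0].flatMap fun c => c.map fun s => s.2) L2 = true := by
  decide +kernel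

def xw2 : List (List ℕ) := [[0,0,2],[1,1,3,0,2,0],[3,1,2,0],[2,0,0,2,0,0],[1,3,3,0,2,1,1],[1,2,0,0,2,0,0,0]]

noncomputable def a2 (i : ℕ) : ℕ → ℕ := actW act (nthL [] xw2 i)

theorem r2_0 : ∀ j < 6, D2.relJ (eqB a2 [2,1,0]) j = true :=
  forall_lt_add (a := 0) (b := 6) (fun _ h => absurd h (Nat.not_lt_zero _)) (by decide +kernel)

theorem f2' : D2.relF (eqB a2 [2,1,0]) = true := by decide +kernel

theorem o2 : D2.ordOK a2 [[0],[1],[2]] [1] 65 66 = true := by decide +kernel

theorem sb2 : SBnd Sz8P.G 455 [2,2] :=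
  sbnd_of_act (isCanon_PtN 65) (hy.words xw2) base D2 (by decide +kernel) r2_0 f2' Sz8P.card
    (by decide +kernel) (exists_PtN (by decide +kernel)) o2 (List.forall_mem_cons.2 ⟨hT2_0, List.forall_mem_nil _⟩) hL2 (by decide +kernel)

def xwc : List (List ℕ) := [[3,0,4,2,4],[2,4,1,2,0],[2,2,4,3,4,0]]

theorem sb : SBnd Sz8P.G 1 [2,2] :=
  (((sb2.append
    (sbnd_of_cyclic (isCanon_PtN 65) (hy.words xwc) base 0 5 0 (by norm_num) (b := 0) ⟨_, rfl, by decide⟩
      (by decide +kernel) Sz8P.card (m := 5824) (by decide +kernel))).append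
    (sbnd_of_cyclic (isCanon_PtN 65) (hy.words xwc) base 1 7 0 (by norm_num) (b := 0) ⟨_, rfl, by decide⟩
      (by decide +kernel) Sz8P.card (m := 4160) (by decide +kernel))).append
    (sbnd_of_cyclic (isCanon_PtN 65) (hy.words xwc) base 2 13 0 (by norm_num) (b := 0) ⟨_, rfl, by decide⟩
      (by decide +kernel) Sz8P.card (m := 2240) (by decide +kernel))).of_eq (by decide +kernel) rfl

end Cfsg.Agent.Known.Sz8T
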