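import Cfsg.Agent.Known.PTail3
import Cfsg.Agent.Known.ThUp2
import Cfsg.Agent.Known.ThKUp
import Cfsg.Agent.Known.ThUUp

/-! The Schur multiplier of the Thompson group (generated certificate, helper25). -/

set_option maxRecDepth 100000
set_option Elab.async false

namespace Cfsg.Agent.Known.ThMul

open Cfsg.Agent.Comp
open Cfsg.Agent.Spor hiding allL

def tr : List ℕ := [0, 2, 4, 6, 8, 10, 11, 12, 13, 14, 15]

def gi : List ℕ := [0, 1, 2, 3, 4, 5, 7, 9]

noncomputable abbrev g0 : ℕ → Cfsg.Spor.Th := renG ThG.g (sing gi)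

theorem htr : ∀ j < 11, ThG.g j = lv g0 (tr.getD j 0) := tr_ren ThG.hi (by decide +kernel) (by decide)

def U1 : List (List ℕ) := [[0], [1], [2], [3], [4], [5], [7]]

theorem hι1 : ∀ i < 2 * 7, ThG.ι (lv (renG ThK.g U1) i) = ev (lv g0) ((dbl invF 7 (trL tr U1)).getD i []) :=
  hom_dbl (hom_tr htr (map_renG (ren := U1) ThG.exι.choose_spec (by decide +kernel) []) (by decide +kernel))

def rs1 : List (ℕ × List ℕ) := [(0, [0, 1]), (0, [2, 3]), (0, [4, 5]), (0, [6, 7]), (0, [8, 9]), (0, [10, 11]), (0, [12, 13]), (25, [10, 6,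
   10, 6]), (24, [11, 4, 10, 4]), (33, [13, 10, 12, 11, 11]), (32, [13, 8, 12, 8]), (23, [11, 2, 10, 2]), (31,
   [13, 6, 12, 6]), (18, [4, 8, 4, 8]), (30, [13, 4, 12, 4]), (17, [0, 6, 4, 6, 4, 6, 4, 6, 4]), (26, [8, 11, 8,
   11, 11, 8, 10, 10, 10]), (16, [2, 8, 2, 8]), (4, [6, 6]), (1, [0, 0]), (19, [6, 8, 6, 8, 6, 8]), (22, [11, 0,
   10, 0]), (29, [13, 2, 12, 2]), (5, [8, 8]), (3, [4, 4]), (15, [2, 6, 2, 6]), (13, [0, 8, 0, 8]), (27, [12,
   12, 12]), (28, [13, 0, 12, 0]), (2, [2, 2]), (14, [2, 4, 2, 4, 2, 4]), (12, [0, 2, 0, 2, 0, 2]), (20, [2, 4,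
   6, 8, 2, 4, 6, 8, 2, 4, 6, 8, 2, 4, 6, 8, 2, 4, 6, 8, 2, 4, 6, 8, 2, 4, 6, 8, 2, 4, 6, 8]), (21, [10, 10, 10,
   10, 10, 10, 10]), (46, [0, 4, 7, 4, 6, 10, 9, 7, 4, 6, 8, 11, 11, 11, 9, 7, 4, 6, 8, 10, 10, 6, 4, 6, 13, 10,
   12, 2, 4, 6, 4, 2, 6, 0, 4, 2, 6, 4, 8, 6, 4, 2, 0, 4, 2, 6, 4, 2, 6, 11, 11, 11, 11, 2, 4, 6, 4, 2, 0, 4, 2,
   6, 8, 4, 6, 4, 8, 6, 4, 2, 0, 6, 4, 2, 8, 6, 4, 2, 10, 10, 11, 11, 5, 1, 10, 10, 7, 0, 4, 7, 4, 6, 10, 9, 7,
   4, 6, 8, 11, 11, 11, 9, 7, 4, 6, 8, 10, 10, 6]), (47, [7, 11, 11, 5, 1, 10, 10, 6, 7, 11, 11, 5, 1, 10, 10,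
   6, 7, 11, 11, 5, 1, 10, 10, 6, 7, 11, 11, 5, 1, 10, 10, 6]), (48, [7, 11, 11, 2, 4, 6, 4, 2, 0, 4, 2, 6, 8,
   4, 6, 4, 8, 6, 4, 2, 0, 6, 4, 2, 8, 6, 4, 2, 10, 10, 6, 7, 11, 11, 2, 4, 6, 4, 2, 0, 4, 2, 6, 8, 4, 6, 4, 8,
   6, 4, 2, 0, 6, 4, 2, 8, 6, 4, 2, 10, 10, 6, 7, 11, 11, 2, 4, 6, 4, 2, 0, 4, 2, 6, 8, 4, 6, 4, 8, 6, 4, 2, 0,
   6, 4, 2, 8, 6, 4, 2, 10, 10, 6, 7, 11, 11, 2, 4, 6, 4, 2, 0, 4, 2, 6, 8, 4, 6, 4, 8, 6, 4, 2, 0, 6, 4, 2, 8,
   6, 4, 2, 10, 10, 6]), (49, [7, 13, 10, 12, 2, 4, 6, 4, 2, 6, 0, 4, 2, 6, 4, 8, 6, 4, 2, 0, 4, 2, 6, 4, 2, 6,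
   11, 11, 6, 7, 13, 10, 12, 2, 4, 6, 4, 2, 6, 0, 4, 2, 6, 4, 8, 6, 4, 2, 0, 4, 2, 6, 4, 2, 6, 11, 11, 6, 7, 13,
   10, 12, 2, 4, 6, 4, 2, 6, 0, 4, 2, 6, 4, 8, 6, 4, 2, 0, 4, 2, 6, 4, 2, 6, 11, 11, 6, 7, 13, 10, 12, 2, 4, 6,
   4, 2, 6, 0, 4, 2, 6, 4, 8, 6, 4, 2, 0, 4, 2, 6, 4, 2, 6, 11, 11, 6]), (50, [11, 11, 2, 4, 6, 4, 2, 0, 4, 2,
   6, 8, 4, 6, 4, 8, 6, 4, 2, 0, 6, 4, 2, 8, 6, 4, 2, 10, 10, 11, 11, 2, 4, 6, 4, 2, 0, 4, 2, 6, 8, 4, 6, 4, 8,
   6, 4, 2, 0, 6, 4, 2, 8, 6, 4, 2, 10, 10, 11, 11, 2, 4, 6, 4, 2, 0, 4, 2, 6, 8, 4, 6, 4, 8, 6, 4, 2, 0, 6, 4,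
   2, 8, 6, 4, 2, 10, 10, 11, 11, 2, 4, 6, 4, 2, 0, 4, 2, 6, 8, 4, 6, 4, 8, 6, 4, 2, 0, 6, 4, 2, 8, 6, 4, 2, 10,
   10]), (51, [13, 10, 12, 2, 4, 6, 4, 2, 6, 0, 4, 2, 6, 4, 8, 6, 4, 2, 0, 4, 2, 6, 4, 2, 6, 11, 11, 13, 10, 12,
   2, 4, 6, 4, 2, 6, 0, 4, 2, 6, 4, 8, 6, 4, 2, 0, 4, 2, 6, 4, 2, 6, 11, 11, 13, 10, 12, 2, 4, 6, 4, 2, 6, 0, 4,
   2, 6, 4, 8, 6, 4, 2, 0, 4, 2, 6, 4, 2, 6, 11, 11, 13, 10, 12, 2, 4, 6, 4, 2, 6, 0, 4, 2, 6, 4, 8, 6, 4, 2, 0,
   4, 2, 6, 4, 2, 6, 11, 11]), (52, [6, 4, 6, 6, 4, 6, 6, 4, 6, 6, 4, 6]), (53, [0, 4, 0, 4])]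

theorem hrs1 : ∀ r ∈ rs1.map Prod.snd, ev (lv (renG ThK.g U1)) r = 1 :=
  rels_dbl (n := 7) ThK.invOk (by decide +kernel) (by decide +kernel) (ThK.rep.ev_eq_one ThK.inj (by decide +kernel)
    (ev_eq_one_of_chkId (L := 10) JThK.ok (by decide) (by decide +kernel)))

theorem exκ : ∃ κ : ThU.G →* Cfsg.Spor.Th, ∀ x < 7, κ (ThU.g x) = renG ThG.g ThG.jU x :=
  ThU.lifts _ _ (renG_rels (ThG.hi.rels ThG.hg (by decide +kernel) (by decide +kernel)))

def U2 : List (List ℕ) := [[0], [1], [2], [3], [4], [5]]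

def V2 : List (List ℕ) := [[0], [1], [2], [3], [4], [9]]

theorem hι2 : ∀ i < 2 * 6, exκ.choose (lv (renG ThU.g U2) i) = ev (lv g0) ((dbl invF 6 (trL tr V2)).getD i []) :=
  hom_dbl (hom_tr htr (map_renG (ren := U2) exκ.choose_spec (by decide +kernel) []) (by decide +kernel))

def rs2 : List (ℕ × List ℕ) := [(0, [0, 1]), (0, [2, 3]), (0, [4, 5]), (0, [6, 7]), (0, [8, 9]), (0, [10, 11]), (34, [10, 10, 4, 0]), (1, [0,
   0]), (17, [0, 6, 4, 6, 4, 6, 4, 6, 4]), (37, [11, 8, 10, 8]), (4, [6, 6]), (35, [11, 0, 10, 0]), (3, [4, 4]),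
   (36, [11, 4, 10, 4]), (15, [2, 6, 2, 6]), (2, [2, 2]), (38, [6, 8, 11, 6, 10, 6, 8, 11, 6, 10]), (5, [8, 8]),
   (16, [2, 8, 2, 8]), (18, [4, 8, 4, 8]), (13, [0, 8, 0, 8]), (39, [11, 2, 4, 0, 2, 10, 2, 0, 4, 2, 8]), (19,
   [6, 8, 6, 8, 6, 8]), (14, [2, 4, 2, 4, 2, 4]), (12, [0, 2, 0, 2, 0, 2]), (40, [6, 11, 6, 2, 4, 0, 2, 6, 10,
   6, 2, 0, 4, 2, 4, 8, 6, 11, 6, 2, 4, 0, 2, 8, 11]), (20, [2, 4, 6, 8, 2, 4, 6, 8, 2, 4, 6, 8, 2, 4, 6, 8, 2,
   4, 6, 8, 2, 4, 6, 8, 2, 4, 6, 8, 2, 4, 6, 8])]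

theorem hrs2 : ∀ r ∈ rs2.map Prod.snd, ev (lv (renG ThU.g U2)) r = 1 :=
  rels_dbl (n := 6) ThU.invOk (by decide +kernel) (by decide +kernel) (ThU.rep.ev_eq_one ThU.inj (by decide +kernel)
    (ev_eq_one_of_chkId (L := 10) JThG.ok (by decide) (by decide +kernel)))

def aux1 : List (List ℕ) := [[0, 4, 7, 4, 6, 10, 9, 7, 4, 6, 8, 11, 11, 11, 9, 7, 4, 6, 8, 10, 10, 6, 4, 6, 13, 10, 12, 2, 4, 6, 4, 2, 6,
   0, 4, 2, 6, 4, 8, 6, 4, 2, 0, 4, 2, 6, 4, 2, 6, 11, 11, 11, 11, 2, 4, 6, 4, 2, 0, 4, 2, 6, 8, 4, 6, 4, 8, 6,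
   4, 2, 0, 6, 4, 2, 8, 6, 4, 2, 10, 10, 11, 11, 5, 1, 10, 10, 7, 0, 4, 7, 4, 6, 10, 9, 7, 4, 6, 8, 11, 11, 11,
   9, 7, 4, 6, 8, 10, 10, 6], [7, 11, 11, 5, 1, 10, 10, 6, 7, 11, 11, 5, 1, 10, 10, 6, 7, 11, 11, 5, 1, 10, 10,
   6, 7, 11, 11, 5, 1, 10, 10, 6], [7, 11, 11, 2, 4, 6, 4, 2, 0, 4, 2, 6, 8, 4, 6, 4, 8, 6, 4, 2, 0, 6, 4, 2, 8,
   6, 4, 2, 10, 10, 6, 7, 11, 11, 2, 4, 6, 4, 2, 0, 4, 2, 6, 8, 4, 6, 4, 8, 6, 4, 2, 0, 6, 4, 2, 8, 6, 4, 2, 10,
   10, 6, 7, 11, 11, 2, 4, 6, 4, 2, 0, 4, 2, 6, 8, 4, 6, 4, 8, 6, 4, 2, 0, 6, 4, 2, 8, 6, 4, 2, 10, 10, 6, 7,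
   11, 11, 2, 4, 6, 4, 2, 0, 4, 2, 6, 8, 4, 6, 4, 8, 6, 4, 2, 0, 6, 4, 2, 8, 6, 4, 2, 10, 10, 6], [7, 13, 10,
   12, 2, 4, 6, 4, 2, 6, 0, 4, 2, 6, 4, 8, 6, 4, 2, 0, 4, 2, 6, 4, 2, 6, 11, 11, 6, 7, 13, 10, 12, 2, 4, 6, 4,
   2, 6, 0, 4, 2, 6, 4, 8, 6, 4, 2, 0, 4, 2, 6, 4, 2, 6, 11, 11, 6, 7, 13, 10, 12, 2, 4, 6, 4, 2, 6, 0, 4, 2, 6,
   4, 8, 6, 4, 2, 0, 4, 2, 6, 4, 2, 6, 11, 11, 6, 7, 13, 10, 12, 2, 4, 6, 4, 2, 6, 0, 4, 2, 6, 4, 8, 6, 4, 2, 0,
   4, 2, 6, 4, 2, 6, 11, 11, 6], [11, 11, 2, 4, 6, 4, 2, 0, 4, 2, 6, 8, 4, 6, 4, 8, 6, 4, 2, 0, 6, 4, 2, 8, 6,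
   4, 2, 10, 10, 11, 11, 2, 4, 6, 4, 2, 0, 4, 2, 6, 8, 4, 6, 4, 8, 6, 4, 2, 0, 6, 4, 2, 8, 6, 4, 2, 10, 10, 11,
   11, 2, 4, 6, 4, 2, 0, 4, 2, 6, 8, 4, 6, 4, 8, 6, 4, 2, 0, 6, 4, 2, 8, 6, 4, 2, 10, 10, 11, 11, 2, 4, 6, 4, 2,
   0, 4, 2, 6, 8, 4, 6, 4, 8, 6, 4, 2, 0, 6, 4, 2, 8, 6, 4, 2, 10, 10], [13, 10, 12, 2, 4, 6, 4, 2, 6, 0, 4, 2,
   6, 4, 8, 6, 4, 2, 0, 4, 2, 6, 4, 2, 6, 11, 11, 13, 10, 12, 2, 4, 6, 4, 2, 6, 0, 4, 2, 6, 4, 8, 6, 4, 2, 0, 4,
   2, 6, 4, 2, 6, 11, 11, 13, 10, 12, 2, 4, 6, 4, 2, 6, 0, 4, 2, 6, 4, 8, 6, 4, 2, 0, 4, 2, 6, 4, 2, 6, 11, 11,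
   13, 10, 12, 2, 4, 6, 4, 2, 6, 0, 4, 2, 6, 4, 8, 6, 4, 2, 0, 4, 2, 6, 4, 2, 6, 11, 11], [6, 4, 6, 6, 4, 6, 6,
   4, 6, 6, 4, 6], [0, 4, 0, 4]]

def auxM : List (List ℕ) := [[11, 11, 15, 10, 10, 7, 11, 11, 5, 1, 10, 10, 6, 11, 11, 14, 10, 10, 11, 11, 3, 5, 7, 9, 3, 5, 7, 1, 3, 5, 7,
   9, 5, 7, 5, 9, 7, 3, 5, 1, 3, 5, 7, 5, 3, 10, 10], [11, 11, 15, 10, 10, 7, 11, 11, 2, 4, 6, 4, 2, 0, 4, 2, 6,
   8, 4, 6, 4, 8, 6, 4, 2, 0, 6, 4, 2, 8, 6, 4, 2, 10, 10, 6, 11, 11, 14, 10, 10, 10, 10, 7, 3, 5, 7, 3, 5, 1,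
   3, 5, 7, 9, 5, 7, 3, 5, 1, 7, 3, 5, 7, 5, 3, 13, 11, 12], [11, 11, 15, 10, 10, 7, 13, 10, 12, 2, 4, 6, 4, 2,
   6, 0, 4, 2, 6, 4, 8, 6, 4, 2, 0, 4, 2, 6, 4, 2, 6, 11, 11, 6, 11, 11, 14, 10, 10, 7, 5, 7]]

theorem hM0 : ∀ r ∈ [(.mul (.mul (.mul (.mul (.sq (.lt 6)) (.mul (.lt 10) (.sq (.lt 5)))) (.mul (.mul (.lt 3) (.sq (.lt 6))) (.mul (.lt 2) (.mul (.lt 0) (.lt 5))))) (.mul (.mul (.mul (.lt 5) (.mul (.lt 3) (.lt 6))) (.mul (.lt 6) (.mul (.lt 9) (.lt 5)))) (.mul (.mul (.lt 5) (.sq (.lt 6))) (.mul (.lt 1) (.mul (.lt 2) (.lt 3)))))) (.mul (.mul (.mul (.mul (.lt 4) (.mul (.lt 1) (.lt 2))) (.mul (.lt 3) (.mul (.lt 0) (.lt 1)))) (.mul (.mul (.lt 2) (.mul (.lt 3) (.lt 4))) (.mul (.lt 2) (.mul (.lt 3) (.lt 2))))) (.mul (.mul (.mul (.lt 4) (.mul (.lt 3) (.lt 1))) (.mul (.lt 2) (.mul (.lt 0) (.lt 1)))) (.mul (.mul (.lt 2) (.mul (.lt 3) (.lt 2))) (.mul (.lt 1) (.sq (.lt 5)))))))].map Ex.w, ev ThG.g r = 1 :=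
  (ThG.rρ.mAct ThG.main.2.1 11 (by decide +kernel)).rels (by decide +kernel) (by decide +kernel)

theorem hM1 : ∀ r ∈ [(.mul (.mul (.mul (.mul (.mul (.sq (.lt 6)) (.mul (.lt 10) (.lt 5))) (.mul (.mul (.lt 5) (.lt 3)) (.sq (.lt 6)))) (.mul (.mul (.mul (.lt 1) (.lt 2)) (.mul (.lt 3) (.lt 2))) (.mul (.mul (.lt 1) (.lt 0)) (.mul (.lt 2) (.mul (.lt 1) (.lt 3)))))) (.mul (.mul (.mul (.mul (.lt 4) (.lt 2)) (.mul (.lt 3) (.lt 2))) (.mul (.mul (.lt 4) (.lt 3)) (.mul (.lt 2) (.lt 1)))) (.mul (.mul (.mul (.lt 0) (.lt 3)) (.mul (.lt 2) (.lt 1))) (.mul (.mul (.lt 4) (.lt 3)) (.mul (.lt 2) (.mul (.lt 1) (.lt 5))))))) (.mul (.mul (.mul (.mul (.mul (.lt 5) (.lt 3)) (.sq (.lt 6))) (.mul (.mul (.lt 9) (.lt 5)) (.sq (.lt 5)))) (.mul (.mul (.mul (.lt 5) (.lt 3)) (.mul (.lt 1) (.lt 2))) (.mul (.mul (.lt 3) (.lt 1)) (.mul (.lt 2) (.mul (.lt 0) (.lt 1)))))) (.mul (.mul (.mul (.mul (.lt 2) (.lt 3)) (.mul (.lt 4) (.lt 2))) (.mul (.mul (.lt 3) (.lt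 1)) (.mul (.lt 2) (.lt 0)))) (.mul (.mul (.mul (.lt 3) (.lt 1)) (.mul (.lt 2) (.lt 3))) (.mul (.mul (.lt 2) (.lt 1)) (.mul (.lt 8) (.mul (.lt 6) (.lt 7))))))))].map Ex.w, ev ThG.g r = 1 :=
  (ThG.rρ.mAct ThG.main.2.1 11 (by decide +kernel)).rels (by decide +kernel) (by decide +kernel)

theorem hM2 : ∀ r ∈ [(.mul (.mul (.mul (.mul (.sq (.lt 6)) (.mul (.lt 10) (.sq (.lt 5)))) (.mul (.mul (.lt 3) (.lt 8)) (.mul (.lt 5) (.mul (.lt 7) (.lt 1))))) (.mul (.mul (.mul (.lt 2) (.lt 3)) (.mul (.lt 2) (.mul (.lt 1) (.lt 3)))) (.mul (.mul (.lt 0) (.mul (.lt 2) (.lt 1))) (.mul (.lt 3) (.mul (.lt 2) (.lt 4)))))) (.mul (.mul (.mul (.mul (.lt 3) (.lt 2)) (.mul (.lt 1) (.mul (.lt 0) (.lt 2)))) (.mul (.mul (.lt 1) (.lt 3)) (.mul (.lt 2) (.mul (.lt 1) (.lt 3))))) (.mul (.mul (.sq (.lt 6)) (.mul (.lt 3) (.sq (.lt 6)))) (.mul (.mul (.lt 9) (.sq (.lt 5))) (.mul (.lt 3) (.mul (.lt 2) (.lt 3)))))))].map Ex.w, ev ThG.g r = 1 :=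
  (ThG.rρ.mAct ThG.main.2.1 11 (by decide +kernel)).rels (by decide +kernel) (by decide +kernel)

theorem hM : ∀ r ∈ auxM, ev (lv g0) r = 1 :=
  rels_dbl (n := 8) ThG.hi (by decide +kernel) (by decide +kernel) (rels_of_sub
    (List.forall_mem_append.2 ⟨List.forall_mem_append.2 ⟨hM0, hM1⟩, hM2⟩) (by decide +kernel))

def b0 : List (List ℕ) := [] :: trL tr ThG.rels ++ aux1.map (renW (dbl invF 7 (trL tr U1))) ++ auxM

def b1 : List (List ℕ) := [nat_lit 0xbbfaa8bbeaa904000c,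
  nat_lit 0x6bbeaa6bbeaa6bbeaa6bbe97568aaa97568b75651040029,
  nat_lit 0xee51040004,
  nat_lit 0xb0a1040004,
  nat_lit 0xb4a5040004,
  nat_lit 0xeaeaea51040008,
  nat_lit 0xfbeafbeafbeafbea51040012,
  nat_lit 0xeeee040004,
  nat_lit 0xffbeea040006,
  nat_lit 0xeaeaeaff040008,
  nat_lit 0xfbeafbeafbeafbeaff040012,
  nat_lit 0xeeee040004,
  nat_lit 0xeeee040004,
  nat_lit 0xffff040004,
  nat_lit 0xeebeea040006,
  nat_lit 0xeebeea040006,
  nat_lit 0xeebeea040006,
  nat_lit 0xbeeaff040006,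
  nat_lit 0xfbeeaf040006,
  nat_lit 0xebeeae040006,
  nat_lit 0xbeeaff040006,
  nat_lit 0xaeebff040006,
  nat_lit 0xeeaffb040006,
  nat_lit 0xfaeebf040006,
  nat_lit 0xfaffbf040006,
  nat_lit 0xebeaebeaebeaebfa040010,
  nat_lit 0xebeaebeaebeaebfa040010,
  nat_lit 0xebeaebeaebeaebfa040010,
  nat_lit 0xebeaebeaebeaebfa040010,
  nat_lit 0xebeaebeaebeaebfa040010,
  nat_lit 0xebeaebeaebeaebfa040010,
  nat_lit 0xfbffaf040006,
  nat_lit 0xebeaebeaebfafbfa040010,
  nat_lit 0xebeaebeaebfafbfa040010,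
  nat_lit 0xbeaebeafbfafbfaf040010,
  nat_lit 0xeebbeeaa040008,
  nat_lit 0xeeaaffbb040008,
  nat_lit 0xfaaffbbf040008,
  nat_lit 0xfaaeebbf040008,
  nat_lit 0xeaeafa040006,
  nat_lit 0xeaeafa040006,
  nat_lit 0xeaeafa040006,
  nat_lit 0xbebfbf040006,
  nat_lit 0xbeaebeaebeafbfaf040010,
  nat_lit 0xebeaebeaafaaebfa040010,
  nat_lit 0xeaaebeaaeaaebfaa040010,
  nat_lit 0xebeeae040006,
  nat_lit 0xfbbeeaaf040008,
  nat_lit 0xaaebeaaeaafbfaaf040010,
  nat_lit 0xaeaeaf040006,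
  nat_lit 0xaaaaaaa040007,
  nat_lit 0xaaaaaaa040007,
  nat_lit 0xaaaaaaa040007,
  nat_lit 0xaaaaaaa040007,
  nat_lit 0xbbbbbbb040007,
  nat_lit 0xeeaeeb040006,
  nat_lit 0xaeaeaf040006,
  nat_lit 0xbbbeaeafbbb04000b,
  nat_lit 0xeaebbbbbbfa04000b,
  nat_lit 0xebbeaebbfbbfafbb040010,
  nat_lit 0xafafaf040006,
  nat_lit 0xebeaaaaaaeb04000b,
  nat_lit 0xaeafae040006,
  nat_lit 0xbfbebf040006,
  nat_lit 0xaaaebebeaaa04000b].map decL

def ds : List (List (List ℕ × ℕ × Bool)) := decD [[nat_lit 0xbbfaa9bbeaa04000b000a,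
    nat_lit 0x80400010055],
  [nat_lit 0xfaa7bbfaa7bbfaa7bbfaa7040016000a,
    nat_lit 0x9faa7bbfaa7bbfaa7bbfaa70400170008,
    nat_lit 0x79faa7bbfaa7bbfaa7bbfaa70400180006,
    nat_lit 0xbbb97579faa7bbfaa7bbfaa7bbfaa704001e000a,
    nat_lit 0x9bbb97579faa7bbfaa7bbfaa7bbfaa704001f0008,
    nat_lit 0x79bbb97579faa7bbfaa7bbfaa7bbfaa70400200006,
    nat_lit 0xa97579bbb97579faa7bbfaa7bbfaa7bbfaa70400240008,
    nat_lit 0x7a97579bbb97579faa7bbfaa7bbfaa7bbfaa70400250006,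
    nat_lit 0x757a97579bbb97579faa7bbfaa7bbfaa7bbfaa70400270006,
    nat_lit 0x5757a97579bbb97579faa7bbfaa7bbfaa7bbfaa70400280002,
    nat_lit 0x10000005b],
  [nat_lit 0xff0400020006,
    nat_lit 0x5ff0400030002,
    nat_lit 0x100000045],
  [nat_lit 0xb1a0400030002,
    nat_lit 0x10000002d],
  [nat_lit 0xb5a0400030006,
    nat_lit 0x100000031],
  [nat_lit 0xbfbfbf0400060006,
    nat_lit 0x5bfbfbf0400070002,
    nat_lit 0x5bfbfbf0400070003,
    nat_lit 0xbfbfbf0400060007,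
    nat_lit 0x100000056],
  [nat_lit 0xbfaebfaebfaebfae0400100006,
    nat_lit 0x5bfaebfaebfaebfae0400110002,
    nat_lit 0x5bfaebfaebfaebfae0400110003,
    nat_lit 0xbfaebfaebfaebfae0400100007,
    nat_lit 0x100000058],
  [nat_lit 0x100000077,
    nat_lit 0x290300020077,
    nat_lit 0x10000006b],
  [nat_lit 0xaee0400030077,
    nat_lit 0xee0400020079,
    nat_lit 0x1ee040003007b,
    nat_lit 0xee0400020076],
  [nat_lit 0x10000007d,
    nat_lit 0x100000076],
  [nat_lit 0x10000007f,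
    nat_lit 0x100000076],
  [nat_lit 0x100000081],
  [nat_lit 0x100000089],
  [nat_lit 0x10000008a],
  [nat_lit 0x10000008c,
    nat_lit 0x100000083],
  [nat_lit 0x10000008f],
  [nat_lit 0x100000091],
  [nat_lit 0xa040001008c,
    nat_lit 0x100000092],
  [nat_lit 0x10000008a,
    nat_lit 0xf0400010093],
  [nat_lit 0xe040001008f],
  [nat_lit 0xe0400010099,
    nat_lit 0x10000008d],
  [nat_lit 0xb040001009a],
  [nat_lit 0x10000009c],
  [nat_lit 0xe040001009e],
  [nat_lit 0x10000008a,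
    nat_lit 0xf040001009f],
  [nat_lit 0xbfafbfafbfaf04000c0096,
    nat_lit 0xafbfafbfaf04000a00a0,
    nat_lit 0xbfafbfaf0400080096,
    nat_lit 0xafbfaf04000600a0,
    nat_lit 0xbfaf0400040096,
    nat_lit 0xaf04000200a0,
    nat_lit 0x100000096,
    nat_lit 0x10000008a,
    nat_lit 0xf0400010094,
    nat_lit 0xfaf040003009c,
    nat_lit 0xfbfaf0400050094,
    nat_lit 0xfafbfaf040007009c,
    nat_lit 0xfbfafbfaf0400090094,
    nat_lit 0xfafbfafbfaf04000b009c,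
    nat_lit 0xfbfafbfafbfaf04000d0094,
    nat_lit 0xfafbfafbfafbfaf04000f009c,
    nat_lit 0xbfafbfafbfafbfaf040010008c,
    nat_lit 0xafbfafbfaf04000a00a2,
    nat_lit 0xbfafbfaf0400080096,
    nat_lit 0xaf04000200a2,
    nat_lit 0x100000096,
    nat_lit 0x100000087],
  [nat_lit 0x1000000a5],
  [nat_lit 0x1000000a7],
  [nat_lit 0x1000000a9],
  [nat_lit 0x1000000ab],
  [nat_lit 0x1000000ad],
  [nat_lit 0xe0400010092],
  [nat_lit 0x1000000af,
    nat_lit 0xbfa04000300b1],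
  [nat_lit 0x1000000b3],
  [nat_lit 0x1000000b4],
  [nat_lit 0x100000094,
    nat_lit 0xa0400010093],
  [nat_lit 0x10000009c,
    nat_lit 0xb040001009f],
  [nat_lit 0x10000008a,
    nat_lit 0xf04000100bb],
  [nat_lit 0xe04000100ba],
  [nat_lit 0xbf04000200a0,
    nat_lit 0x1000000a0,
    nat_lit 0x10000008a,
    nat_lit 0xf040001009c,
    nat_lit 0xfbf040003009c,
    nat_lit 0xfbfbf040005009c,
    nat_lit 0xbfbfbf040006008c,
    nat_lit 0x100000085],
  [nat_lit 0x1000000c1],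
  [nat_lit 0x1000000c3],
  [nat_lit 0x1000000c4],
  [nat_lit 0xe04000100b5,
    nat_lit 0x100000097,
    nat_lit 0xaf04000200a1,
    nat_lit 0xbfaf0400040097],
  [nat_lit 0xafbfaf04000600be,
    nat_lit 0x1000000c8,
    nat_lit 0xbfa04000300b0,
    nat_lit 0xa04000100a0,
    nat_lit 0x100000092,
    nat_lit 0xf04000100c8,
    nat_lit 0xfbfafbfaf04000900c6,
    nat_lit 0x1000000af],
  [nat_lit 0xafbbf04000500bc,
    nat_lit 0xbbf0400030096,
    nat_lit 0x1000000be,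
    nat_lit 0x10000008a,
    nat_lit 0xf040001009c,
    nat_lit 0x1000000c6,
    nat_lit 0xa04000100cb],
  [nat_lit 0xe0400010091],
  [nat_lit 0x1000000ce,
    nat_lit 0xaf0400020093],
  [nat_lit 0xe04000100cd,
    nat_lit 0x1000000d1,
    nat_lit 0xaaf04000300a3],
  [nat_lit 0xe04000100c5,
    nat_lit 0x100000097],
  [nat_lit 0x10000002b],
  [nat_lit 0x1000000d7],
  [nat_lit 0x1000000d9],
  [nat_lit 0x1000000db],
  [nat_lit 0x1000000dc],
  [nat_lit 0x10000009c,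
    nat_lit 0xb040001008b],
  [nat_lit 0xb04000100a2,
    nat_lit 0x1000000e0,
    nat_lit 0xf04000100c3],
  [nat_lit 0x1000000dc,
    nat_lit 0xbbb04000300e3],
  [nat_lit 0xfbf04000300dc,
    nat_lit 0x1000000c5],
  [nat_lit 0x1000000d2],
  [nat_lit 0x1000000e0,
    nat_lit 0xf04000100c5],
  [nat_lit 0x1000000ea,
    nat_lit 0xeb04000200dd],
  [nat_lit 0xe04000100c3],
  [nat_lit 0xa04000100ee],
  [nat_lit 0xbbb04000300ea,
    nat_lit 0x1000000dd]]

theorem hd : derB (b0 ++ b1) 57 ds = true := by decide +kernel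

theorem hbs : ∀ r ∈ b0 ++ b1, ev (lv g0) r = 1 :=
  rels_der (List.forall_mem_append.2 ⟨List.forall_mem_append.2 ⟨List.forall_mem_cons.2
    ⟨rfl, rels_tr htr (by decide +kernel) ThG.hg⟩, rels_sub hι1 (by decide +kernel)
      (rels_of_sub hrs1 (by decide +kernel))⟩, hM⟩) (by decide +kernel) (by decide +kernel) hd

def ids : List (List (List ℕ × ℕ × Bool)) := decD [[nat_lit 0x100000001],
  [nat_lit 0x10000000d],
  [nat_lit 0x10000000f],
  [nat_lit 0x100000011],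
  [nat_lit 0x100000013],
  [nat_lit 0x100000015],
  [nat_lit 0x100000017],
  [nat_lit 0xe0400010036,
    nat_lit 0x100000053,
    nat_lit 0xc0400010053,
    nat_lit 0xcc0400020053,
    nat_lit 0x100000036],
  [nat_lit 0xbbeaa040005000a,
    nat_lit 0x100000073,
    nat_lit 0x90400010073,
    nat_lit 0x10000000b],
  [nat_lit 0xbbeaa040005005e,
    nat_lit 0x10000006d,
    nat_lit 0xbb3579357135795759735135753aa04001d006d,
    nat_lit 0xbb35793571357957597351357533579357135795759735135753aa040036006d,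
    nat_lit 0xbb357935713579575973513575335793571357957597351357533579357135795759735135753aa04004f006d,
    nat_lit 0x70300010061],
  [nat_lit 0xbbeaa0400050060,
    nat_lit 0x10000006f,
    nat_lit 0xaa7357351357957351735753dbc04001b006f,
    nat_lit 0xaa7357351357957351735753dbcaa7357351357957351735753dbc040036006f,
    nat_lit 0xaa7357351357957351735753dbcaa7357351357957351735753dbcaa7357351357957351735753dbc040051006f,
    nat_lit 0x70300010063],
  [nat_lit 0xbbeaa0400050062,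
    nat_lit 0x100000071,
    nat_lit 0x1ef0300030071,
    nat_lit 0x3dfef0300060071,
    nat_lit 0x7bfdfef0300090071,
    nat_lit 0x100000069],
  [nat_lit 0x4746a97468bbb97468aa60400160075,
    nat_lit 0x100000008,
    nat_lit 0xeaa70400040076,
    nat_lit 0xbb04faa70400080008,
    nat_lit 0xeaa7bb04faa704000c0076,
    nat_lit 0xbb04faa7bb04faa70400100008,
    nat_lit 0xeaa7bb04faa7bb04faa70400140076,
    nat_lit 0xbb04faa7bb04faa7bb04faa70400180008,
    nat_lit 0xeaa7bb04faa7bb04faa7bb04faa704001c0076,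
    nat_lit 0x100000075,
    nat_lit 0x6bbeaa6bbe97568aaa97568b7565104001d006d,
    nat_lit 0x6bbe97568aaa97568b75651040017006f,
    nat_lit 0xbb97568aaa97568b756510400150071,
    nat_lit 0x6bbeaa757bb97568aaa97568b7565104001e006d,
    nat_lit 0x757bb97568aaa97568b75651040018006f,
    nat_lit 0xaa7357351357957351735753dbc757bb97568aaa97568b75651040033006d,
    nat_lit 0x10000005d],
  [nat_lit 0x100000094,
    nat_lit 0x10000008a,
    nat_lit 0xff040002008f],
  [nat_lit 0x1000000b6,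
    nat_lit 0xafbfa04000500a0,
    nat_lit 0xbfa0400030096,
    nat_lit 0xa04000100a0,
    nat_lit 0x100000092,
    nat_lit 0xf04000100b5],
  [nat_lit 0xaa04000200a0,
    nat_lit 0x1000000b8,
    nat_lit 0xf04000100d2,
    nat_lit 0xafbbf04000500bc,
    nat_lit 0xbbf04000300d4,
    nat_lit 0xfbbbf04000500de,
    nat_lit 0xf04000100e4,
    nat_lit 0xbfaaaf04000600d4,
    nat_lit 0xaaf04000300e6,
    nat_lit 0x1000000d2,
    nat_lit 0xbbfafbb04000700e9,
    nat_lit 0xbb04000200ed,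
    nat_lit 0xbbb04000300d1,
    nat_lit 0xafbbb04000500f1,
    nat_lit 0x1000000f3,
    nat_lit 0xeaaa04000400dd,
    nat_lit 0xaa04000200f1]]

def vs1 : List (List (ℕ × ℤ)) := [[(5, 1), (6, -1), (8, -1), (14, 1)], [(8, 1), (11, -1), (13, -1), (17, 1)], [(5, 1), (7, 1), (9, 2), (10, 1),
   (12, -1), (16, -2), (17, 1), (21, 1), (22, -1), (23, 1), (28, -1)], [(17, 1), (23, -1), (29, -1)], [(18, 1),
   (25, -1), (29, 1)], [(10, -1), (12, 1), (14, 1), (17, -1), (19, 1), (20, 2), (23, -1), (24, 1), (28, -1),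
   (29, 1), (40, -1)], [(5, -1), (6, -1), (7, 1), (9, -2), (12, 1), (13, 1), (15, 2), (16, 2), (18, 1), (19, 1),
   (21, -1), (22, -1), (24, 1), (25, 1), (28, -1), (36, -1), (37, 1), (40, -2)], [(11, -1), (12, 1), (18, 1),
   (20, -2), (21, 1), (22, -1), (24, 1), (25, 1), (26, -1), (30, -2), (32, 1), (40, -1)], [(6, -1), (22, 1),
   (29, -1)], [(6, 1), (10, -1), (23, 1)], [(13, -1), (23, 1), (24, 1)], [(6, 1), (12, -1), (18, 1)], [(5, 1),
   (21, -1), (23, -1), (26, 1)], [(6, 1), (10, 1), (14, -1), (23, -1), (28, -1), (41, 1)], [(8, 1), (14, -1),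
   (21, -1), (28, 1)], [(5, 1), (11, -1), (29, 1)], [(5, -1), (6, -1), (8, 1), (10, -1), (14, 1), (17, 1), (22,
   1), (24, 1), (29, 1), (30, -2)], [(6, -1), (12, -1), (19, 1), (22, 1), (24, -1), (25, 1), (28, 1), (29, 1),
   (31, -2), (41, 1)], [(5, 1), (11, -1), (13, -1), (15, -2), (17, -1), (19, 1), (22, -1), (23, -1), (24, 1),
   (26, -1), (28, 1), (29, -1), (32, 1)], [(5, -1), (7, -3), (8, -1), (9, 1), (12, -1), (24, -1), (33, 1), (40,
   1)], [(0, -1), (2, -1), (3, 1), (4, -4), (5, -1), (9, -1), (11, -1), (18, 1), (24, -1), (30, 1), (31, 1),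
   (32, 1), (34, 1), (36, -1), (37, -1), (39, 1)], [(0, -4), (2, -4), (5, -1), (7, -1), (8, -1), (9, -2), (10,
   1), (11, -1), (12, -1), (13, -1), (14, 1), (18, -2), (19, 1), (21, -1), (28, 1), (29, 1), (35, 1), (36, -1),
   (38, 1), (40, 1), (41, 1)], [(8, -1), (10, 1), (11, -1), (14, -1), (15, -2), (16, -2), (24, -1), (29, -1),
   (30, -2), (31, -2), (32, -1), (38, 1), (40, -1)], [(5, -1), (6, -1), (7, -1), (9, 1), (10, -1), (11, -1),
   (12, -1), (13, 2), (17, 1), (18, 1), (22, -1), (23, 1), (25, 1), (26, 1), (28, -1), (33, 1), (36, -1), (37,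
   1)], [(3, 4), (36, -1), (38, 1)], [(36, 1), (37, -1), (38, -1), (39, 1)], [(5, -1), (8, 1), (10, -1), (13,
   1), (15, -2), (28, 1), (40, 1)], [(5, -1), (7, 1), (8, -1), (9, 2), (10, -1), (11, -1), (12, -1), (21, -1),
   (22, 1), (26, 1), (28, -1), (41, 1)]]

def vs2 : List (List (ℕ × ℤ)) := [[(5, 1), (12, 1), (13, -1)], [(7, 1), (8, -2), (10, 1), (12, 1), (14, -1), (15, -1), (17, -1), (18, -2), (19,
   -1), (26, 1)], [(5, 1), (7, 1), (11, -1)], [(10, 1), (14, -1), (15, 1)], [(7, -1), (17, -1), (20, 1)], [(5,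
   1), (9, -1), (17, 1)], [(15, -1), (17, -1), (18, 1)], [(12, -1), (17, -1), (19, 1)], [(5, -1), (10, 1), (13,
   -1), (16, 1), (17, 1), (19, 1), (22, -2)], [(5, -1), (9, -1), (10, -1), (14, -1), (15, 1), (16, 1)], [(6,
   -1), (8, 1), (11, -1), (14, -1), (16, 1), (20, -1), (21, 2), (23, -1), (24, 1), (25, -1)], [(9, -1), (10,
   -1), (12, 1), (13, 1), (14, 1), (15, 1), (17, -1), (18, 1), (19, 1), (23, -2)], [(6, -1), (8, 1), (9, 1),
   (10, -1), (16, 1), (19, -1), (23, 1), (24, 1), (25, -1)], [(6, -1), (8, 1), (11, 1), (14, 1), (15, 1), (21,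
   2), (23, -1), (24, -1), (25, -1)], [(14, -1), (19, -1), (22, -2), (23, -2), (26, 1)]]

def cs : List (List (ℕ × ℤ)) := [[(4, -2764), (12, -460), (14, 508), (15, -48), (17, 1403), (19, 4), (24, -3556), (39, -12)], [(4, 65), (12,
   11), (14, -12), (15, 1), (17, -33), (24, 84)], [(4, 6), (12, 1), (14, -1), (17, -3), (24, 7)], [(4, 685),
   (12, 114), (14, -126), (15, 12), (17, -348), (19, -1), (24, 882), (39, 3)], [(4, 5256), (12, 874), (14,
   -966), (15, 92), (17, -2668), (19, -8), (24, 6762), (39, 23)], [(33, 1)], [(27, -1), (41, 1)], [(4, -24),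
   (12, -3), (14, 3), (17, 12), (24, -27), (33, 3), (34, -2), (43, -1)]]

def fs : List (ℕ × List (ℕ × ℤ)) := [(1, [(0, -1)]), (2, [(1, -1)]), (3, [(2, -1)]), (4, [(3, -1)]), (5, [(4, -1)]), (6, [(5, -1)]), (7, [(6,
   -1)]), (8, [(7, -1)]), (9, [(8, -1)]), (10, [(9, -1)]), (11, [(10, -1)]), (12, [(11, -1)]), (13, [(12, -1)]),
   (14, [(13, -1)]), (15, [(14, -1)]), (16, [(15, -1)]), (17, []), (18, [(16, -1)]), (19, [(17, -1)]), (20,
   [(18, -1)]), (21, [(19, -1)]), (22, [(20, -1)]), (23, [(21, -1)]), (24, [(22, -1)]), (25, [(23, -1)]), (26,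
   [(24, -1)]), (27, [(25, -1)]), (28, [(26, -1)]), (29, [(27, -1)]), (30, [(28, -1)]), (31, [(29, -1)]), (32,
   [(30, -1)]), (33, []), (34, [(31, -1)]), (35, [(32, -1)]), (36, [(33, -1)]), (37, [(34, -1)]), (38, [(35,
   -1)]), (39, []), (40, [(36, -1)]), (41, [(37, -1)]), (42, [(38, -1)]), (43, [(39, -1)]), (44, [(40, -1)]),
   (45, [(41, -1)])]

def Ls : List (List (ℕ × ℤ)) := idL ids ++ derL 57 ds ++ subL rs1 vs1 ++ subL rs2 vs2

def ra0 : List (List (ℕ × ℤ) × List (ℕ × ℤ)) := [([(0, 1)], [(0, 1)]), ([(6, 1)], [(1, 1)]), ([(7, 1)], [(2, 1)]), ([(8, 1)], [(3, 1)]), ([(9, 1)], [(4, 1)]),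
   ([(10, 1)], [(5, 1)])]

theorem hra0 : stB 122 Ls ra0 = true := by decide +kernel

def ra1 : List (List (ℕ × ℤ) × List (ℕ × ℤ)) := [([(11, 1)], [(6, 1)]), ([(27, -2), (41, 3)], [(7, 1)]), ([(5, -2), (42, 2)], [(8, 1), (16, 2)]), ([(47, -1),
   (48, 1), (54, 4)], [(9, 1)]), ([(48, -1), (49, 1), (55, 4)], [(10, 1)]), ([(49, -1), (52, 1), (56, 4)], [(11,
   1)])]

theorem hra1 : stB 122 Ls ra1 = true := by decide +kernel

def ra2 : List (List (ℕ × ℤ) × List (ℕ × ℤ)) := [([(1, 2), (3, -4), (4, -10), (5, -4), (34, -4), (45, 2), (46, 1), (54, 3), (55, 2), (56, 1)], [(12, 1), (18,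
   -4), (17, 2)]), ([(1, -2), (3, -2), (22, 2), (24, 2)], [(13, 1), (33, -1), (32, 1), (31, 1), (30, 2), (29,
   -1), (24, 2), (20, 2), (19, 2)]), ([(1, -4), (3, -4), (22, 4), (24, 4), (44, -2), (53, 1)], [(14, 1), (50,
   -1), (49, 2), (48, 2), (47, 2), (46, 2), (45, 2), (44, 2), (43, 2), (42, 2), (41, 2), (40, -4), (39, -8),
   (38, 4), (37, -12), (36, 12), (35, 12), (34, -13), (33, -8), (32, -8), (31, -8), (30, 4), (29, 14), (28, 1),
   (27, 1), (26, 2), (24, 4), (23, 1), (22, 2), (20, 4), (19, 4)]), ([(1, 53), (3, 53), (21, 6), (22, -74), (24,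
   -74), (34, 21), (43, 14), (44, -3), (53, 5)], [(15, 1), (80, 1), (79, 2), (78, -2), (77, 1), (76, -2), (75,
   1), (74, -1), (73, -1), (72, -1), (71, 3), (70, -1), (69, 6), (68, 6), (67, 6), (66, 6), (65, -2), (64, -3),
   (63, -2), (62, 2), (61, -3), (60, -3), (59, 6), (58, 6), (57, -11), (56, -14), (55, -14), (54, 6), (53, 2),
   (52, -4), (51, -1), (49, 6), (48, 6), (47, 9), (46, 3), (45, 3), (44, 3), (43, 3), (42, 3), (41, 3), (40,
   -8), (39, 27), (38, -39), (37, 73), (36, -73), (35, -73), (34, -5), (33, -11), (32, -3), (31, -1), (30, -74),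
   (29, 23), (28, 5), (27, 5), (26, 3), (25, -14), (24, -74), (23, 5), (22, 3), (21, -14), (20, -74), (19, -74),
   (18, 21)]), ([(24, -1), (30, 1)], [(81, 1)]), ([(16, 1), (18, -1), (23, -1), (24, 1)], [(82, 1)])]

theorem hra2 : stB 122 Ls ra2 = true := by decide +kernel

def ra3 : List (List (ℕ × ℤ) × List (ℕ × ℤ)) := [([(0, 1), (5, 1), (16, 1), (22, 1), (25, 1), (26, -2), (28, -1), (29, -1), (31, -1), (32, 1), (33, 2)], [(83,
   1)]), ([(2, -1), (5, -1), (16, 1)], [(84, 1)]), ([(2, 1), (4, 1), (15, -1)], [(85, 1)]), ([(1, 1), (2, 1),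
   (3, 1), (5, -1), (16, -1), (19, 2), (28, -1), (30, 1), (31, 1), (32, -1), (52, -1)], [(86, 1)]), ([(0, -2),
   (1, 1), (3, 1), (4, 1), (15, 1), (17, 2), (18, 1), (22, -1), (25, 1), (26, 2), (28, -1), (29, -1), (31, 1),
   (33, -2), (48, -1), (49, 1), (52, -2)], [(87, 1)]), ([(3, 1), (4, 1), (13, -1), (14, -2), (15, 1), (19, -2),
   (20, 1), (22, 1), (23, -1), (29, -1), (31, 1), (52, -1)], [(88, 1)])]

theorem hra3 : stB 122 Ls ra3 = true := by decide +kernel

def ra4 : List (List (ℕ × ℤ) × List (ℕ × ℤ)) := [([(0, -1), (2, -1), (29, 1)], [(89, 1)]), ([(0, 1), (5, 1), (32, -1)], [(90, 1)]), ([(3, 1), (5, 1), (18,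
   -1)], [(91, 1)]), ([(0, 1), (4, 1), (31, -1)], [(92, 1)]), ([(0, 1), (5, -1), (13, 1), (22, -1)], [(93, 1)]),
   ([(0, 1), (5, -1), (28, -1), (30, -1), (32, 1), (53, 1)], [(94, 1)])]

theorem hra4 : stB 122 Ls ra4 = true := by decide +kernel

def ra5 : List (List (ℕ × ℤ) × List (ℕ × ℤ)) := [([(22, -1), (24, 1), (28, 1), (30, -1)], [(95, 1)]), ([(0, 1), (2, 1), (23, -1)], [(96, 1)]), ([(0, -2), (2,
   1), (3, 1), (14, -2), (16, 1), (24, 1), (29, 1), (30, 1), (32, -1)], [(97, 1)]), ([(0, -1), (1, 1), (2, 1),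
   (3, -1), (12, -2), (15, 1), (28, 1), (29, 1), (31, -1), (53, 1)], [(98, 1)]), ([(0, 1), (1, 1), (2, -1), (3,
   1), (5, -1), (13, -1), (16, -1), (17, -2), (18, -1), (20, 1), (23, -1), (28, 1), (29, -1)], [(99, 1)]), ([(0,
   -1), (3, -1), (21, 1), (24, -1), (25, -3), (31, -1), (33, 1), (52, 1)], [(100, 1)])]

theorem hra5 : stB 122 Ls ra5 = true := by decide +kernel

def ra6 : List (List (ℕ × ℤ) × List (ℕ × ℤ)) := [([(0, -6), (3, -1), (4, 1), (12, 1), (14, 1), (20, 1), (23, -1), (33, -1), (46, 1), (48, -1), (49, -1), (51,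
   1)], [(101, 1)]), ([(0, -9), (1, 1), (2, 1), (4, -2), (18, -1), (22, -1), (23, -1), (24, -1), (25, -1), (28,
   1), (30, 1), (31, -1), (32, 1), (33, -2), (47, 1), (48, -1), (50, 1), (52, 1), (53, 1)], [(102, 1)]), ([(2,
   -1), (3, -1), (12, -2), (14, -2), (17, -2), (20, -1), (23, -1), (24, -1), (26, -2), (30, -1), (32, 1), (50,
   1), (52, -1)], [(103, 1)]), ([(0, -2), (4, 1), (5, 1), (13, 1), (15, 1), (16, 1), (18, 2), (21, 1), (23, -1),
   (25, -1), (28, -1), (29, -1), (31, -1), (32, -1), (33, 1), (48, -1), (49, 1)], [(104, 1)]), ([(0, 4), (48,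
   -1), (50, 1)], [(105, 1)]), ([(48, 1), (49, -1), (50, -1), (51, 1)], [(106, 1)])]

theorem hra6 : stB 122 Ls ra6 = true := by decide +kernel

def ra7 : List (List (ℕ × ℤ) × List (ℕ × ℤ)) := [([(0, -1), (17, -2), (18, 1), (24, 1), (28, 1), (32, -1), (52, 1)], [(107, 1)]), ([(0, -1), (13, 1), (22,
   -1), (23, -1), (24, -1), (25, 1), (28, -1), (29, 1), (31, -1), (32, -1), (33, 2), (53, 1)], [(108, 1)]),
   ([(0, 1), (3, 1), (36, -1)], [(109, 1)]), ([(1, 1), (2, -1), (3, 1), (4, 1), (5, -1), (15, -1), (16, -2),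
   (17, -2), (18, -1), (20, 1)], [(110, 1)]), ([(0, 1), (1, 1), (35, -1)], [(111, 1)]), ([(1, -1), (5, -1), (13,
   1)], [(113, 1)])]

theorem hra7 : stB 122 Ls ra7 = true := by decide +kernel

def ra8 : List (List (ℕ × ℤ) × List (ℕ × ℤ)) := [([(0, 1), (5, 1), (37, -1)], [(114, 1)]), ([(3, -1), (5, -1), (18, 1)], [(116, 1)]), ([(0, -1), (4, 1), (5,
   1), (18, 1), (19, -2), (36, -1), (38, 1)], [(117, 1)]), ([(0, -1), (2, 1), (4, -1), (15, -1), (37, -1), (38,
   1)], [(118, 1)]), ([(12, 1), (13, -1), (14, -1), (15, -1), (17, 1), (34, -1), (35, -1), (38, 1), (39, 2),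
   (40, -1)], [(119, 1)]), ([(2, 1), (3, 1), (4, -1), (5, -1), (14, -2), (15, 1), (16, 1), (18, 1), (36, 1),
   (37, -1)], [(120, 1)])]

theorem hra8 : stB 122 Ls ra8 = true := by decide +kernel

def ra9 : List (List (ℕ × ℤ) × List (ℕ × ℤ)) := [([(4, -1), (12, 1), (14, 1), (17, 1), (18, -1), (34, -1), (37, 1), (38, 1), (40, -1)], [(121, 1)]), ([(2, 1),
   (12, -1), (14, -1), (15, 1), (17, 1), (34, -1), (35, 1), (39, 2), (40, -1)], [(122, 1)]), ([(14, -2), (15,
   -1), (18, -1), (19, -2), (20, 1)], [(123, 1)])]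

theorem hra9 : stB 122 Ls ra9 = true := by decide +kernel

def raL : List (List (ℕ × ℤ)) := ra0.map Prod.fst ++ ra1.map Prod.fst ++ ra2.map Prod.fst ++ ra3.map Prod.fst ++ ra4.map Prod.fst ++ ra5.map Prod.fst ++ ra6.map Prod.fst ++ ra7.map Prod.fst ++ ra8.map Prod.fst ++ ra9.map Prod.fst

theorem hra {A : Type} [CommGroup A] {t : ℕ → A} (h : ∀ L ∈ Ls, sp t L = 1) : ∀ L ∈ raL, sp t L = 1 :=
  List.forall_mem_append.2 ⟨List.forall_mem_append.2 ⟨List.forall_mem_append.2 ⟨List.forall_mem_append.2 ⟨List.forall_mem_append.2 ⟨List.forall_mem_append.2 ⟨List.forall_mem_append.2 ⟨List.forall_mem_append.2 ⟨List.forall_mem_append.2 ⟨sp_stage h hra0,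
   sp_stage h hra1⟩, sp_stage h hra2⟩, sp_stage h hra3⟩, sp_stage h hra4⟩, sp_stage h hra5⟩, sp_stage h hra6⟩,
   sp_stage h hra7⟩, sp_stage h hra8⟩, sp_stage h hra9⟩

def rb0 : List (List (ℕ × ℤ) × List (ℕ × ℤ)) := [([(1, 56), (4, -309568), (12, -51520), (14, 56896), (15, -5376), (17, 157136), (19, 448), (24, -398272), (39,
   -1344)], [(0, -399616), (16, -151760), (17, -290136), (19, 239344), (20, -46984), (21, -78568), (23, -27776),
   (24, -76776), (25, 108136), (26, 104328), (27, -183120), (28, 125776), (29, -76776), (30, -153552), (31,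
   290136), (33, 76776), (34, 27776), (42, -106344), (44, 51016), (46, -101360), (47, -75432), (48, 672), (50,
   -51016), (52, 50344), (54, 672), (55, -51016)]), ([(2, 56), (4, 7280), (12, 1232), (14, -1344), (15, 112),
   (17, -3696), (24, 9408)], [(0, 9408), (16, 3528), (17, 6832), (19, -5656), (20, 1120), (21, 1848), (23, 672),
   (24, 1792), (25, -2576), (26, -2464), (27, 4312), (28, -2912), (29, 1792), (30, 3584), (31, -6832), (33,
   -1792), (34, -672), (42, 2520), (44, -1176), (46, 2352), (47, 1736), (50, 1176), (52, -1176), (55, 1176)]),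
   ([(3, 56), (4, 672), (12, 112), (14, -112), (17, -336), (24, 784)], [(0, 784), (16, 336), (17, 560), (19,
   -448), (20, 112), (21, 168), (23, 56), (24, 168), (25, -224), (26, -168), (27, 392), (28, -280), (29, 168),
   (30, 336), (31, -560), (33, -168), (34, -56), (42, 224), (44, -112), (46, 224), (47, 168), (50, 112), (52,
   -112), (55, 112)]), ([(4, 76776), (12, 12768), (14, -14112), (15, 1344), (17, -38976), (19, -112), (24,
   98784), (39, 336)], [(0, 99120), (16, 37632), (17, 71960), (19, -59360), (20, 11648), (21, 19488), (23,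
   6888), (24, 19040), (25, -26824), (26, -25872), (27, 45416), (28, -31192), (29, 19040), (30, 38080), (31,
   -71960), (33, -19040), (34, -6888), (42, 26376), (44, -12656), (46, 25144), (47, 18704), (48, -168), (50,
   12656), (52, -12488), (54, -168), (55, 12656)]), ([(4, 588672), (5, 56), (12, 97888), (14, -108192), (15,
   10304), (17, -298816), (19, -896), (24, 757344), (39, 2576)], [(0, 759920), (16, 288568), (17, 551712), (19,
   -455112), (20, 89320), (21, 149408), (23, 52808), (24, 145992), (25, -205632), (26, -198352), (27, 348208),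
   (28, -239176), (29, 145992), (30, 291984), (31, -551712), (33, -145992), (34, -52808), (42, 202216), (44,
   -97048), (46, 192808), (47, 143416), (48, -1288), (50, 97048), (52, -95760), (54, -1288), (55, 97048)]),
   ([(6, 56)], [(1, 56)]), ([(7, 56)], [(2, 56)]), ([(8, 56)], [(3, 56)]), ([(9, 56)], [(4, 56)]), ([(10, 56)],
   [(5, 56)]), ([(11, 56)], [(6, 56)]), ([(4, -453432), (12, -75376), (14, 83328), (15, -7896), (17, 230160),
   (19, 672), (24, -583296), (39, -2016)], [(0, -585312), (16, -222264), (17, -424928), (19, 350504), (20,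
   -68824), (21, -115080), (23, -40656), (24, -112448), (25, 158368), (26, 152768), (27, -268184), (28, 184240),
   (29, -112448), (30, -224896), (31, 424928), (33, 112448), (34, 40656), (42, -155736), (44, 74760), (46,
   -148512), (47, -110488), (48, 1008), (50, -74760), (52, 73752), (54, 1008), (55, -74760)])]

theorem hrb0 : stB 57 raL rb0 = true := by decide +kernel

def rb1 : List (List (ℕ × ℤ) × List (ℕ × ℤ)) := [([(4, 279104), (12, 46368), (13, 56), (14, -51296), (15, 4928), (17, -141680), (19, -448), (24, 359072), (39,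
   1232)], [(0, 360304), (16, 136808), (17, 261576), (19, -215768), (20, 42336), (21, 70840), (23, 25032), (24,
   69216), (25, -97496), (26, -94024), (27, 165088), (28, -113400), (29, 69216), (30, 138432), (31, -261576),
   (33, -69216), (34, -25032), (42, 95872), (44, -46032), (46, 91448), (47, 68040), (48, -616), (50, 46032),
   (52, -45416), (54, -616), (55, 46032)]), ([(4, 11928), (12, 2016), (14, -2128), (15, 168), (17, -6048), (24,
   15288)], [(0, 15288), (16, 5880), (17, 11144), (19, -9184), (20, 1848), (21, 3024), (23, 1064), (24, 2968),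
   (25, -4144), (26, -4032), (27, 7056), (28, -4872), (29, 2968), (30, 5936), (31, -11144), (33, -2968), (34,
   -1064), (42, 4088), (44, -1960), (46, 3920), (47, 2912), (50, 1960), (52, -1960), (55, 1960)]), ([(4, 84000),
   (12, 14000), (14, -15456), (15, 1512), (17, -42672), (19, -112), (24, 108192), (39, 336)], [(0, 108528), (16,
   41160), (17, 78792), (19, -65016), (20, 12712), (21, 21336), (23, 7560), (24, 20832), (25, -29400), (26,
   -28336), (27, 49728), (28, -34104), (29, 20832), (30, 41664), (31, -78792), (33, -20832), (34, -7560), (42,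
   28896), (44, -13832), (46, 27496), (47, 20440), (48, -168), (50, 13832), (52, -13664), (54, -168), (55,
   13832)]), ([(4, 595952), (12, 99120), (14, -109536), (15, 10416), (16, 56), (17, -302512), (19, -896), (24,
   766752), (39, 2576)], [(0, 769328), (16, 292096), (17, 558544), (19, -460712), (20, 90440), (21, 151256),
   (23, 53480), (24, 147784), (25, -208208), (26, -200816), (27, 352520), (28, -242088), (29, 147784), (30,
   295568), (31, -558544), (33, -147784), (34, -53480), (42, 204736), (44, -98224), (46, 195160), (47, 145152),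
   (48, -1288), (50, 98224), (52, -96936), (54, -1288), (55, 98224)]), ([(4, 589344), (12, 98000), (14,
   -108304), (15, 10304), (17, -299152), (18, 56), (19, -896), (24, 758128), (39, 2576)], [(0, 760704), (16,
   288904), (17, 552272), (19, -455560), (20, 89432), (21, 149576), (23, 52864), (24, 146160), (25, -205856),
   (26, -198576), (27, 348600), (28, -239456), (29, 146160), (30, 292320), (31, -552272), (33, -146160), (34,
   -52864), (42, 202440), (44, -97160), (46, 193032), (47, 143584), (48, -1288), (50, 97160), (52, -95872), (54,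
   -1288), (55, 97160)]), ([(4, 998088), (12, 165984), (14, -183456), (15, 17472), (17, -506688), (19, -1456),
   (24, 1284192), (39, 4368)], [(0, 1288560), (16, 489216), (17, 935480), (19, -771680), (20, 151424), (21,
   253344), (23, 89544), (24, 247520), (25, -348712), (26, -336336), (27, 590408), (28, -405496), (29, 247520),
   (30, 495040), (31, -935480), (33, -247520), (34, -89544), (42, 342888), (44, -164528), (46, 326872), (47,
   243152), (48, -2184), (50, 164528), (52, -162344), (54, -2184), (55, 164528)]), ([(4, 2693376), (12, 448000),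
   (14, -495040), (15, 47040), (17, -1367296), (19, -4032), (20, 56), (24, 3465280), (39, 11648)], [(0,
   3476928), (16, 1320088), (17, 2524312), (19, -2082360), (20, 408744), (21, 683592), (23, 241696), (24,
   667968), (25, -940968), (26, -907648), (27, 1593200), (28, -1094072), (29, 667912), (30, 1335768), (31,
   -2524368), (33, -667912), (34, -241640), (42, 925288), (44, -443912), (46, 882000), (47, 656040), (48,
   -5824), (50, 443912), (52, -438088), (54, -5824), (55, 443912)]), ([(21, 56), (33, 392)], [(0, 1176), (17,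
   56), (20, 56), (21, 56), (24, -112), (25, -336), (27, -112), (28, -336), (29, -112), (30, 168), (31, -224),
   (33, -56), (35, 56), (43, 168), (44, -56), (46, 112), (47, 112), (50, 56), (52, -56), (55, 56)]), ([(4,
   -309568), (12, -51520), (14, 56896), (15, -5376), (17, 157136), (19, 448), (22, 56), (24, -398272), (39,
   -1344)], [(0, -399560), (16, -151760), (17, -290136), (19, 239344), (20, -46984), (21, -78568), (23, -27776),
   (24, -76776), (25, 108136), (26, 104328), (27, -183120), (28, 125720), (29, -76776), (30, -153552), (31,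
   290136), (33, 76776), (34, 27776), (42, -106344), (44, 51016), (46, -101360), (47, -75376), (48, 672), (50,
   -51016), (52, 50344), (54, 672), (55, -51016)]), ([(4, 7280), (12, 1232), (14, -1344), (15, 112), (17,
   -3696), (23, 56), (24, 9408)], [(0, 9464), (16, 3528), (17, 6832), (19, -5656), (20, 1120), (21, 1848), (23,
   672), (24, 1792), (25, -2576), (26, -2464), (27, 4312), (28, -2912), (29, 1792), (30, 3584), (31, -6888),
   (33, -1792), (34, -672), (42, 2520), (44, -1176), (46, 2352), (47, 1736), (50, 1176), (52, -1176), (55,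
   1176)]), ([(4, 672), (12, 112), (14, -112), (17, -336), (24, 840)], [(0, 840), (16, 336), (17, 616), (19,
   -504), (20, 112), (21, 168), (23, 56), (24, 168), (25, -224), (26, -224), (27, 392), (28, -280), (29, 168),
   (30, 336), (31, -616), (33, -168), (34, -56), (42, 224), (44, -112), (46, 224), (47, 168), (50, 112), (52,
   -112), (55, 112)]), ([(4, 76720), (12, 12768), (14, -14112), (15, 1344), (17, -38976), (19, -112), (24,
   98784), (25, 56), (33, 112), (39, 336)], [(0, 99456), (16, 37576), (17, 71960), (19, -59360), (20, 11648),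
   (21, 19488), (23, 6888), (24, 18984), (25, -26936), (26, -25872), (27, 45360), (28, -31248), (29, 18984),
   (30, 38080), (31, -72016), (33, -19040), (34, -6888), (42, 26376), (43, 56), (44, -12656), (46, 25144), (47,
   18704), (48, -168), (50, 12656), (52, -12488), (54, -168), (55, 12656)])]

theorem hrb1 : stB 57 raL rb1 = true := by decide +kernel

def rb2 : List (List (ℕ × ℤ) × List (ℕ × ℤ)) := [([(4, 883008), (12, 146832), (14, -162288), (15, 15456), (17, -448224), (19, -1344), (24, 1136016), (26, 56),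
   (39, 3864)], [(0, 1140048), (16, 432796), (17, 827568), (18, -28), (19, -682640), (20, 133980), (21, 224112),
   (23, 79212), (24, 218932), (25, -308532), (26, -297528), (27, 522312), (28, -358792), (29, 218960), (30,
   437948), (31, -827596), (33, -218988), (34, -79212), (42, 303324), (43, 28), (44, -145572), (46, 289212),
   (47, 215124), (48, -1932), (50, 145572), (52, -143640), (54, -1932), (55, 145572)]), ([(27, -112), (41,
   168)], [(7, 56)]), ([(4, -309568), (12, -51520), (14, 56896), (15, -5376), (17, 157136), (19, 448), (24,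
   -398272), (28, 56), (39, -1344)], [(0, -399560), (16, -151704), (17, -290136), (19, 239344), (20, -46984),
   (21, -78568), (23, -27776), (24, -76776), (25, 108136), (26, 104328), (27, -183120), (28, 125720), (29,
   -76776), (30, -153496), (31, 290136), (33, 76776), (34, 27776), (42, -106344), (44, 51016), (46, -101360),
   (47, -75376), (48, 672), (50, -51016), (52, 50344), (54, 672), (55, -51016)]), ([(4, 7280), (12, 1232), (14,
   -1344), (15, 112), (17, -3696), (24, 9408), (29, 56)], [(0, 9464), (16, 3528), (17, 6832), (19, -5656), (20,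
   1120), (21, 1848), (23, 672), (24, 1848), (25, -2576), (26, -2464), (27, 4312), (28, -2912), (29, 1792), (30,
   3584), (31, -6832), (33, -1792), (34, -672), (42, 2520), (44, -1176), (46, 2352), (47, 1736), (50, 1176),
   (52, -1176), (55, 1176)]), ([(4, 672), (12, 112), (14, -112), (17, -336), (24, 784), (30, 56)], [(0, 840),
   (16, 392), (17, 616), (19, -504), (20, 112), (21, 168), (23, 56), (24, 168), (25, -224), (26, -224), (27,
   392), (28, -280), (29, 168), (30, 336), (31, -616), (33, -168), (34, -56), (42, 224), (44, -112), (46, 224),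
   (47, 168), (50, 112), (52, -112), (55, 112)]), ([(4, 76720), (12, 12768), (14, -14112), (15, 1344), (17,
   -38976), (19, -112), (24, 98784), (31, 56), (39, 336)], [(0, 99176), (16, 37632), (17, 71960), (19, -59360),
   (20, 11648), (21, 19488), (23, 6888), (24, 19040), (25, -26824), (26, -25872), (27, 45360), (28, -31192),
   (29, 19040), (30, 38080), (31, -71960), (33, -19040), (34, -6888), (42, 26376), (44, -12656), (46, 25144),
   (47, 18704), (48, -168), (50, 12656), (52, -12488), (54, -168), (55, 12656)]), ([(4, 588672), (12, 97888),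
   (14, -108192), (15, 10304), (17, -298816), (19, -896), (24, 757344), (32, 56), (39, 2576)], [(0, 759976),
   (16, 288568), (17, 551712), (19, -455112), (20, 89320), (21, 149408), (23, 52808), (24, 145992), (25,
   -205688), (26, -198352), (27, 348208), (28, -239176), (29, 145992), (30, 291984), (31, -551712), (33,
   -145992), (34, -52808), (42, 202216), (44, -97048), (46, 192808), (47, 143416), (48, -1288), (50, 97048),
   (52, -95760), (54, -1288), (55, 97048)]), ([(4, -157136), (12, -26040), (14, 28728), (15, -2688), (17,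
   79744), (19, 224), (24, -201768), (33, 336), (34, -168), (39, -672), (43, -112)], [(0, -202712), (14, 12),
   (15, -8), (16, -77000), (17, -147536), (19, 121740), (20, -23892), (21, -39824), (23, -14028), (24, -39072),
   (25, 54536), (26, 53364), (27, -92972), (28, 64248), (29, -39044), (30, -77780), (31, 147392), (33, 38928),
   (34, 14028), (35, 48), (42, -53900), (43, 144), (44, 25908), (46, -51480), (47, -38820), (48, 336), (50,
   -25908), (52, 25572), (54, 336), (55, -25908)]), ([(4, -309568), (12, -51520), (14, 56896), (15, -5376), (17,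
   157136), (19, 448), (24, -398272), (35, 56), (39, -1344)], [(0, -399560), (16, -151760), (17, -290136), (19,
   239344), (20, -46984), (21, -78568), (23, -27776), (24, -76776), (25, 108136), (26, 104328), (27, -183120),
   (28, 125776), (29, -76776), (30, -153552), (31, 290136), (33, 76776), (34, 27776), (42, -106344), (44,
   51016), (46, -101416), (47, -75432), (48, 672), (50, -51016), (52, 50344), (54, 672), (55, -51016)]), ([(4,
   672), (12, 112), (14, -112), (17, -336), (24, 784), (36, 56)], [(0, 840), (16, 336), (17, 560), (19, -448),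
   (20, 112), (21, 168), (23, 56), (24, 168), (25, -224), (26, -168), (27, 392), (28, -280), (29, 168), (30,
   336), (31, -560), (33, -168), (34, -56), (42, 224), (44, -168), (46, 224), (47, 168), (50, 112), (52, -112),
   (55, 112)]), ([(4, 588672), (12, 97888), (14, -108192), (15, 10304), (17, -298816), (19, -896), (24, 757344),
   (37, 56), (39, 2576)], [(0, 759976), (16, 288568), (17, 551712), (19, -455112), (20, 89320), (21, 149408),
   (23, 52808), (24, 145992), (25, -205632), (26, -198352), (27, 348208), (28, -239176), (29, 145992), (30,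
   291984), (31, -551712), (33, -145992), (34, -52808), (42, 202216), (44, -97048), (46, 192808), (47, 143416),
   (48, -1344), (50, 97048), (52, -95760), (54, -1288), (55, 97048)]), ([(4, 742112), (12, 123424), (14,
   -136416), (15, 12992), (17, -376768), (19, -1120), (24, 954912), (38, 56), (39, 3248)], [(0, 958272), (16,
   363664), (17, 695576), (19, -573776), (20, 112560), (21, 188384), (23, 66584), (24, 184016), (25, -259336),
   (26, -250040), (27, 438984), (28, -301448), (29, 184016), (30, 368032), (31, -695576), (33, -184016), (34,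
   -66584), (42, 254968), (44, -122360), (46, 242984), (47, 180768), (48, -1624), (50, 122360), (52, -120680),
   (54, -1624), (55, 122304)])]

theorem hrb2 : stB 57 raL rb2 = true := by decide +kernel

def rb3 : List (List (ℕ × ℤ) × List (ℕ × ℤ)) := [([(4, 380352), (12, 63168), (14, -69776), (15, 6608), (17, -193144), (19, -560), (24, 489104), (33, -336),
   (34, 224), (39, 1568), (40, 56), (43, 112)], [(0, 491112), (14, -12), (15, 8), (16, 186312), (17, 356808),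
   (19, -294388), (20, 57716), (21, 96496), (23, 34076), (24, 94400), (25, -132600), (26, -128572), (27,
   225020), (28, -154856), (29, 94372), (30, 188436), (31, -356664), (33, -94256), (34, -34076), (35, -48), (42,
   130620), (43, -144), (44, -62700), (46, 124504), (47, 93140), (48, -840), (50, 62700), (52, -61860), (54,
   -840), (55, 62644)]), ([(27, -112), (41, 168)], [(7, 56)]), ([(4, 588672), (12, 97888), (14, -108192), (15,
   10304), (17, -298816), (19, -896), (24, 757344), (39, 2576), (42, 56)], [(0, 759920), (8, 28), (16, 288568),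
   (17, 551712), (18, -28), (19, -455112), (20, 89320), (21, 149408), (22, -28), (23, 52808), (24, 145964), (25,
   -205660), (26, -198352), (27, 348208), (28, -239176), (29, 145992), (30, 291984), (31, -551740), (33,
   -145992), (34, -52808), (35, -28), (39, 28), (42, 202188), (44, -97048), (46, 192808), (47, 143388), (48,
   -1288), (50, 97048), (52, -95760), (54, -1288), (55, 97048)]), ([(4, -150416), (12, -25200), (14, 27888),
   (15, -2688), (17, 76384), (19, 224), (24, -194208), (33, -672), (34, 336), (39, -672), (43, 224)], [(0,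
   -194336), (14, -24), (15, 16), (16, -73808), (17, -140384), (19, 115704), (20, -22776), (21, -38288), (23,
   -13608), (24, -37104), (25, 53216), (26, 49848), (27, -88904), (28, 60336), (29, -37160), (30, -74936), (31,
   140672), (33, 37392), (34, 13608), (35, -96), (42, -51800), (43, -288), (44, 24792), (46, -49248), (47,
   -35592), (48, 336), (50, -24792), (52, 24456), (54, 336), (55, -24792)]), ([(4, -154448), (12, -25704), (14,
   28392), (15, -2688), (17, 78400), (19, 224), (24, -198744), (39, -672), (44, 56)], [(0, -199192), (14, -28),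
   (16, -75656), (17, -144648), (19, 119308), (20, -23436), (21, -39200), (23, -13860), (24, -38304), (25,
   53984), (26, 51940), (27, -91364), (28, 62608), (29, -38276), (30, -76580), (31, 144648), (33, 38304), (34,
   13860), (42, -53060), (44, 25452), (46, -50568), (47, -37492), (48, 336), (50, -25452), (52, 25116), (54,
   336), (55, -25452)]), ([(4, 1402128), (12, 233408), (14, -258048), (15, 24640), (17, -711928), (19, -2128),
   (24, 1804992), (33, 672), (34, -448), (39, 6160), (43, -224), (45, 56)], [(0, 1809656), (9, -21), (10, -14),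
   (11, -7), (12, 28), (14, 24), (15, -16), (16, 687575), (17, 1313766), (18, 21), (19, -1083678), (20, 212686),
   (21, 356039), (22, 7), (23, 125944), (24, 347666), (25, -490506), (26, -471654), (27, 829518), (28, -568886),
   (29, 347701), (30, 695906), (31, -1313956), (33, -347863), (34, -125930), (35, 96), (36, -28), (37, -21),
   (38, -14), (40, 63), (41, 28), (42, 481915), (43, 239), (44, -231159), (46, 459238), (47, 340582), (48,
   -3080), (50, 231159), (52, -228079), (54, -3080), (55, 231159)])]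

theorem hrb3 : stB 57 raL rb3 = true := by decide +kernel

def rbL : List (List (ℕ × ℤ)) := rb0.map Prod.fst ++ rb1.map Prod.fst ++ rb2.map Prod.fst ++ rb3.map Prod.fst

theorem hrb {A : Type} [CommGroup A] {t : ℕ → A} (h : ∀ L ∈ raL, sp t L = 1) : ∀ L ∈ rbL, sp t L = 1 :=
  List.forall_mem_append.2 ⟨List.forall_mem_append.2 ⟨List.forall_mem_append.2 ⟨sp_stage h hrb0,
   sp_stage h hrb1⟩, sp_stage h hrb2⟩, sp_stage h hrb3⟩

theorem hf : finB (b0 ++ b1) ThG.rels tr 8 56 cs rbL fs = true := by decide +kernel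

theorem hids : allL ids (fun c => eqF (b0 ++ b1) c []) = true := by decide +kernel

open scoped IsMulCommutative in
open ThC ThUT in
theorem sb : SBnd Cfsg.Spor.Th 1 [] :=
  sbnd_of_tails (lifts_of_ltOk ThG.lt (rels := ThG.rels) (by decide +kernel)) ThG.lt.genL_top htr hbs (n := 8) (k := 56)
    (m := 17890875) ((ThUp2.sb.append (SBnd.of_sub inj ThKT.sb ThG.main.1)).of_eq (by decide +kernel) rfl)
    (by decide +kernel) hf fun _ _ _ _ _ T => hrb (hra (List.forall_mem_append.2 ⟨List.forall_mem_append.2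
      ⟨List.forall_mem_append.2 ⟨T.idents' ids hids, T.ders hd⟩, T.subs hι1 ThKT.sb (Nat.coprime_one_left _) hrs1 vs1
        (by decide +kernel)⟩, T.subs hι2 ThUT.sb (Nat.coprime_one_left _) hrs2 vs2 (by decide +kernel)⟩))

end Cfsg.Agent.Known.ThMul
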